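import Groth.Agent.Lib.Helper58.CmpSeq2

/-!
# The comparison sequence, part 3: image of `H^i_{a+Rb}(M) → H^i_a(M)` is the `b`-power torsion.
-/

set_option autoImplicit false
universe u
open CategoryTheory CategoryTheory.Limits Opposite CategoryTheory.Abelian

namespace Groth.Agent.Lib.Helper58.CmpSeq

open Groth.Agent.Lib.Helper41.LC

variable {R : Type u} [CommRing R]

/-- If `r` acts bijectively on `M`, it acts bijectively on `H^i_I(M)`. -/
theorem smul_bijective_H (I : Ideal R) (i : ℕ) (M : ModuleCat.{u} R) (r : R)
    (hbij : Function.Bijective (fun m : M => r • m)) :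
    Function.Bijective (fun y : (localCohomology I i).obj M => r • y) := by
  have hiso : IsIso (r • 𝟙 M) := by
    rw [ConcreteCategory.isIso_iff_bijective]
    exact hbij
  have hiso2 : IsIso ((localCohomology I i).map (r • 𝟙 M)) := inferInstance
  have h := ConcreteCategory.bijective_of_isIso ((localCohomology I i).map (r • 𝟙 M))
  have h2 : (fun y : (localCohomology I i).obj M => r • y) =
      ((localCohomology I i).map (r • 𝟙 M)).hom := by
    funext y
    exact (map_smul_id I i M r y).symm
  rw [h2]
  exact h

variable [IsNoetherianRing R] (a : Ideal R) (b : R)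

/-- `b^n` acts bijectively on `H^i_a(M_b)`. -/
theorem pow_smul_bijective_H_localized (i n : ℕ) (M : Type u) [AddCommGroup M] [Module R M] :
    Function.Bijective (fun y : (localCohomology a i).obj
      (ModuleCat.of R (LocalizedModule (Submonoid.powers b) M)) => b ^ n • y) := by
  apply smul_bijective_H
  have h1 := IsLocalizedModule.map_units (S := Submonoid.powers b)
    (LocalizedModule.mkLinearMap (Submonoid.powers b) M)
    (⟨b ^ n, n, rfl⟩ : Submonoid.powers b)
  exact (Module.End.isUnit_iff _).1 h1

/-- The image of the comparison map `H^i_{a+Rb}(M) → H^i_a(M)` is exactly the `b`-power torsion. -/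
theorem mem_range_cmpH_iff (i : ℕ) (M : Type u) [AddCommGroup M] [Module R M]
    (x : (localCohomology a i).obj (ModuleCat.of R M)) :
    x ∈ LinearMap.range (cmpH (le_sup_left : a ≤ a ⊔ Ideal.span {b}) i (ModuleCat.of R M)) ↔
      ∃ n : ℕ, b ^ n • x = 0 := by
  constructor
  · rintro ⟨y, rfl⟩
    obtain ⟨n, hn⟩ := isTorsion_H (a ⊔ Ideal.span {b}) i (ModuleCat.of R M) y
    refine ⟨n, ?_⟩
    rw [← map_smul, hn _ (Ideal.pow_mem_pow (Ideal.mem_sup_right (Ideal.mem_span_singleton_self b)) n),
      map_zero]
  · rintro ⟨n, hn⟩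
    apply (exact_cmpH_localization a b M i x).1
    apply (pow_smul_bijective_H_localized a b i n M).1
    change b ^ n • _ = b ^ n • _
    rw [← map_smul, hn, map_zero, smul_zero]

end Groth.Agent.Lib.Helper58.CmpSeq
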