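import Groth.Agent.Lib.Helper58.DTBase
import Mathlib.LinearAlgebra.TensorProduct.Pi

/-!
# Flat base change of the torsion functor `Γ_I`
-/

set_option autoImplicit false
universe u
open CategoryTheory CategoryTheory.Limits Opposite TensorProduct
open LocCoh

namespace Groth.Agent.Lib.Helper58.FlatBC3

variable {R : Type u} [CommRing R] (R' : Type u) [CommRing R'] [Algebra R R'] (I : Ideal R)
variable (M : Type u) [AddCommGroup M] [Module R M]

/-- The map `m ↦ (a • m)_{a ∈ s}`. -/
noncomputable def smulPi (s : Finset R) : M →ₗ[R] (↥s → M) :=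
  LinearMap.pi (fun a : ↥s => (a : R) • LinearMap.id)

theorem piRight_baseChange_smulPi (s : Finset R) [DecidableEq ↥s] (t : R' ⊗[R] M) (a : ↥s) :
    piRight R R' R' (fun _ : ↥s => M) ((smulPi M s).baseChange R' t) a = (a : R) • t := by
  induction t using TensorProduct.induction_on with
  | zero => simp
  | tmul r' m =>
    rw [LinearMap.baseChange_tmul, piRight_apply, piRightHom_tmul]
    simp only [smulPi, LinearMap.pi_apply, LinearMap.smul_apply, LinearMap.id_coe, id_eq]
    exact (TensorProduct.tmul_smul _ _ _)
  | add x y hx hy => rw [map_add, map_add, Pi.add_apply, hx, hy, smul_add]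

theorem ker_smulPi_le (s : Finset R) (n : ℕ) (hs : Ideal.span (s : Set R) = I ^ n) :
    LinearMap.ker (smulPi M s) ≤ DRing.torsionSub I M := by
  intro m hm
  rw [LinearMap.mem_ker] at hm
  refine ⟨n, fun a ha => ?_⟩
  rw [← hs] at ha
  induction ha using Submodule.span_induction with
  | mem y hy =>
    have := congrFun hm ⟨y, hy⟩
    simpa [smulPi] using this
  | zero => exact zero_smul _ _
  | add y z _ _ hy hz => rw [add_smul, hy, hz, add_zero]
  | smul c y _ hy => rw [smul_eq_mul, mul_smul, hy, smul_zero]

theorem baseChange_subtype_injective [Module.Flat R R'] :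
    Function.Injective ((DRing.torsionSub I M).subtype.baseChange R') := by
  rw [LinearMap.baseChange_eq_ltensor]
  exact Module.Flat.lTensor_preserves_injective_linearMap _ (DRing.torsionSub I M).injective_subtype

theorem range_le :
    LinearMap.range ((DRing.torsionSub I M).subtype.baseChange R') ≤
      DRing.torsionSub (Ideal.map (algebraMap R R') I) (R' ⊗[R] M) := by
  rintro _ ⟨t, rfl⟩
  induction t using TensorProduct.induction_on with
  | zero => rw [map_zero]; exact Submodule.zero_mem _
  | tmul r' m =>
    obtain ⟨m, n, hn⟩ := m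
    rw [LinearMap.baseChange_tmul]
    refine ⟨n, fun b hb => ?_⟩
    refine DTBase.smul_eq_zero_of_mem_map_pow I (R' ⊗[R] M) n _ (fun a ha => ?_) b hb
    change a • (r' ⊗ₜ[R] m) = 0
    rw [← TensorProduct.tmul_smul, hn a ha, TensorProduct.tmul_zero]
  | add x y hx hy => rw [map_add]; exact Submodule.add_mem _ hx hy

theorem le_range [IsNoetherianRing R] [Module.Flat R R'] :
    DRing.torsionSub (Ideal.map (algebraMap R R') I) (R' ⊗[R] M) ≤
      LinearMap.range ((DRing.torsionSub I M).subtype.baseChange R') := by
  classical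
  rintro z ⟨n, hn⟩
  obtain ⟨s, hs⟩ := (IsNoetherian.noetherian (I ^ n) : (I ^ n).FG)
  have hz : (smulPi M s).baseChange R' z = 0 := by
    apply (piRight R R' R' (fun _ : ↥s => M)).injective
    rw [map_zero]
    funext a
    rw [piRight_baseChange_smulPi, Pi.zero_apply, ← algebraMap_smul R' (a : R) z]
    apply hn
    exact DTBase.algebraMap_mem_map_pow (R' := R') I n a (by rw [← hs]; exact Ideal.subset_span a.2)
  have hex : Function.Exact ((LinearMap.ker (smulPi M s)).subtype.baseChange R')
      ((smulPi M s).baseChange R') := by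
    rw [LinearMap.baseChange_eq_ltensor, LinearMap.baseChange_eq_ltensor]
    exact Module.Flat.lTensor_exact R' (LinearMap.exact_subtype_ker_map (smulPi M s))
  obtain ⟨w, rfl⟩ := (hex z).1 hz
  refine ⟨(Submodule.inclusion (ker_smulPi_le I M s n hs)).baseChange R' w, ?_⟩
  rw [← LinearMap.comp_apply, ← LinearMap.baseChange_comp]
  rfl

/-- S11616. -/
theorem range_eq [IsNoetherianRing R] [Module.Flat R R'] :
    LinearMap.range ((DRing.torsionSub I M).subtype.baseChange R') =
      DRing.torsionSub (Ideal.map (algebraMap R R') I) (R' ⊗[R] M) :=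
  le_antisymm (range_le R' I M) (le_range R' I M)

end Groth.Agent.Lib.Helper58.FlatBC3
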