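import Groth.Agent.Lib.Helper58.FlatBC2
import Groth.Agent.Lib.Helper58.FlatBC3

/-!
# Flat base change for local cohomology: `R' ⊗ H^i_I(M) ≃ H^i_{IR'}(R' ⊗ M)`
-/

set_option autoImplicit false
universe u
open CategoryTheory CategoryTheory.Limits Opposite CategoryTheory.Abelian TensorProduct
open LocCoh

namespace Groth.Agent.Lib.Helper58.FlatBC4
open Groth.Agent.Lib.Helper41.LC

/-- Two quotients of the same module by maps with the same kernel are isomorphic. -/
theorem nonempty_linearEquiv_of_surjective {S A B₁ B₂ : Type*} [CommRing S] [AddCommGroup A]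
    [AddCommGroup B₁] [AddCommGroup B₂] [Module S A] [Module S B₁] [Module S B₂]
    (p₁ : A →ₗ[S] B₁) (p₂ : A →ₗ[S] B₂) (h₁ : Function.Surjective p₁)
    (h₂ : Function.Surjective p₂) (hker : LinearMap.ker p₁ = LinearMap.ker p₂) :
    Nonempty (B₁ ≃ₗ[S] B₂) :=
  ⟨(p₁.quotKerEquivOfSurjective h₁).symm ≪≫ₗ Submodule.quotEquivOfEq _ _ hker ≪≫ₗ
    p₂.quotKerEquivOfSurjective h₂⟩

variable {R : Type u} [CommRing R] {R' : Type u} [CommRing R'] [Algebra R R'] [Module.Flat R R']

section bc
variable {A B C : Type u} [AddCommGroup A] [Module R A] [AddCommGroup B] [Module R B]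
  [AddCommGroup C] [Module R C] (f : A →ₗ[R] B) (g : B →ₗ[R] C) (hfg : Function.Exact f g)

/-- The base change of a short complex of modules. -/
noncomputable def bcSC : ShortComplex (ModuleCat.{u} R') :=
  ShortComplex.mk (ModuleCat.ofHom (f.baseChange R')) (ModuleCat.ofHom (g.baseChange R')) (by
    rw [← ModuleCat.ofHom_comp, ← LinearMap.baseChange_comp,
      (show g ∘ₗ f = 0 from hfg.linearMap_comp_eq_zero), LinearMap.baseChange_zero]
    rfl)

theorem bcSC_shortExact (hf : Function.Injective f) (hg : Function.Surjective g) :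
    (bcSC (R' := R') f g hfg).ShortExact := by
  apply ModuleCat.shortComplex_shortExact
  · change Function.Exact (f.baseChange R') (g.baseChange R')
    rw [LinearMap.baseChange_eq_ltensor, LinearMap.baseChange_eq_ltensor]
    exact Module.Flat.lTensor_exact R' hfg
  · change Function.Injective (f.baseChange R')
    rw [LinearMap.baseChange_eq_ltensor]
    exact Module.Flat.lTensor_preserves_injective_linearMap _ hf
  · change Function.Surjective (g.baseChange R')
    rw [LinearMap.baseChange_eq_ltensor]
    exact LinearMap.lTensor_surjective R' hg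

end bc

variable (I : Ideal R)

local notation "J" => Ideal.map (algebraMap R R') I

section deg0
variable (M : Type u) [AddCommGroup M] [Module R M]

/-- `R' ⊗ H^0_I(M) → R' ⊗ M`. -/
noncomputable def θ : R' ⊗[R] ↑((localCohomology I 0).obj (ModuleCat.of R M)) →ₗ[R'] R' ⊗[R] M :=
  (toMod I (ModuleCat.of R M)).baseChange R'

theorem θ_injective : Function.Injective (θ (R' := R') I M) := by
  unfold θ
  rw [LinearMap.baseChange_eq_ltensor]
  exact Module.Flat.lTensor_preserves_injective_linearMap _ (toMod_injective I _)

omit [Module.Flat R R'] in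
theorem range_toMod (K : Ideal R') (X : Type u) [AddCommGroup X] [Module R' X] :
    LinearMap.range (toMod K (ModuleCat.of R' X)) = DRing.torsionSub K X := by
  ext x
  rw [mem_range_toMod_iff]
  rfl

variable [IsNoetherianRing R]

theorem range_θ : LinearMap.range (θ (R' := R') I M) =
    LinearMap.range (toMod J (ModuleCat.of R' (R' ⊗[R] M))) := by
  rw [range_toMod, ← FlatBC3.range_eq R' I M]
  have hmem : ∀ x, toMod I (ModuleCat.of R M) x ∈ DRing.torsionSub I M := by
    intro x
    have : toMod I (ModuleCat.of R M) x ∈ LinearMap.range (toMod I (ModuleCat.of R M)) := ⟨x, rfl⟩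
    rwa [range_toMod] at this
  let e : ↑((localCohomology I 0).obj (ModuleCat.of R M)) →ₗ[R] ↥(DRing.torsionSub I M) :=
    (toMod I (ModuleCat.of R M)).codRestrict _ hmem
  have he : Function.Surjective e := by
    rintro ⟨m, hm⟩
    have : m ∈ LinearMap.range (toMod I (ModuleCat.of R M)) := by rwa [range_toMod]
    obtain ⟨x, hx⟩ := this
    exact ⟨x, Subtype.ext hx⟩
  have hcomp : θ (R' := R') I M =
      (DRing.torsionSub I M).subtype.baseChange R' ∘ₗ e.baseChange R' := by
    rw [← LinearMap.baseChange_comp]
    rfl
  rw [hcomp, LinearMap.range_comp_of_range_eq_top]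
  rw [LinearMap.range_eq_top, LinearMap.baseChange_eq_ltensor]
  exact LinearMap.lTensor_surjective R' he

/-- The degree `0` base change isomorphism. -/
noncomputable def phi0 : R' ⊗[R] ↑((localCohomology I 0).obj (ModuleCat.of R M)) ≃ₗ[R']
    ↑((localCohomology J 0).obj (ModuleCat.of R' (R' ⊗[R] M))) :=
  LinearEquiv.ofInjective (θ (R' := R') I M) (θ_injective I M) ≪≫ₗ
    LinearEquiv.ofEq _ _ (range_θ I M) ≪≫ₗ
    (LinearEquiv.ofInjective (toMod J (ModuleCat.of R' (R' ⊗[R] M))) (toMod_injective _ _)).symm

theorem ofInjective_symm_val {A M N : Type*} [Ring A] [AddCommGroup M] [AddCommGroup N]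
    [Module A M] [Module A N] (f : M →ₗ[A] N) (hf : Function.Injective f)
    (y : LinearMap.range f) : f ((LinearEquiv.ofInjective f hf).symm y) = y.1 := by
  have := congrArg Subtype.val ((LinearEquiv.ofInjective f hf).apply_symm_apply y)
  rwa [LinearEquiv.ofInjective_apply] at this

theorem toMod_phi0 (x : R' ⊗[R] ↑((localCohomology I 0).obj (ModuleCat.of R M))) :
    toMod J (ModuleCat.of R' (R' ⊗[R] M)) (phi0 (R' := R') I M x) = θ I M x := by
  unfold phi0
  simp only [LinearEquiv.trans_apply]
  refine (ofInjective_symm_val (toMod J (ModuleCat.of R' (R' ⊗[R] M))) (toMod_injective _ _) _).trans ?_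
  rfl

theorem phi0_naturality {N : Type u} [AddCommGroup N] [Module R N] (g : M →ₗ[R] N)
    (x : R' ⊗[R] ↑((localCohomology I 0).obj (ModuleCat.of R M))) :
    phi0 (R' := R') I N ((((localCohomology I 0).map (ModuleCat.ofHom g)).hom.baseChange R') x) =
      ((localCohomology J 0).map (ModuleCat.ofHom (g.baseChange R'))).hom (phi0 I M x) := by
  apply toMod_injective J (ModuleCat.of R' (R' ⊗[R] N))
  rw [toMod_phi0, toMod_naturality, toMod_phi0]
  have h : toMod I (ModuleCat.of R N) ∘ₗ ((localCohomology I 0).map (ModuleCat.ofHom g)).hom =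
      g ∘ₗ toMod I (ModuleCat.of R M) := LinearMap.ext (fun y => toMod_naturality I _ y)
  unfold θ
  rw [← LinearMap.comp_apply, ← LinearMap.baseChange_comp, h, LinearMap.baseChange_comp]
  rfl

end deg0

section step
variable [IsNoetherianRing R]
variable {M E : Type u} [AddCommGroup M] [Module R M] [AddCommGroup E] [Module R E]
  (ι : M →ₗ[R] E)

/-- The short complex `M → E → E/M` over `R`. -/
noncomputable def SR : ShortComplex (ModuleCat.{u} R) :=
  ShortComplex.mk (ModuleCat.ofHom ι) (ModuleCat.ofHom (LinearMap.range ι).mkQ) (by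
    ext x
    change (LinearMap.range ι).mkQ (ι x) = 0
    simp)

omit [IsNoetherianRing R] in
theorem SR_shortExact (hι : Function.Injective ι) : (SR ι).ShortExact := by
  apply ModuleCat.shortComplex_shortExact
  · exact LinearMap.exact_map_mkQ_range ι
  · exact hι
  · exact (LinearMap.range ι).mkQ_surjective

/-- The base-changed short complex over `R'`. -/
noncomputable abbrev SR' : ShortComplex (ModuleCat.{u} R') :=
  bcSC (R' := R') ι (LinearMap.range ι).mkQ (LinearMap.exact_map_mkQ_range ι)

omit [IsNoetherianRing R] in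
theorem SR'_shortExact (hι : Function.Injective ι) : (SR' (R' := R') ι).ShortExact :=
  bcSC_shortExact _ _ _ hι (LinearMap.range ι).mkQ_surjective

variable [Module.Injective R E] (hι : Function.Injective ι)

include hι in
theorem step (i : ℕ)
    (φ : R' ⊗[R] ↑((localCohomology I i).obj (ModuleCat.of R (E ⧸ LinearMap.range ι))) ≃ₗ[R']
      ↑((localCohomology J i).obj (ModuleCat.of R' (R' ⊗[R] (E ⧸ LinearMap.range ι)))))
    (hrange : ∀ y, y ∈ LinearMap.range (((localCohomology I i).map (SR ι).g).hom.baseChange R') ↔
      φ y ∈ LinearMap.range ((localCohomology J i).map (SR' (R' := R') ι).g).hom) :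
    Nonempty (R' ⊗[R] ↑((localCohomology I (i + 1)).obj (ModuleCat.of R M)) ≃ₗ[R']
      ↑((localCohomology J (i + 1)).obj (ModuleCat.of R' (R' ⊗[R] M)))) := by
  have hS := SR_shortExact ι hι
  have hS' := SR'_shortExact (R' := R') ι hι
  have hsI : Function.Surjective (δ I hS i (i + 1) rfl) := by
    intro x
    haveI : Injective (ModuleCat.of R E) := Module.injective_object_of_injective_module R E
    have : Subsingleton ((localCohomology I (i + 1)).obj (SR ι).X₂) :=
      subsingleton_of_injective I (ModuleCat.of R E) (i + 1) (Nat.succ_pos i)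
    exact exact₁ I hS i (i + 1) rfl x (Subsingleton.elim _ _)
  have hsJ : Function.Surjective (δ J hS' i (i + 1) rfl) := by
    intro x
    have : Subsingleton ((localCohomology J (i + 1)).obj (SR' (R' := R') ι).X₂) :=
      FlatBC.subsingleton_H R' E I (i + 1) (Nat.succ_pos i)
    exact exact₁ J hS' i (i + 1) rfl x (Subsingleton.elim _ _)
  have hexI : Function.Exact ((localCohomology I i).map (SR ι).g).hom (δ I hS i (i + 1) rfl) := by
    intro y
    constructor
    · intro h
      obtain ⟨x, hx⟩ := exact₃ I hS i (i + 1) rfl y h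
      exact ⟨x, hx⟩
    · rintro ⟨x, rfl⟩
      exact δ_map_eq_zero I hS i (i + 1) rfl x
  have hexJ : Function.Exact ((localCohomology J i).map (SR' (R' := R') ι).g).hom
      (δ J hS' i (i + 1) rfl) := by
    intro y
    constructor
    · intro h
      obtain ⟨x, hx⟩ := exact₃ J hS' i (i + 1) rfl y h
      exact ⟨x, hx⟩
    · rintro ⟨x, rfl⟩
      exact δ_map_eq_zero J hS' i (i + 1) rfl x
  have hex₁ : Function.Exact (((localCohomology I i).map (SR ι).g).hom.baseChange R')
      ((δ I hS i (i + 1) rfl).baseChange R') := by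
    rw [LinearMap.baseChange_eq_ltensor, LinearMap.baseChange_eq_ltensor]
    exact lTensor_exact R' hexI hsI
  have hs₁ : Function.Surjective ((δ I hS i (i + 1) rfl).baseChange R') := by
    rw [LinearMap.baseChange_eq_ltensor]
    exact LinearMap.lTensor_surjective R' hsI
  refine nonempty_linearEquiv_of_surjective ((δ I hS i (i + 1) rfl).baseChange R')
    ((δ J hS' i (i + 1) rfl) ∘ₗ φ.toLinearMap) hs₁ (hsJ.comp φ.surjective) ?_
  ext y
  constructor
  · intro hy
    have h1 := (hex₁ y).1 hy
    exact (hexJ (φ y)).2 ((hrange y).1 h1)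
  · intro hy
    have h2 := (hexJ (φ y)).1 hy
    exact (hex₁ y).2 ((hrange y).2 h2)

end step

section main
variable [IsNoetherianRing R]

omit [Module.Flat R R'] [IsNoetherianRing R] in
theorem exists_injective_embedding (M : Type u) [AddCommGroup M] [Module R M] :
    ∃ (E : Type u) (_ : AddCommGroup E) (_ : Module R E) (_ : Module.Injective R E)
      (ι : M →ₗ[R] E), Function.Injective ι := by
  let E₀ := Injective.under (ModuleCat.of R M)
  exact ⟨E₀, inferInstance, inferInstance,
    @Module.injective_module_of_injective_object R E₀ _ _ _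
      (show Injective (ModuleCat.of R E₀) from
        (inferInstance : Injective (Injective.under (ModuleCat.of R M)))),
    (Injective.ι (ModuleCat.of R M)).hom, (ModuleCat.mono_iff_injective _).1 inferInstance⟩

/-- S11617. -/
theorem nonempty_equiv (i : ℕ) : ∀ (M : Type u) [AddCommGroup M] [Module R M],
    Nonempty (R' ⊗[R] ↑((localCohomology I i).obj (ModuleCat.of R M)) ≃ₗ[R']
      ↑((localCohomology J i).obj (ModuleCat.of R' (R' ⊗[R] M)))) := by
  induction i with
  | zero =>
    intro M _ _
    exact ⟨phi0 I M⟩
  | succ i ih =>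
    intro M _ _
    obtain ⟨E, _, _, _, ι, hι⟩ := exists_injective_embedding (R := R) M
    rcases Nat.eq_zero_or_pos i with rfl | hi
    · refine step I ι hι 0 (phi0 I (E ⧸ LinearMap.range ι)) (fun y => ?_)
      constructor
      · rintro ⟨x, rfl⟩
        exact ⟨phi0 I E x, (phi0_naturality I E (LinearMap.range ι).mkQ x).symm⟩
      · rintro ⟨z, hz⟩
        obtain ⟨x, rfl⟩ := (phi0 (R' := R') I E).surjective z
        refine ⟨x, ?_⟩
        apply (phi0 (R' := R') I (E ⧸ LinearMap.range ι)).injective
        rw [← hz]
        exact phi0_naturality I E (LinearMap.range ι).mkQ x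
    · obtain ⟨φ⟩ := ih (E ⧸ LinearMap.range ι)
      refine step I ι hι i φ (fun y => ?_)
      haveI : Injective (ModuleCat.of R E) := Module.injective_object_of_injective_module R E
      have h1 : Subsingleton ((localCohomology I i).obj (SR ι).X₂) :=
        subsingleton_of_injective I (ModuleCat.of R E) i hi
      have h2 : Subsingleton ((localCohomology J i).obj (SR' (R' := R') ι).X₂) :=
        FlatBC.subsingleton_H R' E I i hi
      constructor
      · rintro ⟨x, rfl⟩
        have hx : x = 0 := Subsingleton.elim _ _
        have e1 : (((localCohomology I i).map (SR ι).g).hom.baseChange R') x = 0 := by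
          rw [hx]; exact map_zero _
        have e2 : φ ((((localCohomology I i).map (SR ι).g).hom.baseChange R') x) = 0 := by
          rw [e1]; exact map_zero φ
        rw [e2]
        exact Submodule.zero_mem _
      · rintro ⟨z, hz⟩
        have hz0 : z = 0 := Subsingleton.elim _ _
        have e1 : φ y = 0 := by
          rw [← hz, hz0]; exact map_zero _
        have : y = 0 := φ.injective (e1.trans (map_zero φ).symm)
        rw [this]
        exact Submodule.zero_mem _

end main

end Groth.Agent.Lib.Helper58.FlatBC4
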