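import Groth.Agent.Lib.Helper58.DTLib4

/-!
# Ideal transforms and restriction of scalars: `D_{IR'}(M') ≃ D_I(M')`
-/

set_option autoImplicit false
universe u
open CategoryTheory CategoryTheory.Limits Opposite
open LocCoh

namespace Groth.Agent.Lib.Helper58.DTBase
open Groth.Agent.Lib.Helper58.DTLib

section general
variable {R : Type u} [CommRing R] (I : Ideal R) (M : Type u) [AddCommGroup M] [Module R M]

theorem ιDT_eq_toDT_iff (n : ℕ) (g : ↥(I ^ n) →ₗ[R] M) (x : M) :
    ιDT I M n g = toDT I M x ↔ ∃ (k : ℕ) (h : n ≤ k), ∀ (a : R) (ha : a ∈ I ^ k),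
      g ⟨a, Ideal.pow_le_pow_right h ha⟩ = a • x := by
  rw [toDT_eq, ← ιDT_comp_inclusion I M (Nat.zero_le n), ← sub_eq_zero, ← map_sub, ιDT_eq_zero_iff]
  constructor
  · rintro ⟨k, h, hk⟩
    refine ⟨k, h, fun a ha => ?_⟩
    have := LinearMap.congr_fun hk ⟨a, ha⟩
    simp only [LinearMap.comp_apply, LinearMap.sub_apply, LinearMap.flip_apply,
      LinearMap.domRestrict_apply, LinearMap.lsmul_apply, LinearMap.zero_apply, sub_eq_zero] at this
    exact this
  · rintro ⟨k, h, hk⟩
    refine ⟨k, h, ?_⟩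
    ext ⟨a, ha⟩
    simp only [LinearMap.comp_apply, LinearMap.sub_apply, LinearMap.flip_apply,
      LinearMap.domRestrict_apply, LinearMap.lsmul_apply, LinearMap.zero_apply, sub_eq_zero]
    exact hk a ha

end general

variable {R : Type u} [CommRing R] {R' : Type u} [CommRing R'] [Algebra R R'] (I : Ideal R)

section A
variable (N : Type u) [AddCommGroup N] [Module R' N] [Module R N] [IsScalarTower R R' N]

/-- If `I^n x = 0` then `(IR')^n x = 0`. -/
theorem smul_eq_zero_of_mem_map_pow (n : ℕ) (x : N) (h : ∀ a ∈ I ^ n, a • x = 0)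
    (b : R') (hb : b ∈ (Ideal.map (algebraMap R R') I) ^ n) : b • x = 0 := by
  rw [← Ideal.map_pow] at hb
  induction hb using Submodule.span_induction with
  | mem y hy => obtain ⟨a, ha, rfl⟩ := hy; rw [algebraMap_smul R' a x]; exact h a ha
  | zero => exact zero_smul _ _
  | add y z _ _ hy hz => rw [add_smul, hy, hz, add_zero]
  | smul c y _ hy => rw [smul_eq_mul, mul_smul, hy, smul_zero]

theorem torsionSub_le (x : N) (hx : x ∈ DRing.torsionSub I N) :
    x ∈ DRing.torsionSub (Ideal.map (algebraMap R R') I) N := by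
  obtain ⟨n, hn⟩ := hx
  exact ⟨n, fun b hb => smul_eq_zero_of_mem_map_pow I N n x hn b hb⟩

theorem torsionSub_eq_bot (hN : DRing.torsionSub (Ideal.map (algebraMap R R') I) N = ⊥) :
    DRing.torsionSub I N = ⊥ := by
  rw [eq_bot_iff]
  intro x hx
  have := torsionSub_le (R' := R') I N x hx
  rw [hN] at this
  exact this

theorem algebraMap_mem_map_pow (n : ℕ) (a : R) (ha : a ∈ I ^ n) :
    algebraMap R R' a ∈ (Ideal.map (algebraMap R R') I) ^ n := by
  rw [← Ideal.map_pow]
  exact Ideal.mem_map_of_mem _ ha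

/-- Extension of an `R`-linear map `I^n → N` to an `R'`-linear map `(IR')^n → N`, when `N` has no
`IR'`-torsion. -/
theorem exists_extension (hN : DRing.torsionSub (Ideal.map (algebraMap R R') I) N = ⊥) (n : ℕ)
    (g : ↥(I ^ n) →ₗ[R] N) :
    ∃ g' : ↥((Ideal.map (algebraMap R R') I) ^ n) →ₗ[R'] N,
      ∀ (a : R) (ha : a ∈ I ^ n), g' ⟨algebraMap R R' a, algebraMap_mem_map_pow I n a ha⟩ = g ⟨a, ha⟩ := by
  classical
  let π : (↥(I ^ n) →₀ R') →ₗ[R'] R' :=
    Finsupp.linearCombination R' (fun a : ↥(I ^ n) => algebraMap R R' (a : R))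
  let G : (↥(I ^ n) →₀ R') →ₗ[R'] N := Finsupp.linearCombination R' (fun a : ↥(I ^ n) => g a)
  have hrange : LinearMap.range π = (Ideal.map (algebraMap R R') I) ^ n := by
    rw [Finsupp.range_linearCombination, ← Ideal.map_pow]
    show Ideal.span _ = Ideal.span _
    congr 1
    ext y
    constructor
    · rintro ⟨a, rfl⟩; exact ⟨a.1, a.2, rfl⟩
    · rintro ⟨a, ha, rfl⟩; exact ⟨⟨a, ha⟩, rfl⟩
  have key : ∀ (b : ↥(I ^ n)) (t : ↥(I ^ n) →₀ R'),
      algebraMap R R' (b : R) • G t = π t • g b := by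
    intro b t
    induction t using Finsupp.induction_linear with
    | zero => simp
    | add s t hs ht => rw [map_add, map_add, smul_add, add_smul, hs, ht]
    | single a r =>
      simp only [π, G, Finsupp.linearCombination_single]
      rw [smul_comm, algebraMap_smul R' (b : R) (g a), ← map_smul g (b : R) a, smul_assoc,
        algebraMap_smul R' (a : R) (g b), ← map_smul g (a : R) b]
      congr 2
      exact Subtype.ext (mul_comm _ _)
  have hker : LinearMap.ker π ≤ LinearMap.ker G := by
    intro t ht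
    rw [LinearMap.mem_ker] at ht ⊢
    have hmem : G t ∈ DRing.torsionSub (Ideal.map (algebraMap R R') I) N := by
      refine ⟨n, fun b hb => ?_⟩
      refine smul_eq_zero_of_mem_map_pow I N n (G t) (fun a ha => ?_) b hb
      rw [← algebraMap_smul R' a (G t)]
      rw [key ⟨a, ha⟩ t, ht, zero_smul]
    rw [hN] at hmem
    exact hmem
  let e1 : ((↥(I ^ n) →₀ R') ⧸ LinearMap.ker π) ≃ₗ[R'] ↥(LinearMap.range π) :=
    LinearMap.quotKerEquivRange π
  let e2 : ↥(LinearMap.range π) ≃ₗ[R'] ↥((Ideal.map (algebraMap R R') I) ^ n) :=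
    LinearEquiv.ofEq _ _ hrange
  refine ⟨(LinearMap.ker π).liftQ G hker ∘ₗ e1.symm.toLinearMap ∘ₗ e2.symm.toLinearMap, ?_⟩
  intro a ha
  have h1 : e2.symm ⟨algebraMap R R' a, algebraMap_mem_map_pow I n a ha⟩ =
      e1 (Submodule.Quotient.mk (Finsupp.single ⟨a, ha⟩ 1)) := by
    apply Subtype.ext
    simp [e1, e2, π, LinearMap.quotKerEquivRange_apply_mk]
  simp only [LinearMap.comp_apply, LinearEquiv.coe_coe]
  rw [h1, LinearEquiv.symm_apply_apply, Submodule.liftQ_apply]
  simp [G]

/-- If `N` (an `R'`-module) has no `IR'`-torsion and `η : N → D_{IR'}(N)` is surjective, then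
`η : N → D_I(N)` is bijective. -/
theorem toDT_bijective_of (hN : DRing.torsionSub (Ideal.map (algebraMap R R') I) N = ⊥)
    (hsurj : Function.Surjective (toDT (Ideal.map (algebraMap R R') I) N)) :
    Function.Bijective (toDT I N) := by
  refine ⟨toDT_injective_of_torsionSub_eq_bot I N (torsionSub_eq_bot I N hN), ?_⟩
  intro w
  obtain ⟨n, g, rfl⟩ := exists_rep I N w
  obtain ⟨g', hg'⟩ := exists_extension I N hN n g
  obtain ⟨x, hx⟩ := hsurj (ιDT _ N n g')
  refine ⟨x, ?_⟩
  obtain ⟨k, hk, h⟩ := (ιDT_eq_toDT_iff _ N n g' x).mp hx.symm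
  refine ((ιDT_eq_toDT_iff I N n g x).mpr ⟨k, hk, fun a ha => ?_⟩).symm
  rw [← hg' a (Ideal.pow_le_pow_right hk ha), ← algebraMap_smul R' a x]
  exact h (algebraMap R R' a) (algebraMap_mem_map_pow I k a ha)

end A

section B
variable [IsNoetherianRing R] [IsNoetherianRing R'] (M' : Type u) [AddCommGroup M'] [Module R' M']
  [Module R M'] [IsScalarTower R R' M']

/-- The `R`-module structure on `D_{IR'}(M')` by restriction of scalars. -/
noncomputable local instance instModR :
    Module R (DT (Ideal.map (algebraMap R R') I) M') := Module.compHom _ (algebraMap R R')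

local instance instTower : IsScalarTower R R' (DT (Ideal.map (algebraMap R R') I) M') :=
  IsScalarTower.of_algebraMap_smul (fun _ _ => rfl)

theorem exists_equiv :
    ∃ ε : DT (Ideal.map (algebraMap R R') I) M' ≃+ DT I M',
      (∀ (r : R) (x : DT (Ideal.map (algebraMap R R') I) M'), ε (algebraMap R R' r • x) = r • ε x) ∧
      ∀ m : M', ε (toDT (Ideal.map (algebraMap R R') I) M' m) = toDT I M' m := by
  let e : M' →ₗ[R] DT (Ideal.map (algebraMap R R') I) M' :=
    (toDT (Ideal.map (algebraMap R R') I) M').restrictScalars R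
  have hker : LinearMap.ker e ≤ DRing.torsionSub I M' := by
    intro x hx
    have hx' : x ∈ LinearMap.ker (toDT (Ideal.map (algebraMap R R') I) M') := hx
    rw [ker_toDT] at hx'
    obtain ⟨n, hn⟩ := hx'
    refine ⟨n, fun a ha => ?_⟩
    rw [← algebraMap_smul R' a x]
    exact hn _ (algebraMap_mem_map_pow I n a ha)
  have hcoker : IsPowerTorsion I (DT (Ideal.map (algebraMap R R') I) M' ⧸ LinearMap.range e) := by
    intro y
    induction y using Submodule.Quotient.induction_on with
    | H y =>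
      obtain ⟨k, hk⟩ := isPowerTorsion_coker_toDT (Ideal.map (algebraMap R R') I) M'
        (Submodule.Quotient.mk y)
      refine ⟨k, fun a ha => ?_⟩
      have h1 := hk _ (algebraMap_mem_map_pow I k a ha)
      rw [← Submodule.Quotient.mk_smul, Submodule.Quotient.mk_eq_zero] at h1 ⊢
      obtain ⟨m, hm⟩ := h1
      exact ⟨m, hm⟩
  let ψ := factor I e hker hcoker LinearMap.id
  have hbij : Function.Bijective ψ := by
    have h1 := toDT_bijective_of I (DT (Ideal.map (algebraMap R R') I) M')
      (torsionSub_DT_eq_bot _ M') (toDT_DT_bijective _ M').2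
    have h2 := (mapEquiv I e hker hcoker).symm.bijective
    have h3 := map_bijective_of_bijective I (LinearMap.id : M' →ₗ[R] M') Function.bijective_id
    exact h3.comp (h2.comp h1)
  refine ⟨(LinearEquiv.ofBijective ψ hbij).toAddEquiv, fun r x => ?_, fun m => ?_⟩
  · exact map_smul ψ r x
  · exact LinearMap.congr_fun (factor_comp I e hker hcoker LinearMap.id) m

end B

end Groth.Agent.Lib.Helper58.DTBase
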