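import Groth.Agent.Lib.Helper58.LCInjBase
import Groth.Agent.Lib.Helper58.DTBase

/-!
# Independence of the base for local cohomology: `H^i_{IR'}(M') ≃ H^i_I(M')`
-/

set_option autoImplicit false
universe u
open CategoryTheory CategoryTheory.Limits Opposite

namespace Groth.Agent.Lib.Helper58.LCBase
open Groth.Agent.Lib.Helper41.LC

/-- An additive equivalence between two quotients of the same group by maps with the same kernel. -/
theorem exists_addEquiv_of_surjective {A B₁ B₂ : Type*} [AddCommGroup A] [AddCommGroup B₁]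
    [AddCommGroup B₂] (p₁ : A →+ B₁) (p₂ : A →+ B₂) (h₁ : Function.Surjective p₁)
    (h₂ : Function.Surjective p₂) (hker : ∀ a, p₁ a = 0 ↔ p₂ a = 0) :
    ∃ φ : B₁ ≃+ B₂, ∀ a, φ (p₁ a) = p₂ a := by
  have hk : p₁.ker = p₂.ker := by
    ext a
    exact hker a
  refine ⟨(QuotientAddGroup.quotientKerEquivOfSurjective p₁ h₁).symm.trans
    ((QuotientAddGroup.quotientAddEquivOfEq hk).trans
      (QuotientAddGroup.quotientKerEquivOfSurjective p₂ h₂)), fun a => ?_⟩
  have : (QuotientAddGroup.quotientKerEquivOfSurjective p₁ h₁).symm (p₁ a) =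
      QuotientAddGroup.mk a := by
    rw [AddEquiv.symm_apply_eq]
    rfl
  simp only [AddEquiv.trans_apply, this]
  rfl

theorem ofInjective_symm_val {A M N : Type*} [Ring A] [AddCommGroup M] [AddCommGroup N]
    [Module A M] [Module A N] (f : M →ₗ[A] N) (hf : Function.Injective f)
    (y : LinearMap.range f) : f ((LinearEquiv.ofInjective f hf).symm y) = y.1 := by
  have := congrArg Subtype.val ((LinearEquiv.ofInjective f hf).apply_symm_apply y)
  rwa [LinearEquiv.ofInjective_apply] at this

variable {R : Type u} [CommRing R] [IsNoetherianRing R] {R' : Type u} [CommRing R']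
  [IsNoetherianRing R'] [Algebra R R'] (I : Ideal R)

local notation "J" => Ideal.map (algebraMap R R') I

section deg0
variable (X : Type u) [AddCommGroup X] [Module R' X] [Module R X] [IsScalarTower R R' X]

theorem mem_range_iff (x : X) :
    x ∈ LinearMap.range (toMod J (ModuleCat.of R' X)) ↔
      x ∈ LinearMap.range (toMod I (ModuleCat.of R X)) := by
  rw [mem_range_toMod_iff, mem_range_toMod_iff]
  constructor
  · rintro ⟨n, hn⟩
    refine ⟨n, fun a ha => ?_⟩
    have := hn _ (DTBase.algebraMap_mem_map_pow (R' := R') I n a ha)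
    rw [← this]
    exact (algebraMap_smul R' a x).symm
  · rintro ⟨n, hn⟩
    exact ⟨n, fun b hb => DTBase.smul_eq_zero_of_mem_map_pow I X n x hn b hb⟩

/-- The degree `0` comparison. -/
noncomputable def phi0 : (localCohomology J 0).obj (ModuleCat.of R' X) ≃+
    (localCohomology I 0).obj (ModuleCat.of R X) :=
  (LinearEquiv.ofInjective (toMod J (ModuleCat.of R' X)) (toMod_injective _ _)).toAddEquiv.trans
    (({ toFun := fun x => ⟨x.1, (mem_range_iff I X x.1).1 x.2⟩
        invFun := fun y => ⟨y.1, (mem_range_iff I X y.1).2 y.2⟩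
        left_inv := fun _ => rfl
        right_inv := fun _ => rfl
        map_add' := fun _ _ => rfl } :
        ↥(LinearMap.range (toMod J (ModuleCat.of R' X))) ≃+
          ↥(LinearMap.range (toMod I (ModuleCat.of R X)))).trans
      (LinearEquiv.ofInjective (toMod I (ModuleCat.of R X)) (toMod_injective _ _)).symm.toAddEquiv)

theorem toMod_phi0 (x : (localCohomology J 0).obj (ModuleCat.of R' X)) :
    toMod I (ModuleCat.of R X) (phi0 I X x) = toMod J (ModuleCat.of R' X) x := by
  unfold phi0
  simp only [AddEquiv.trans_apply, LinearEquiv.coe_toAddEquiv]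
  refine (ofInjective_symm_val (toMod I (ModuleCat.of R X)) (toMod_injective _ _) _).trans ?_
  rfl

theorem phi0_smul (r : R) (x : (localCohomology J 0).obj (ModuleCat.of R' X)) :
    phi0 I X (algebraMap R R' r • x) = r • phi0 I X x := by
  apply toMod_injective I (ModuleCat.of R X)
  rw [toMod_phi0, map_smul, map_smul, toMod_phi0]
  exact algebraMap_smul R' r _

theorem phi0_naturality {Y : Type u} [AddCommGroup Y] [Module R' Y] [Module R Y]
    [IsScalarTower R R' Y] (g : X →ₗ[R'] Y)
    (x : (localCohomology J 0).obj (ModuleCat.of R' X)) :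
    phi0 I Y (((localCohomology J 0).map (ModuleCat.ofHom g)).hom x) =
      ((localCohomology I 0).map (ModuleCat.ofHom (g.restrictScalars R))).hom (phi0 I X x) := by
  apply toMod_injective I (ModuleCat.of R Y)
  rw [toMod_phi0, toMod_naturality, toMod_naturality, toMod_phi0]
  rfl

end deg0

section ses
variable (X : Type u) [AddCommGroup X] [Module R' X] [Module R X] [IsScalarTower R R' X]

omit [IsNoetherianRing R] [IsNoetherianRing R'] in
theorem exists_injective_embedding :
    ∃ (E : Type u) (_ : AddCommGroup E) (_ : Module R' E) (_ : Module R E)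
      (_ : IsScalarTower R R' E) (_ : Module.Injective R' E) (ι : X →ₗ[R'] E),
      Function.Injective ι := by
  let E₀ := Injective.under (ModuleCat.of R' X)
  let _ : Module R E₀ := Module.compHom _ (algebraMap R R')
  have : IsScalarTower R R' E₀ := IsScalarTower.of_algebraMap_smul (fun _ _ => rfl)
  exact ⟨E₀, inferInstance, inferInstance, inferInstance, inferInstance,
    @Module.injective_module_of_injective_object R' E₀ _ _ _
      (show Injective (ModuleCat.of R' E₀) from
        (inferInstance : Injective (Injective.under (ModuleCat.of R' X)))),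
    (Injective.ι (ModuleCat.of R' X)).hom,
    (ModuleCat.mono_iff_injective _).1 inferInstance⟩

variable {X} {E : Type u} [AddCommGroup E] [Module R' E] [Module R E] [IsScalarTower R R' E]
  (ι : X →ₗ[R'] E)

/-- The short complex `X → E → E/X` over `R'`. -/
noncomputable def S' : ShortComplex (ModuleCat.{u} R') :=
  ShortComplex.mk (ModuleCat.ofHom ι) (ModuleCat.ofHom (LinearMap.range ι).mkQ) (by
    ext x
    change (LinearMap.range ι).mkQ (ι x) = 0
    simp)

/-- The short complex `X → E → E/X` over `R`. -/
noncomputable def S : ShortComplex (ModuleCat.{u} R) :=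
  ShortComplex.mk (ModuleCat.ofHom (ι.restrictScalars R))
    (ModuleCat.ofHom ((LinearMap.range ι).mkQ.restrictScalars R)) (by
    ext x
    change (LinearMap.range ι).mkQ (ι x) = 0
    simp)

omit [IsNoetherianRing R] [IsNoetherianRing R'] [Algebra R R'] [Module R X] [IsScalarTower R R' X]
  [Module R E] [IsScalarTower R R' E] in
theorem S'_shortExact (hι : Function.Injective ι) : (S' ι).ShortExact := by
  apply ModuleCat.shortComplex_shortExact
  · intro y
    change (LinearMap.range ι).mkQ y = 0 ↔ y ∈ Set.range ι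
    rw [Submodule.mkQ_apply, Submodule.Quotient.mk_eq_zero]
    rfl
  · exact hι
  · exact (LinearMap.range ι).mkQ_surjective

omit [IsNoetherianRing R] [IsNoetherianRing R'] in
theorem S_shortExact (hι : Function.Injective ι) : (S (R := R) ι).ShortExact := by
  apply ModuleCat.shortComplex_shortExact
  · intro y
    change (LinearMap.range ι).mkQ y = 0 ↔ y ∈ Set.range ι
    rw [Submodule.mkQ_apply, Submodule.Quotient.mk_eq_zero]
    rfl
  · exact hι
  · exact (LinearMap.range ι).mkQ_surjective

end ses

section step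
variable {X : Type u} [AddCommGroup X] [Module R' X] [Module R X] [IsScalarTower R R' X]
  {E : Type u} [AddCommGroup E] [Module R' E] [Module R E] [IsScalarTower R R' E]
  (ι : X →ₗ[R'] E) (hι : Function.Injective ι)

omit [IsNoetherianRing R] [IsNoetherianRing R'] in
theorem step_core (i : ℕ)
    (φ : (localCohomology J i).obj (ModuleCat.of R' (E ⧸ LinearMap.range ι)) ≃+
      (localCohomology I i).obj (ModuleCat.of R (E ⧸ LinearMap.range ι)))
    (hφ : ∀ (r : R) x, φ (algebraMap R R' r • x) = r • φ x)
    (hsJ : Function.Surjective (δ J (S'_shortExact ι hι) i (i + 1) rfl))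
    (hsI : Function.Surjective (δ I (S_shortExact (R := R) ι hι) i (i + 1) rfl))
    (hker : ∀ a : ↑((localCohomology J i).obj (ModuleCat.of R' (E ⧸ LinearMap.range ι))),
      δ J (S'_shortExact ι hι) i (i + 1) rfl a = 0 ↔
      δ I (S_shortExact (R := R) ι hι) i (i + 1) rfl (φ a) = 0) :
    ∃ ψ : (localCohomology J (i + 1)).obj (ModuleCat.of R' X) ≃+
      (localCohomology I (i + 1)).obj (ModuleCat.of R X),
      ∀ (r : R) x, ψ (algebraMap R R' r • x) = r • ψ x := by
  obtain ⟨ψ, hψ⟩ : ∃ ψ : ↑((localCohomology J (i + 1)).obj (ModuleCat.of R' X)) ≃+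
      ↑((localCohomology I (i + 1)).obj (ModuleCat.of R X)),
      ∀ a : ↑((localCohomology J i).obj (ModuleCat.of R' (E ⧸ LinearMap.range ι))),
        ψ (δ J (S'_shortExact ι hι) i (i + 1) rfl a) =
          δ I (S_shortExact (R := R) ι hι) i (i + 1) rfl (φ a) :=
    exists_addEquiv_of_surjective
      (δ J (S'_shortExact ι hι) i (i + 1) rfl).toAddMonoidHom
      ((δ I (S_shortExact (R := R) ι hι) i (i + 1) rfl).toAddMonoidHom.comp φ.toAddMonoidHom)
      hsJ (hsI.comp φ.surjective) hker
  refine ⟨ψ, fun r x => ?_⟩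
  obtain ⟨a, rfl⟩ := hsJ x
  have e1 : algebraMap R R' r • (δ J (S'_shortExact ι hι) i (i + 1) rfl) a =
      δ J (S'_shortExact ι hι) i (i + 1) rfl (algebraMap R R' r • a) := (map_smul _ _ _).symm
  refine (congrArg ψ e1).trans ((hψ _).trans ?_)
  refine (congrArg (δ I (S_shortExact (R := R) ι hι) i (i + 1) rfl) (hφ r a)).trans ?_
  refine (map_smul (δ I (S_shortExact (R := R) ι hι) i (i + 1) rfl) r (φ a)).trans ?_
  exact congrArg (fun z => r • z) (hψ a).symm

variable [Module.Injective R' E]

omit [IsNoetherianRing R] [Module R X] [IsScalarTower R R' X] [Module R E] [IsScalarTower R R' E]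
  [Algebra R R'] in
theorem subsingleton_J' (K : Ideal R') (i : ℕ) (hi : 0 < i) :
    Subsingleton ((localCohomology K i).obj (S' ι).X₂) := by
  haveI : Injective (ModuleCat.of R' E) := Module.injective_object_of_injective_module R' E
  exact subsingleton_of_injective K (ModuleCat.of R' E) i hi

theorem subsingleton_I' (i : ℕ) (hi : 0 < i) :
    Subsingleton ((localCohomology I i).obj (S (R := R) ι).X₂) := by
  obtain ⟨s, rfl⟩ := (IsNoetherian.noetherian I : I.FG)
  exact LCInjBase.subsingleton_of_injective_base (R' := R') s E i hi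

include hι in
theorem step_succ (i : ℕ) (hi : 0 < i)
    (φ : (localCohomology J i).obj (ModuleCat.of R' (E ⧸ LinearMap.range ι)) ≃+
      (localCohomology I i).obj (ModuleCat.of R (E ⧸ LinearMap.range ι)))
    (hφ : ∀ (r : R) x, φ (algebraMap R R' r • x) = r • φ x) :
    ∃ ψ : (localCohomology J (i + 1)).obj (ModuleCat.of R' X) ≃+
      (localCohomology I (i + 1)).obj (ModuleCat.of R X),
      ∀ (r : R) x, ψ (algebraMap R R' r • x) = r • ψ x := by
  have hbJ := δ_bijective_of_subsingleton J (S'_shortExact ι hι) i
    (subsingleton_J' ι J i hi) (subsingleton_J' ι J (i + 1) (Nat.succ_pos i))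
  have hbI := δ_bijective_of_subsingleton I (S_shortExact (R := R) ι hι) i
    (subsingleton_I' I ι i hi) (subsingleton_I' I ι (i + 1) (Nat.succ_pos i))
  refine step_core I ι hι i φ hφ hbJ.2 hbI.2 (fun a => ?_)
  constructor
  · intro h
    have : a = 0 := hbJ.1 (h.trans (map_zero _).symm)
    have h0 : φ a = 0 := by rw [this]; exact map_zero φ
    rw [h0]
    exact map_zero _
  · intro h
    have h1 : φ a = 0 := hbI.1 (h.trans (map_zero _).symm)
    have : a = 0 := φ.injective (h1.trans (map_zero φ).symm)
    rw [this]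
    exact map_zero _

include hι in
theorem step_zero :
    ∃ ψ : (localCohomology J 1).obj (ModuleCat.of R' X) ≃+
      (localCohomology I 1).obj (ModuleCat.of R X),
      ∀ (r : R) x, ψ (algebraMap R R' r • x) = r • ψ x := by
  have hS' := S'_shortExact ι hι
  have hS := S_shortExact (R := R) ι hι
  have hsJ : Function.Surjective (δ J hS' 0 1 rfl) := by
    intro x
    have := subsingleton_J' ι J 1 Nat.one_pos
    exact exact₁ J hS' 0 1 rfl x (Subsingleton.elim _ _)
  have hsI : Function.Surjective (δ I hS 0 1 rfl) := by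
    intro x
    have := subsingleton_I' I ι 1 Nat.one_pos
    exact exact₁ I hS 0 1 rfl x (Subsingleton.elim _ _)
  refine step_core I ι hι 0 (phi0 I (E ⧸ LinearMap.range ι)) (phi0_smul I _) hsJ hsI (fun a => ?_)
  constructor
  · intro h
    obtain ⟨y, rfl⟩ := exact₃ J hS' 0 1 rfl a h
    have := phi0_naturality (R' := R') I E (LinearMap.range ι).mkQ y
    change phi0 I (E ⧸ LinearMap.range ι) (((localCohomology J 0).map (S' ι).g).hom y) = _ at this
    rw [this]
    exact δ_map_eq_zero I hS 0 1 rfl _
  · intro h
    obtain ⟨y, hy⟩ := exact₃ I hS 0 1 rfl _ h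
    obtain ⟨y', rfl⟩ := (phi0 (R' := R') I E).surjective y
    have := phi0_naturality (R' := R') I E (LinearMap.range ι).mkQ y'
    have h2 : phi0 I (E ⧸ LinearMap.range ι) (((localCohomology J 0).map (S' ι).g).hom y') =
        phi0 I (E ⧸ LinearMap.range ι) a := this.trans hy
    rw [← (phi0 I (E ⧸ LinearMap.range ι)).injective h2]
    exact δ_map_eq_zero J hS' 0 1 rfl _

end step

/-- **Independence of the base.** -/
theorem exists_addEquiv (i : ℕ) :
    ∀ (X : Type u) [AddCommGroup X] [Module R' X] [Module R X] [IsScalarTower R R' X],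
      ∃ ψ : (localCohomology J i).obj (ModuleCat.of R' X) ≃+
        (localCohomology I i).obj (ModuleCat.of R X),
        ∀ (r : R) x, ψ (algebraMap R R' r • x) = r • ψ x := by
  induction i with
  | zero =>
    intro X _ _ _ _
    exact ⟨phi0 I X, phi0_smul I X⟩
  | succ i ih =>
    intro X _ _ _ _
    obtain ⟨E, _, _, _, _, _, ι, hι⟩ := exists_injective_embedding (R := R) (R' := R') X
    rcases Nat.eq_zero_or_pos i with rfl | hi
    · exact step_zero I ι hι
    · obtain ⟨φ, hφ⟩ := ih (E ⧸ LinearMap.range ι)
      exact step_succ I ι hι i hi φ hφ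

end Groth.Agent.Lib.Helper58.LCBase
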