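import Groth.Agent.Lib.Helper41.LCTorsion

/-!
# Local cohomology: maps with torsion kernel / cokernel
-/

set_option autoImplicit false
universe u
open CategoryTheory CategoryTheory.Limits Opposite CategoryTheory.Abelian

namespace Groth.Agent.Lib.Helper58.LCX

open Groth.Agent.Lib.Helper41.LC

variable {R : Type u} [CommRing R] (I : Ideal R)

/-- The short complex `0 → ker g → X → Z → 0` of a surjective linear map. -/
noncomputable def kerSC {X Z : Type u} [AddCommGroup X] [Module R X] [AddCommGroup Z] [Module R Z]
    (g : X →ₗ[R] Z) : ShortComplex (ModuleCat.{u} R) :=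
  ShortComplex.mk (ModuleCat.ofHom (LinearMap.ker g).subtype) (ModuleCat.ofHom g) (by
    ext x
    exact x.2)

lemma kerSC_shortExact {X Z : Type u} [AddCommGroup X] [Module R X] [AddCommGroup Z] [Module R Z]
    (g : X →ₗ[R] Z) (hg : Function.Surjective g) : (kerSC g).ShortExact := by
  apply ModuleCat.shortComplex_shortExact
  · intro y
    change g y = 0 ↔ y ∈ Set.range (LinearMap.ker g).subtype
    constructor
    · intro hy
      exact ⟨⟨y, hy⟩, rfl⟩
    · rintro ⟨z, rfl⟩
      exact z.2
  · exact (LinearMap.ker g).injective_subtype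
  · exact hg

/-- A surjection with torsion kernel induces bijections on `H^i_I`, `i ≥ 1`. -/
theorem map_bijective_of_surjective_of_torsion_ker [IsNoetherianRing R]
    {X Z : Type u} [AddCommGroup X] [Module R X] [AddCommGroup Z] [Module R Z]
    (g : X →ₗ[R] Z) (hg : Function.Surjective g) (hker : IsTorsion I (LinearMap.ker g))
    (i : ℕ) (hi : 0 < i) :
    Function.Bijective ((localCohomology I i).map (ModuleCat.ofHom g)).hom := by
  have hS := kerSC_shortExact g hg
  obtain ⟨j, rfl⟩ : ∃ j, i = j + 1 := ⟨i - 1, by omega⟩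
  constructor
  · exact map_g_injective_of_subsingleton I hS (j + 1)
      (subsingleton_of_isTorsion I (j + 1) (by omega) (ModuleCat.of R (LinearMap.ker g)) hker)
  · exact map_g_surjective_of_subsingleton I hS (j + 1)
      (subsingleton_of_isTorsion I (j + 1 + 1) (by omega) (ModuleCat.of R (LinearMap.ker g)) hker)

/-- The inclusion of a submodule with torsion quotient induces bijections on `H^i_I`, `i ≥ 2`. -/
theorem map_bijective_of_subtype_of_torsion_quot [IsNoetherianRing R]
    {Y : Type u} [AddCommGroup Y] [Module R Y] (P : Submodule R Y) (hcoker : IsTorsion I (Y ⧸ P))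
    (i : ℕ) (hi : 1 < i) :
    Function.Bijective ((localCohomology I i).map (ModuleCat.ofHom P.subtype)).hom := by
  have hS := subQuotSC_shortExact P
  obtain ⟨j, rfl⟩ : ∃ j, i = j + 1 + 1 := ⟨i - 2, by omega⟩
  constructor
  · exact map_f_injective_of_subsingleton I hS (j + 1)
      (subsingleton_of_isTorsion I (j + 1) (by omega) (ModuleCat.of R (Y ⧸ P)) hcoker)
  · exact map_f_surjective_of_subsingleton I hS (j + 1 + 1)
      (subsingleton_of_isTorsion I (j + 1 + 1) (by omega) (ModuleCat.of R (Y ⧸ P)) hcoker)

/-- A map with torsion kernel and cokernel induces bijections on `H^i_I`, `i ≥ 2`. -/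
theorem map_bijective_of_torsion [IsNoetherianRing R]
    {X Y : Type u} [AddCommGroup X] [Module R X] [AddCommGroup Y] [Module R Y]
    (f : X →ₗ[R] Y) (hker : IsTorsion I (LinearMap.ker f))
    (hcoker : IsTorsion I (Y ⧸ LinearMap.range f)) (i : ℕ) (hi : 1 < i) :
    Function.Bijective ((localCohomology I i).map (ModuleCat.ofHom f)).hom := by
  have hfac : ModuleCat.ofHom f =
      ModuleCat.ofHom f.rangeRestrict ≫ ModuleCat.ofHom (LinearMap.range f).subtype := by
    rw [← ModuleCat.ofHom_comp]
    congr 1
  rw [hfac, Functor.map_comp, ModuleCat.hom_comp, LinearMap.coe_comp]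
  refine (map_bijective_of_subtype_of_torsion_quot I _ hcoker i hi).comp ?_
  apply map_bijective_of_surjective_of_torsion_ker I f.rangeRestrict f.surjective_rangeRestrict _ i
    (by omega)
  rw [LinearMap.ker_rangeRestrict]
  exact hker

end Groth.Agent.Lib.Helper58.LCX
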