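import Groth.Agent.Lib.Helper58.NV6

/-!
# Corollaries of Grothendieck's non-vanishing theorem
-/

set_option autoImplicit false
universe u
open IsLocalRing Pointwise CategoryTheory

namespace Groth.Agent.Lib.Helper58.NV

open Groth.Agent.Lib.Helper41.LC Groth.Agent.Lib.Helper58.LCRep

variable (R : Type u) [CommRing R] [IsNoetherianRing R] [IsLocalRing R]

/-- non-vanishing for an ideal with radical the maximal ideal -/
theorem nontrivial_top_of_radical (d : ℕ) (hd : ringKrullDim R = d) (J : Ideal R)
    (hJ : J.radical = maximalIdeal R) :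
    Nontrivial ((localCohomology J d).obj (ModuleCat.of R R)) := by
  have h := nontrivial_top R d hd
  have hrad : J.radical = (maximalIdeal R).radical := by
    rw [hJ, (Ideal.IsMaximal.isPrime' (maximalIdeal R)).radical]
  exact ((localCohomology.isoOfSameRadical hrad d).app
    (ModuleCat.of R R)).toLinearEquiv.toEquiv.nontrivial

variable {R}

/-- non-vanishing of `H^d_I(R/p)` when `rad(p + I) = m` and `dim R/p = d` -/
theorem nontrivial_quotient_of_radical (I p : Ideal R) [p.IsPrime]
    (hpI : (p ⊔ I).radical = maximalIdeal R) (d : ℕ) (hd : ringKrullDim (R ⧸ p) = d) :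
    Nontrivial ((localCohomology I d).obj (ModuleCat.of R (R ⧸ p))) := by
  have hloc : IsLocalRing (R ⧸ p) :=
    IsLocalRing.of_surjective' (Ideal.Quotient.mk p) Ideal.Quotient.mk_surjective
  have hrad : (I.map (algebraMap R (R ⧸ p))).radical = maximalIdeal (R ⧸ p) := by
    apply le_antisymm
    · have hI : I ≤ maximalIdeal R := by
        calc I ≤ p ⊔ I := le_sup_right
          _ ≤ (p ⊔ I).radical := Ideal.le_radical
          _ = maximalIdeal R := hpI
      rw [← map_maximalIdeal_quotient p]
      have h1 : I.map (algebraMap R (R ⧸ p)) ≤ (maximalIdeal R).map (algebraMap R (R ⧸ p)) :=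
        Ideal.map_mono hI
      rw [map_maximalIdeal_quotient p] at h1 ⊢
      exact (Ideal.IsMaximal.isPrime' (maximalIdeal (R ⧸ p))).radical_le_iff.2 h1
    · rw [← map_maximalIdeal_quotient p, ← hpI]
      refine (Ideal.map_radical_le _).trans ?_
      apply Ideal.radical_mono
      rw [Ideal.map_sup]
      have : p.map (algebraMap R (R ⧸ p)) = ⊥ := by
        rw [Ideal.Quotient.algebraMap_eq, Ideal.map_quotient_self]
      rw [this, bot_sup_eq]
  have h1 := nontrivial_top_of_radical (R ⧸ p) d hd _ hrad
  obtain ⟨ψ, -⟩ := Groth.Agent.Lib.Helper58.LCBase.exists_addEquiv (R := R) (R' := R ⧸ p)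
    I d (R ⧸ p)
  exact ψ.symm.toEquiv.nontrivial

end Groth.Agent.Lib.Helper58.NV
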