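import Groth.Agent.Lib.Helper58.NV7

/-!
# Top local cohomology of a local ring of positive dimension is not finitely generated
-/

set_option autoImplicit false
universe u
open IsLocalRing Pointwise CategoryTheory

namespace Groth.Agent.Lib.Helper58.NV

open Groth.Agent.Lib.Helper41.LC Groth.Agent.Lib.Helper58.LCRep

variable (R : Type u) [CommRing R] [IsNoetherianRing R] [IsLocalRing R]

theorem tensorHyp_top (d : ℕ) (hd : ringKrullDim R = d) (J : Ideal R) : TensorHyp J d :=
  fun M _ _ => nonempty_linearEquiv_tensor_of_subsingleton J d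
    (fun N => subsingleton_of_ringKrullDim_lt J d hd (d + 1) (Nat.lt_succ_self d) N) M

theorem not_finite_top (d : ℕ) (hd0 : 0 < d) (hd : ringKrullDim R = d) :
    ¬ Module.Finite R ((localCohomology (maximalIdeal R) d).obj (ModuleCat.of R R)) := by
  intro hfin
  obtain ⟨e, rfl⟩ : ∃ e, d = e + 1 := ⟨d - 1, by omega⟩
  obtain ⟨y, hy⟩ := exists_good (R := R) e hd
  have hT := tensorHyp_top R (e + 1) hd (maximalIdeal R)
  have hsub : Subsingleton ((localCohomology (maximalIdeal R) (e + 1)).obj
      (ModuleCat.of R (R ⧸ Ideal.span {y}))) := by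
    apply subsingleton_quotient_of_dim_lt
    rw [hy.dim_quotient e hd]
    exact_mod_cast Nat.lt_succ_self e
  have htop := (subsingleton_quotient_iff (maximalIdeal R) (e + 1) hT (Ideal.span {y})).1 hsub
  have hbot : (⊤ : Submodule R ((localCohomology (maximalIdeal R) (e + 1)).obj
      (ModuleCat.of R R))) = ⊥ := by
    apply Submodule.eq_bot_of_le_smul_of_le_jacobson_bot (Ideal.span {y}) ⊤ Module.Finite.fg_top
      htop.symm.le
    rw [IsLocalRing.jacobson_eq_maximalIdeal ⊥ bot_ne_top, Ideal.span_singleton_le_iff_mem]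
    exact hy.1
  have hnt := nontrivial_top R (e + 1) hd
  have hss : Subsingleton ((localCohomology (maximalIdeal R) (e + 1)).obj (ModuleCat.of R R)) := by
    refine ⟨fun a b => ?_⟩
    have ha : a ∈ (⊥ : Submodule R _) := hbot ▸ Submodule.mem_top
    have hb : b ∈ (⊥ : Submodule R _) := hbot ▸ Submodule.mem_top
    rw [Submodule.mem_bot] at ha hb
    rw [ha, hb]
  exact not_subsingleton _ hss

end Groth.Agent.Lib.Helper58.NV
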