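import Groth.Agent.Lib.Helper58.LCRep4
import Groth.Agent.Lib.Helper41.LCTop
import Groth.Agent.Lib.Helper8.EW

/-!
# Top local cohomology is a tensor product (Eilenberg–Watts)
-/

set_option autoImplicit false
universe u
open CategoryTheory CategoryTheory.Limits

namespace Groth.Agent.Lib.Helper58.LCRep

open Groth.Agent.Lib.Helper41.LC

variable {R : Type u} [CommRing R]

instance linear (J : Ideal R) (i : ℕ) : (localCohomology J i).Linear R where
  map_smul {M M'} f r := by
    have h : r • f = f ≫ (r • 𝟙 M') := by
      rw [Linear.comp_smul, Category.comp_id]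
    rw [h, Functor.map_comp]
    apply ModuleCat.hom_ext
    apply LinearMap.ext
    intro x
    change ((localCohomology J i).map (r • 𝟙 M')).hom (((localCohomology J i).map f).hom x) =
      r • ((localCohomology J i).map f).hom x
    rw [map_smul_id]

variable [IsNoetherianRing R]

/-- If `H^{d+1}_J` vanishes identically then `H^d_J(M) ≅ H^d_J(R) ⊗ M`. -/
theorem nonempty_linearEquiv_tensor_of_subsingleton (J : Ideal R) (d : ℕ)
    (h : ∀ M : ModuleCat.{u} R, Subsingleton ((localCohomology J (d + 1)).obj M))
    (M : Type u) [AddCommGroup M] [Module R M] :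
    Nonempty ((localCohomology J d).obj (ModuleCat.of R M) ≃ₗ[R]
      TensorProduct R ((localCohomology J d).obj (ModuleCat.of R R)) M) := by
  classical
  have h1 := preservesColimits_of_subsingleton J d h
  have h2 := preservesFiniteColimits_of_subsingleton J d h
  have hiso := Groth.Agent.Lib.Helper8.EW.isIso_tNat_app_of_preservesFiniteColimits
    (localCohomology J d) (ModuleCat.of R M)
  have hb := (Groth.Agent.Lib.Helper8.EW.isIso_tNat_app_iff (localCohomology J d) _).1 hiso
  exact ⟨(LinearEquiv.ofBijective _ hb).symm⟩

end Groth.Agent.Lib.Helper58.LCRep
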