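import Groth.Agent.Lib.Helper58.NV2
import Groth.Agent.Lib.Helper58.LCRep5
import Groth.Agent.Lib.Helper58.LCBase
import Groth.Agent.Lib.Helper41.LCVanish
import Groth.Agent.Lib.Helper41.LCArtinian
import Mathlib.LinearAlgebra.TensorProduct.Quotient

/-!
# Grothendieck's non-vanishing theorem: local cohomology interface
-/

set_option autoImplicit false
universe u
open IsLocalRing Pointwise CategoryTheory

namespace Groth.Agent.Lib.Helper58.NV

open Groth.Agent.Lib.Helper41.LC

variable {R : Type u} [CommRing R]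

/-- the tensor hypothesis: `H^e_J(M) ≅ H^e_J(R) ⊗ M` for all `M` -/
def TensorHyp (J : Ideal R) (e : ℕ) : Prop :=
  ∀ (M : Type u) [AddCommGroup M] [Module R M],
    Nonempty ((localCohomology J e).obj (ModuleCat.of R M) ≃ₗ[R]
      TensorProduct R ((localCohomology J e).obj (ModuleCat.of R R)) M)

theorem subsingleton_quotient_iff (J : Ideal R) (e : ℕ) (hT : TensorHyp J e) (I : Ideal R) :
    Subsingleton ((localCohomology J e).obj (ModuleCat.of R (R ⧸ I))) ↔
      I • (⊤ : Submodule R ((localCohomology J e).obj (ModuleCat.of R R))) = ⊤ := by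
  obtain ⟨φ⟩ := hT (R ⧸ I)
  let ψ := φ.trans (TensorProduct.tensorQuotEquivQuotSMul
    ((localCohomology J e).obj (ModuleCat.of R R)) I)
  rw [ψ.toEquiv.subsingleton_congr, Submodule.Quotient.subsingleton_iff]

theorem map_maximalIdeal_quotient [IsLocalRing R] (b : Ideal R) [IsLocalRing (R ⧸ b)] :
    (maximalIdeal R).map (algebraMap R (R ⧸ b)) = maximalIdeal (R ⧸ b) := by
  haveI : IsLocalHom (Ideal.Quotient.mk b) :=
    IsLocalHom.of_surjective _ Ideal.Quotient.mk_surjective
  apply le_antisymm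
  · rw [Ideal.map_le_iff_le_comap]
    intro a ha
    rw [Ideal.mem_comap, mem_maximalIdeal, mem_nonunits_iff, Ideal.Quotient.algebraMap_eq]
    rw [mem_maximalIdeal, mem_nonunits_iff] at ha
    exact fun h => ha ((isUnit_map_iff (Ideal.Quotient.mk b) a).mp h)
  · intro y hy
    obtain ⟨a, rfl⟩ := Ideal.Quotient.mk_surjective y
    refine Ideal.mem_map_of_mem _ ?_
    rw [mem_maximalIdeal, mem_nonunits_iff] at hy ⊢
    exact fun h => hy (h.map (Ideal.Quotient.mk b))

variable [IsNoetherianRing R]

theorem subsingleton_quotient_of_dim_lt (J I : Ideal R) (e : ℕ)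
    (h : ringKrullDim (R ⧸ I) < (e : WithBot ℕ∞)) :
    Subsingleton ((localCohomology J e).obj (ModuleCat.of R (R ⧸ I))) := by
  apply subsingleton_of_supportDim_lt J (R ⧸ I) e
  rwa [Module.supportDim_quotient_eq_ringKrullDim]

/-- the inductive hypothesis of the non-vanishing theorem, in dimension `e` -/
def NVHyp (e : ℕ) : Prop :=
  ∀ (A : Type u) [CommRing A] [IsNoetherianRing A] [IsLocalRing A], ringKrullDim A = e →
    Nontrivial ((localCohomology (maximalIdeal A) e).obj (ModuleCat.of A A))

theorem nontrivial_quotient_of_nvHyp [IsLocalRing R] (e : ℕ) (ih : NVHyp.{u} e) (I : Ideal R)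
    (hI : ringKrullDim (R ⧸ I) = e) :
    Nontrivial ((localCohomology (maximalIdeal R) e).obj (ModuleCat.of R (R ⧸ I))) := by
  have hnt : Nontrivial (R ⧸ I) := by
    by_contra hcon
    rw [not_nontrivial_iff_subsingleton] at hcon
    rw [ringKrullDim_eq_bot_of_subsingleton] at hI
    exact WithBot.bot_ne_natCast _ hI
  have hloc : IsLocalRing (R ⧸ I) :=
    IsLocalRing.of_surjective' (Ideal.Quotient.mk I) Ideal.Quotient.mk_surjective
  have h1 := ih (R ⧸ I) hI
  rw [← map_maximalIdeal_quotient I] at h1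
  obtain ⟨ψ, -⟩ := Groth.Agent.Lib.Helper58.LCBase.exists_addEquiv (R := R) (R' := R ⧸ I)
    (maximalIdeal R) e (R ⧸ I)
  exact ψ.symm.toEquiv.nontrivial

end Groth.Agent.Lib.Helper58.NV
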