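import Mathlib.LinearAlgebra.TensorProduct.Quotient
import Mathlib.LinearAlgebra.TensorProduct.RightExactness
import Mathlib.Algebra.Module.Torsion.Basic
import Mathlib.RingTheory.Ideal.Operations

/-!
# If `T ⊗ M = 0` with `M` finitely generated then `T = Ann(M) T`
-/

set_option autoImplicit false
universe u
open TensorProduct

namespace Groth.Agent.Lib.Helper58.TensorAnn

variable {A : Type u} [CommRing A]

theorem ofInjective_symm_val {M N : Type*} [AddCommGroup M] [AddCommGroup N]
    [Module A M] [Module A N] (f : M →ₗ[A] N) (hf : Function.Injective f)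
    (y : LinearMap.range f) : f ((LinearEquiv.ofInjective f hf).symm y) = y.1 := by
  have := congrArg Subtype.val ((LinearEquiv.ofInjective f hf).apply_symm_apply y)
  rwa [LinearEquiv.ofInjective_apply] at this

/-- key step -/
theorem smul_mem_of_tensor_subsingleton (M T : Type u) [AddCommGroup M] [Module A M]
    [AddCommGroup T] [Module A T] [Subsingleton (T ⊗[A] M)] (x : M) (a : A)
    (ha : ∀ m : M, a • m ∈ Submodule.span A {x}) (t : T) :
    a • t ∈ (LinearMap.ker (LinearMap.toSpanSingleton A M x) : Ideal A) •
      (⊤ : Submodule A T) := by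
  set J : Ideal A := LinearMap.ker (LinearMap.toSpanSingleton A M x) with hJ
  let ρ : A ⧸ J →ₗ[A] M := Submodule.liftQ J (LinearMap.toSpanSingleton A M x) le_rfl
  have hinj : Function.Injective ρ := by
    rw [← LinearMap.ker_eq_bot]
    exact Submodule.ker_liftQ_eq_bot _ _ _ le_rfl
  have hrange : LinearMap.range ρ = Submodule.span A {x} := by
    rw [Submodule.range_liftQ, ← LinearMap.span_singleton_eq_range]
  let c : M →ₗ[A] LinearMap.range ρ :=
    LinearMap.codRestrict (LinearMap.range ρ) (a • LinearMap.id) (fun m => by
      rw [hrange]; exact ha m)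
  let ν : M →ₗ[A] A ⧸ J := (LinearEquiv.ofInjective ρ hinj).symm.toLinearMap ∘ₗ c
  have hν : ν ∘ₗ ρ = a • LinearMap.id := by
    apply LinearMap.ext
    intro b
    apply hinj
    change ρ ((LinearEquiv.ofInjective ρ hinj).symm (c (ρ b))) = ρ (a • b)
    rw [ofInjective_symm_val, map_smul]
    rfl
  have hz : ∀ z : T ⊗[A] (A ⧸ J), a • z = 0 := by
    intro z
    have h1 : (LinearMap.lTensor T ν) ((LinearMap.lTensor T ρ) z) = a • z := by
      rw [← LinearMap.comp_apply, ← LinearMap.lTensor_comp, hν, LinearMap.lTensor_smul,
        LinearMap.lTensor_id]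
      rfl
    rw [← h1, Subsingleton.elim ((LinearMap.lTensor T ρ) z) 0, map_zero]
  let e := TensorProduct.tensorQuotEquivQuotSMul T J
  have h2 := hz (e.symm (Submodule.Quotient.mk t))
  have h3 := congrArg e h2
  rw [map_smul, LinearEquiv.apply_symm_apply, map_zero, ← Submodule.Quotient.mk_smul,
    Submodule.Quotient.mk_eq_zero] at h3
  exact h3

theorem annihilator_smul_top_eq_top : ∀ (n : ℕ) (M : Type u) [AddCommGroup M] [Module A M]
    (s : Fin n → M) (_ : Submodule.span A (Set.range s) = ⊤) (T : Type u) [AddCommGroup T]
    [Module A T] [Subsingleton (T ⊗[A] M)],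
    (Module.annihilator A M) • (⊤ : Submodule A T) = ⊤ := by
  intro n
  induction n with
  | zero =>
    intro M _ _ s hs T _ _ _
    have hM : Subsingleton M := by
      have : (⊥ : Submodule A M) = ⊤ := by
        rw [← hs, Set.range_eq_empty, Submodule.span_empty]
      exact subsingleton_of_bot_eq_top (α := Submodule A M) this |> fun h =>
        (Submodule.subsingleton_iff A).1 h
    rw [Module.annihilator_eq_top_iff.2 hM, Submodule.top_smul]
  | succ n ih =>
    intro M _ _ s hs T _ _ _
    set x := s 0 with hx
    set K := Submodule.span A {x} with hK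
    let s' : Fin n → M ⧸ K := fun i => K.mkQ (s i.succ)
    have hs'' : ∀ m ∈ Submodule.span A (Set.range s), K.mkQ m ∈ Submodule.span A (Set.range s') := by
      intro m hm
      induction hm using Submodule.span_induction with
      | mem z hz =>
        obtain ⟨i, rfl⟩ := hz
        induction i using Fin.cases with
        | zero =>
          have : K.mkQ (s 0) = 0 := by
            rw [Submodule.mkQ_apply, Submodule.Quotient.mk_eq_zero]
            exact Submodule.subset_span rfl
          rw [this]; exact Submodule.zero_mem _
        | succ j => exact Submodule.subset_span ⟨j, rfl⟩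
      | zero => rw [map_zero]; exact Submodule.zero_mem _
      | add a b _ _ ha hb => rw [map_add]; exact Submodule.add_mem _ ha hb
      | smul c a _ ha => rw [map_smul]; exact Submodule.smul_mem _ c ha
    have hs' : Submodule.span A (Set.range s') = ⊤ := by
      rw [eq_top_iff]
      intro y _
      obtain ⟨m, rfl⟩ := Submodule.mkQ_surjective K y
      exact hs'' m (by rw [hs]; exact Submodule.mem_top)
    have hsub : Subsingleton (T ⊗[A] (M ⧸ K)) :=
      (LinearMap.lTensor_surjective T (Submodule.mkQ_surjective K)).subsingleton
    have hIH := ih (M ⧸ K) s' hs' T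
    set I' := Module.annihilator A (M ⧸ K) with hI'
    set J : Ideal A := LinearMap.ker (LinearMap.toSpanSingleton A M x) with hJ
    have hmemK : ∀ a ∈ I', ∀ m : M, a • m ∈ K := by
      intro a ha m
      have := Module.mem_annihilator.1 ha (K.mkQ m)
      rw [← map_smul, Submodule.mkQ_apply, Submodule.Quotient.mk_eq_zero] at this
      exact this
    have h2 : I' • (⊤ : Submodule A T) ≤ J • (⊤ : Submodule A T) := by
      rw [Submodule.smul_le]
      intro a ha t _
      exact smul_mem_of_tensor_subsingleton M T x a (hmemK a ha) t
    have h1 : I' * J ≤ Module.annihilator A M := by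
      rw [Ideal.mul_le]
      intro a ha j hj
      rw [Module.mem_annihilator]
      intro m
      obtain ⟨r, hr⟩ := Submodule.mem_span_singleton.1 (hmemK a ha m)
      have hjx : j • x = 0 := by
        have := LinearMap.mem_ker.1 hj
        rwa [LinearMap.toSpanSingleton_apply] at this
      rw [mul_comm, mul_smul, ← hr, smul_comm, hjx, smul_zero]
    have hJtop : J • (⊤ : Submodule A T) = ⊤ :=
      le_antisymm le_top (hIH.symm.le.trans h2)
    rw [eq_top_iff]
    calc (⊤ : Submodule A T) = I' • (J • (⊤ : Submodule A T)) := by rw [hJtop, hIH]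
      _ = (I' * J) • (⊤ : Submodule A T) := (Submodule.mul_smul _ _ _).symm
      _ ≤ Module.annihilator A M • ⊤ := Submodule.smul_mono_left h1

/-- If `M` is finitely generated and faithful and `T ⊗ M = 0`, then `T = 0`. -/
theorem subsingleton_of_tensor_subsingleton (M T : Type u) [AddCommGroup M] [Module A M]
    [Module.Finite A M] [AddCommGroup T] [Module A T] (hM : Module.annihilator A M = ⊥)
    [Subsingleton (T ⊗[A] M)] : Subsingleton T := by
  obtain ⟨n, s, hs⟩ := Module.Finite.exists_fin (R := A) (M := M)
  have h := annihilator_smul_top_eq_top n M s hs T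
  rw [hM, Submodule.bot_smul] at h
  exact (Submodule.subsingleton_iff A).1 (subsingleton_of_bot_eq_top h)

end Groth.Agent.Lib.Helper58.TensorAnn
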