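import Groth.Agent.Lib.Helper58.NV8
import Groth.Agent.Lib.Helper58.TensorAnn

/-!
# Grothendieck's non-vanishing theorem for modules: `H^{dim M}_m(M) ≠ 0`
-/

set_option autoImplicit false
universe u
open IsLocalRing Pointwise CategoryTheory TensorProduct

namespace Groth.Agent.Lib.Helper58.NV

open Groth.Agent.Lib.Helper41.LC Groth.Agent.Lib.Helper58.LCRep

variable (R : Type u) [CommRing R] [IsNoetherianRing R] [IsLocalRing R]
  (M : Type u) [AddCommGroup M] [Module R M] [Module.Finite R M] [Nontrivial M]

/-- Data attached to the passage to `A = R / Ann M`: over `A`, the module `M` is finite and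
faithful, `A` is local of dimension `dim M`, and the top local cohomology of `M` over `A` is
`H^n_{m_A}(A) ⊗_A M`, additively isomorphic to `H^n_m(M)` over `R`. -/
theorem exists_quotient_data (n : ℕ) (hn : Module.supportDim R M = n) :
    ∃ (_ : Module (R ⧸ Module.annihilator R M) M)
      (_ : IsScalarTower R (R ⧸ Module.annihilator R M) M)
      (_ : IsLocalRing (R ⧸ Module.annihilator R M))
      (_ : Module.Finite (R ⧸ Module.annihilator R M) M),
      ringKrullDim (R ⧸ Module.annihilator R M) = n ∧
      Module.annihilator (R ⧸ Module.annihilator R M) M = ⊥ ∧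
      (maximalIdeal R).map (algebraMap R (R ⧸ Module.annihilator R M)) =
        maximalIdeal (R ⧸ Module.annihilator R M) := by
  let _ : Module (R ⧸ Module.annihilator R M) M := Module.quotientAnnihilator
  have hst : IsScalarTower R (R ⧸ Module.annihilator R M) M :=
    Module.IsTorsionBySet.isScalarTower (Module.isTorsionBySet_annihilator R M)
  have hne : Module.annihilator R M ≠ ⊤ := by
    intro h
    rw [Module.annihilator_eq_top_iff] at h
    exact not_subsingleton M h
  have hnt : Nontrivial (R ⧸ Module.annihilator R M) := Ideal.Quotient.nontrivial_iff.2 hne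
  have hloc : IsLocalRing (R ⧸ Module.annihilator R M) :=
    IsLocalRing.of_surjective' (Ideal.Quotient.mk _) Ideal.Quotient.mk_surjective
  have hfin : Module.Finite (R ⧸ Module.annihilator R M) M :=
    Module.Finite.of_restrictScalars_finite R _ _
  refine ⟨inferInstance, hst, hloc, hfin, ?_, ?_, map_maximalIdeal_quotient _⟩
  · rw [← Module.supportDim_eq_ringKrullDim_quotient_annihilator, hn]
  · rw [eq_bot_iff]
    intro a ha
    obtain ⟨r, rfl⟩ := Ideal.Quotient.mk_surjective a
    rw [Ideal.mem_bot, Ideal.Quotient.eq_zero_iff_mem, Module.mem_annihilator]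
    intro m
    have := Module.mem_annihilator.1 ha m
    rwa [← Ideal.Quotient.algebraMap_eq, algebraMap_smul] at this

theorem nontrivial_supportDim (n : ℕ) (hn : Module.supportDim R M = n) :
    Nontrivial ((localCohomology (maximalIdeal R) n).obj (ModuleCat.of R M)) := by
  obtain ⟨_, _, _, _, hdim, hann, hmax⟩ := exists_quotient_data R M n hn
  set A := R ⧸ Module.annihilator R M with hA
  obtain ⟨ψ, -⟩ := Groth.Agent.Lib.Helper58.LCBase.exists_addEquiv (R := R) (R' := A)
    (maximalIdeal R) n M
  rw [hmax] at ψ
  obtain ⟨φ⟩ := tensorHyp_top A n hdim (maximalIdeal A) M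
  by_contra hcon
  rw [not_nontrivial_iff_subsingleton] at hcon
  have h1 : Subsingleton ((localCohomology (maximalIdeal A) n).obj (ModuleCat.of A M)) :=
    ψ.toEquiv.subsingleton
  have h2 : Subsingleton (((localCohomology (maximalIdeal A) n).obj (ModuleCat.of A A)) ⊗[A] M) :=
    φ.symm.toEquiv.subsingleton
  have h3 := Groth.Agent.Lib.Helper58.TensorAnn.subsingleton_of_tensor_subsingleton (A := A) M
    ((localCohomology (maximalIdeal A) n).obj (ModuleCat.of A A)) hann
  have h4 := nontrivial_top A n hdim
  exact not_subsingleton _ h3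

end Groth.Agent.Lib.Helper58.NV
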