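import Groth.Agent.Lib.Helper58.DTLib4
import Groth.Agent.Lib.Helper41.LCTorsion
import Mathlib.Algebra.Homology.DerivedCategory.Ext.EnoughProjectives
import Mathlib.Algebra.Category.ModuleCat.Projective

/-!
# Ideal transform versus first local cohomology: `coker (M → D_I M) ≃ H^1_I(M)`
-/

set_option autoImplicit false
universe u
open CategoryTheory CategoryTheory.Limits Opposite CategoryTheory.Abelian
open LocCoh

namespace Groth.Agent.Lib.Helper58.DTH1

open Groth.Agent.Lib.Helper41.LC Groth.Agent.Lib.Helper41.OldExt Groth.Agent.Lib.Helper58.DTLib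

variable {R : Type u} [CommRing R] (I : Ideal R)

/-- Maps out of `D_I(M)` from compatible families. -/
noncomputable def descDT (M : Type u) [AddCommGroup M] [Module R M]
    {N : Type u} [AddCommGroup N] [Module R N]
    (φ : ∀ n, (↥(I ^ n) →ₗ[R] M) →ₗ[R] N)
    (hφ : ∀ (n m : ℕ) (h : n ≤ m) (f : ↥(I ^ n) →ₗ[R] M),
      φ m (f ∘ₗ Submodule.inclusion (Ideal.pow_le_pow_right h)) = φ n f) :
    DT I M →ₗ[R] N :=
  ((evalCoconeIsColimit I M).desc
    { pt := ModuleCat.of R N
      ι :=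
        { app := fun j => ModuleCat.ofHom (φ j.unop.unop ∘ₗ
            (ModuleCat.homLinearEquiv (S := R) (M := ModuleCat.of R ↥(I ^ j.unop.unop))
              (N := ModuleCat.of R M)).toLinearMap)
          naturality := by
            intro a b f
            have hle : a.unop.unop ≤ b.unop.unop := f.unop.unop.le
            have hf : f = (homOfLE hle).op.op := Subsingleton.elim _ _
            subst hf
            apply ModuleCat.hom_ext
            apply LinearMap.ext
            intro y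
            simp only [Functor.const_obj_obj, Functor.const_obj_map, Category.comp_id,
              ModuleCat.hom_comp, LinearMap.comp_apply]
            exact hφ _ _ hle _ } }).hom

theorem descDT_ιDT (M : Type u) [AddCommGroup M] [Module R M]
    {N : Type u} [AddCommGroup N] [Module R N]
    (φ : ∀ n, (↥(I ^ n) →ₗ[R] M) →ₗ[R] N)
    (hφ : ∀ (n m : ℕ) (h : n ≤ m) (f : ↥(I ^ n) →ₗ[R] M),
      φ m (f ∘ₗ Submodule.inclusion (Ideal.pow_le_pow_right h)) = φ n f)
    (n : ℕ) (f : ↥(I ^ n) →ₗ[R] M) : descDT I M φ hφ (ιDT I M n f) = φ n f := by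
  have h1 := (evalCoconeIsColimit I M).fac
    { pt := ModuleCat.of R N
      ι :=
        { app := fun j => ModuleCat.ofHom (φ j.unop.unop ∘ₗ
            (ModuleCat.homLinearEquiv (S := R) (M := ModuleCat.of R ↥(I ^ j.unop.unop))
              (N := ModuleCat.of R M)).toLinearMap)
          naturality := by
            intro a b f
            have hle : a.unop.unop ≤ b.unop.unop := f.unop.unop.le
            have hf : f = (homOfLE hle).op.op := Subsingleton.elim _ _
            subst hf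
            apply ModuleCat.hom_ext
            apply LinearMap.ext
            intro y
            simp only [Functor.const_obj_obj, Functor.const_obj_map, Category.comp_id,
              ModuleCat.hom_comp, LinearMap.comp_apply]
            exact hφ _ _ hle _ } } (op (op n))
  have h2 := congrArg (fun ψ => ψ.hom ((ModuleCat.homLinearEquiv (S := R)
    (M := ModuleCat.of R ↥(I ^ n)) (N := ModuleCat.of R M)).symm f)) h1
  simp only [ModuleCat.hom_comp, LinearMap.comp_apply] at h2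
  refine h2.trans ?_
  change φ n ((ModuleCat.homLinearEquiv (S := R) (M := ModuleCat.of R ↥(I ^ n))
    (N := ModuleCat.of R M)) ((ModuleCat.homLinearEquiv (S := R) (M := ModuleCat.of R ↥(I ^ n))
    (N := ModuleCat.of R M)).symm f)) = φ n f
  rw [LinearEquiv.apply_symm_apply]

/-- The short exact sequence `0 → I^n → R → R/I^n → 0`. -/
noncomputable abbrev sc (n : ℕ) : ShortComplex (ModuleCat.{u} R) := subQuotSC (I ^ n)

lemma sc_shortExact (n : ℕ) : (sc I n).ShortExact := subQuotSC_shortExact (I ^ n)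

/-- `I^n` as an object. -/
abbrev P (n : ℕ) : ModuleCat.{u} R := ModuleCat.of R ↥(I ^ n)

/-- The inclusion `I^m → I^n` for `n ≤ m`. -/
def incl {n m : ℕ} (h : n ≤ m) : P I m ⟶ P I n :=
  ModuleCat.ofHom (Submodule.inclusion (Ideal.pow_le_pow_right h))

noncomputable def scMap {n m : ℕ} (h : n ≤ m) : sc I m ⟶ sc I n where
  τ₁ := incl I h
  τ₂ := 𝟙 _
  τ₃ := proj I h
  comm₁₂ := by
    apply ModuleCat.hom_ext
    apply LinearMap.ext
    intro x
    rfl
  comm₂₃ := by
    apply ModuleCat.hom_ext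
    apply LinearMap.ext
    intro x
    rfl

/-- The extension class of `0 → I^n → R → R/I^n → 0`. -/
noncomputable def ec (n : ℕ) : Ext.{u} (Q I n) (P I n) 1 := (sc_shortExact I n).extClass

lemma ec_naturality {n m : ℕ} (h : n ≤ m) :
    (ec I m).comp (Ext.mk₀ (incl I h)) (add_zero 1) =
      (Ext.mk₀ (proj I h)).comp (ec I n) (zero_add 1) :=
  ShortComplex.ShortExact.extClass_naturality (sc_shortExact I m) (sc_shortExact I n) (scMap I h)

variable (M : ModuleCat.{u} R)

/-- The connecting map `Ext^i(I^n, M) → Ext^{i+1}(R/I^n, M)`. -/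
noncomputable def conn (n i : ℕ) : Ext.{u} (P I n) M i →ₗ[R] Ext.{u} (Q I n) M (i + 1) :=
  (ec I n).precompOfLinear R M (by omega : 1 + i = i + 1)

lemma conn_apply (n i : ℕ) (x : Ext.{u} (P I n) M i) :
    conn I M n i x = (ec I n).comp x (by omega : 1 + i = i + 1) := rfl

lemma conn_comp_proj {n m : ℕ} (h : n ≤ m) (i : ℕ) (x : Ext.{u} (P I n) M i) :
    (Ext.mk₀ (proj I h)).comp (conn I M n i x) (zero_add _) =
      conn I M m i ((Ext.mk₀ (incl I h)).comp x (zero_add i)) := by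
  rw [conn_apply, conn_apply,
    ← Ext.comp_assoc _ _ _ (zero_add 1) (by omega : 1 + i = i + 1) (by omega),
    ← ec_naturality,
    Ext.comp_assoc _ _ _ (add_zero 1) (zero_add i) (by omega)]

instance : Projective (ModuleCat.of R R) :=
  (ModuleCat.of R R).projective_of_categoryTheory_projective

instance (n : ℕ) : Projective (sc I n).X₂ := (inferInstance : Projective (ModuleCat.of R R))

lemma conn_surjective (n i : ℕ) : Function.Surjective (conn I M n i) := by
  intro e
  have h0 : (Ext.mk₀ (sc I n).g).comp e (zero_add (i + 1)) = 0 := Ext.eq_zero_of_projective _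
  obtain ⟨x₁, hx₁⟩ := Ext.contravariant_sequence_exact₃ (sc_shortExact I n) M e h0
    (by omega : 1 + i = i + 1)
  exact ⟨x₁, hx₁⟩

lemma conn_injective (n i : ℕ) (hi : 1 ≤ i) : Function.Injective (conn I M n i) := by
  rw [injective_iff_map_eq_zero]
  intro x hx
  obtain ⟨x₂, hx₂⟩ := Ext.contravariant_sequence_exact₁ (sc_shortExact I n) M x
    (by omega : 1 + i = i + 1) hx
  obtain ⟨j, rfl⟩ : ∃ j, i = j + 1 := ⟨i - 1, by omega⟩
  rw [← hx₂, Ext.eq_zero_of_projective x₂, Ext.comp_zero]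
  rfl

lemma conn_eq_zero_iff (n : ℕ) (f : P I n ⟶ M) :
    conn I M n 0 (Ext.mk₀ f) = 0 ↔ ∃ h : (sc I n).X₂ ⟶ M, (sc I n).f ≫ h = f := by
  constructor
  · intro hx
    obtain ⟨x₂, hx₂⟩ := Ext.contravariant_sequence_exact₁ (sc_shortExact I n) M (Ext.mk₀ f)
      (by omega : 1 + 0 = 0 + 1) hx
    obtain ⟨h, rfl⟩ := (Ext.mk₀_bijective _ _).2 x₂
    rw [Ext.mk₀_comp_mk₀] at hx₂
    exact ⟨h, (Ext.mk₀_bijective _ _).1 hx₂⟩
  · rintro ⟨h, rfl⟩
    have h1 := ShortComplex.ShortExact.extClass_comp_assoc (sc_shortExact I n) (Ext.mk₀ h)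
      (n' := 0 + 1) (h := by omega)
    rw [Ext.mk₀_comp_mk₀] at h1
    exact h1

section Theta

variable (N : Type u) [AddCommGroup N] [Module R N]

/-- `Hom(I^n, N) ≃ Ext^0(I^n, N)`. -/
noncomputable def homExt (n : ℕ) : (↥(I ^ n) →ₗ[R] N) ≃ₗ[R] Ext.{u} (P I n) (ModuleCat.of R N) 0 :=
  (ModuleCat.homLinearEquiv (S := R) (M := P I n) (N := ModuleCat.of R N)).symm ≪≫ₗ
    (Ext.linearEquiv₀ (R := R)).symm

lemma homExt_apply (n : ℕ) (f : ↥(I ^ n) →ₗ[R] N) :
    homExt I N n f = Ext.mk₀ (ModuleCat.ofHom f) := rfl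

/-- The level-`n` map `Hom(I^n, N) → H^1_I(N)`. -/
noncomputable def θ (n : ℕ) : (↥(I ^ n) →ₗ[R] N) →ₗ[R] (localCohomology I 1).obj (ModuleCat.of R N) :=
  ιH I 1 (ModuleCat.of R N) n ∘ₗ conn I (ModuleCat.of R N) n 0 ∘ₗ (homExt I N n).toLinearMap

lemma θ_apply (n : ℕ) (f : ↥(I ^ n) →ₗ[R] N) :
    θ I N n f = ιH I 1 (ModuleCat.of R N) n (conn I (ModuleCat.of R N) n 0 (Ext.mk₀ (ModuleCat.ofHom f))) :=
  rfl

lemma θ_compat (n m : ℕ) (h : n ≤ m) (f : ↥(I ^ n) →ₗ[R] N) :
    θ I N m (f ∘ₗ Submodule.inclusion (Ideal.pow_le_pow_right h)) = θ I N n f := by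
  rw [θ_apply, θ_apply]
  have h1 : Ext.mk₀ (ModuleCat.ofHom (f ∘ₗ Submodule.inclusion (Ideal.pow_le_pow_right h))) =
      (Ext.mk₀ (incl I h)).comp (Ext.mk₀ (ModuleCat.ofHom f)) (zero_add 0) := by
    rw [Ext.mk₀_comp_mk₀]
    rfl
  rw [h1, ← conn_comp_proj, ιH_comp]

/-- The comparison map `D_I(N) → H^1_I(N)`. -/
noncomputable def Θ : DT I N →ₗ[R] (localCohomology I 1).obj (ModuleCat.of R N) :=
  descDT I N (θ I N) (θ_compat I N)

lemma Θ_ιDT (n : ℕ) (f : ↥(I ^ n) →ₗ[R] N) : Θ I N (ιDT I N n f) = θ I N n f :=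
  descDT_ιDT I N _ _ n f

lemma Θ_surjective : Function.Surjective (Θ I N) := by
  intro x
  obtain ⟨n, e, rfl⟩ := Groth.Agent.Lib.Helper41.LC.exists_rep x
  obtain ⟨x₁, rfl⟩ := conn_surjective I (ModuleCat.of R N) n 0 e
  obtain ⟨f, rfl⟩ := (homExt I N n).surjective x₁
  exact ⟨ιDT I N n f, Θ_ιDT I N n f⟩

/-- `ιDT m (h ∘ subtype) = toDT (h 1)` for `h : R → N`. -/
lemma ιDT_comp_subtype (m : ℕ) (h : R →ₗ[R] N) :
    ιDT I N m (h ∘ₗ (I ^ m).subtype) = toDT I N (h 1) := by
  rw [toDT_eq, ← ιDT_comp_inclusion I N (Nat.zero_le m)]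
  congr 1
  ext a
  simp only [LinearMap.comp_apply, Submodule.subtype_apply, LinearMap.flip_apply,
    LinearMap.domRestrict_apply, LinearMap.lsmul_apply]
  rw [← map_smul]
  congr 1
  simp

lemma ker_Θ : LinearMap.ker (Θ I N) = LinearMap.range (toDT I N) := by
  apply le_antisymm
  · intro x hx
    obtain ⟨n, f, rfl⟩ := Groth.Agent.Lib.Helper58.DTLib.exists_rep I N x
    rw [LinearMap.mem_ker, Θ_ιDT, θ_apply, ιH_eq_zero_iff] at hx
    obtain ⟨m, hnm, hm⟩ := hx
    rw [conn_comp_proj, Ext.mk₀_comp_mk₀, conn_eq_zero_iff] at hm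
    obtain ⟨h, hh⟩ := hm
    let h' : R →ₗ[R] N := h.hom
    have h2 : f ∘ₗ Submodule.inclusion (Ideal.pow_le_pow_right hnm) = h' ∘ₗ (I ^ m).subtype := by
      have := congrArg ModuleCat.Hom.hom hh
      exact this.symm
    rw [← ιDT_comp_inclusion I N hnm f, h2, ιDT_comp_subtype I N m h']
    exact LinearMap.mem_range_self _ _
  · rintro _ ⟨y, rfl⟩
    rw [LinearMap.mem_ker]
    have h1 : toDT I N y = ιDT I N 0 (LinearMap.toSpanSingleton R N y ∘ₗ (I ^ 0).subtype) := by
      rw [ιDT_comp_subtype]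
      simp
    rw [h1, Θ_ιDT, θ_apply]
    have h2 : conn I (ModuleCat.of R N) 0 0
        (Ext.mk₀ (ModuleCat.ofHom (LinearMap.toSpanSingleton R N y ∘ₗ (I ^ 0).subtype))) = 0 := by
      rw [conn_eq_zero_iff]
      exact ⟨ModuleCat.ofHom (LinearMap.toSpanSingleton R N y), rfl⟩
    rw [h2, map_zero]

/-- `coker (N → D_I N) ≃ H^1_I(N)`. -/
noncomputable def cokerEquiv :
    (DT I N ⧸ LinearMap.range (toDT I N)) ≃ₗ[R] (localCohomology I 1).obj (ModuleCat.of R N) :=
  (Submodule.quotEquivOfEq _ _ (ker_Θ I N).symm) ≪≫ₗ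
    (Θ I N).quotKerEquivOfSurjective (Θ_surjective I N)

end Theta

end Groth.Agent.Lib.Helper58.DTH1
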