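import Groth.Agent.Lib.Helper58.NV5

/-!
# Grothendieck's non-vanishing theorem `H^d_m(R) ≠ 0`: the induction
-/

set_option autoImplicit false
universe u
open IsLocalRing Pointwise CategoryTheory

namespace Groth.Agent.Lib.Helper58.NV

open Groth.Agent.Lib.Helper41.LC Groth.Agent.Lib.Helper58.LCRep

/-- **Grothendieck's non-vanishing theorem** for local rings. -/
theorem nvHyp : ∀ d : ℕ, NVHyp.{u} d := by
  intro d
  induction d with
  | zero =>
    intro A _ _ _ hd
    exact nontrivial_zero hd
  | succ e ih =>
    intro A _ _ _ hd
    by_contra hcon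
    rw [not_nontrivial_iff_subsingleton] at hcon
    have hvan' : ∀ N : ModuleCat.{u} A,
        Subsingleton ((localCohomology (maximalIdeal A) (e + 1 + 1)).obj N) := fun N =>
      subsingleton_of_ringKrullDim_lt (maximalIdeal A) (e + 1) hd (e + 1 + 1)
        (Nat.lt_succ_self _) N
    have hvan : ∀ N : ModuleCat.{u} A,
        Subsingleton ((localCohomology (maximalIdeal A) (e + 1)).obj N) := by
      intro N
      obtain ⟨φ⟩ := nonempty_linearEquiv_tensor_of_subsingleton (maximalIdeal A) (e + 1) hvan' N
      have := subsingleton_tensor_left (R := A)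
        ((localCohomology (maximalIdeal A) (e + 1)).obj (ModuleCat.of A A)) N
      exact φ.toEquiv.subsingleton
    have hT : TensorHyp (maximalIdeal A) e := fun M _ _ =>
      nonempty_linearEquiv_tensor_of_subsingleton (maximalIdeal A) e hvan M
    cases e with
    | zero => exact false_of_tensorHyp_zero hd hT
    | succ e' => exact false_of_tensorHyp e' hd ih hT

theorem nontrivial_top (R : Type u) [CommRing R] [IsNoetherianRing R] [IsLocalRing R] (d : ℕ)
    (hd : ringKrullDim R = d) :
    Nontrivial ((localCohomology (maximalIdeal R) d).obj (ModuleCat.of R R)) :=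
  nvHyp d R hd

end Groth.Agent.Lib.Helper58.NV
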