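import Groth.Prelude.Def_W4bk5brsh16IT
import Mathlib.Algebra.Category.ModuleCat.FilteredColimits

/-!
# Concrete description of the ideal transform `D_I(M) = colim_n Hom(I^n, M)`
-/

set_option autoImplicit false
universe u
open CategoryTheory CategoryTheory.Limits Opposite
open LocCoh

namespace Groth.Agent.Lib.Helper58.DTLib

variable {R : Type u} [CommRing R] (I : Ideal R) (M : Type u) [AddCommGroup M] [Module R M]

instance preservesColimitsOfShape_nat_forget (R : Type u) [CommRing R] :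
    PreservesColimitsOfShape ℕᵒᵖᵒᵖ (forget (ModuleCat.{u} R)) :=
  have : PreservesFilteredColimitsOfSize.{0, 0} (forget (ModuleCat.{u} R)) :=
    preservesSmallestFilteredColimits_of_preservesFilteredColimits.{u, u} _
  PreservesFilteredColimitsOfSize.preserves_filtered_colimits _

/-- The diagram `n ↦ Hom(I^n, M)`. -/
noncomputable abbrev evalDiagram : ℕᵒᵖᵒᵖ ⥤ ModuleCat.{u} R :=
  transformDiagram I ⋙ (evaluation _ _).obj (ModuleCat.of R M)

/-- The colimit cocone on `evalDiagram` with point `DT I M`. -/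
noncomputable def evalCocone : Cocone (evalDiagram I M) :=
  ((evaluation _ _).obj (ModuleCat.of R M)).mapCocone (colimit.cocone (transformDiagram I))

noncomputable def evalCoconeIsColimit : IsColimit (evalCocone I M) :=
  isColimitOfPreserves ((evaluation _ _).obj (ModuleCat.of R M)) (colimit.isColimit (transformDiagram I))

/-- The structure map `Hom(I^n, M) → D_I(M)`. -/
noncomputable def ιDT (n : ℕ) : (↥(I ^ n) →ₗ[R] M) →ₗ[R] DT I M :=
  ((colimit.ι (transformDiagram I) (op (op n))).app (ModuleCat.of R M)).hom ∘ₗ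
    (ModuleCat.homLinearEquiv (S := R) (M := ModuleCat.of R ↥(I ^ n)) (N := ModuleCat.of R M)).symm.toLinearMap

theorem toDT_eq (m : M) :
    toDT I M m = ιDT I M 0 (((LinearMap.lsmul R M).domRestrict (I ^ 0)).flip m) := rfl

theorem exists_rep (x : DT I M) : ∃ (n : ℕ) (f : ↥(I ^ n) →ₗ[R] M), ιDT I M n f = x := by
  obtain ⟨j, y, hy⟩ := Concrete.isColimit_exists_rep (evalDiagram I M) (evalCoconeIsColimit I M) x
  refine ⟨j.unop.unop, (ModuleCat.homLinearEquiv (S := R) (M := ModuleCat.of R ↥(I ^ j.unop.unop)) (N := ModuleCat.of R M)) y, ?_⟩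
  rw [← hy]
  simp only [ιDT, LinearMap.comp_apply]
  rfl

theorem ιDT_comp_inclusion {n m : ℕ} (h : n ≤ m) (f : ↥(I ^ n) →ₗ[R] M) :
    ιDT I M m (f ∘ₗ Submodule.inclusion (Ideal.pow_le_pow_right h)) = ιDT I M n f := by
  have := (evalCocone I M).ι.naturality (X := op (op n)) (Y := op (op m)) (homOfLE h).op.op
  have h2 := ConcreteCategory.congr_hom this ((ModuleCat.homLinearEquiv (S := R) (M := ModuleCat.of R ↥(I ^ n)) (N := ModuleCat.of R M)).symm f)
  simp only [Functor.const_obj_obj, Functor.const_obj_map, Category.comp_id] at h2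
  exact h2

theorem ιDT_eq_zero_iff (n : ℕ) (f : ↥(I ^ n) →ₗ[R] M) :
    ιDT I M n f = 0 ↔ ∃ (m : ℕ) (h : n ≤ m), f ∘ₗ Submodule.inclusion (Ideal.pow_le_pow_right h) = 0 := by
  constructor
  · intro h0
    have h1 : (evalCocone I M).ι.app (op (op n)) ((ModuleCat.homLinearEquiv (S := R) (M := ModuleCat.of R ↥(I ^ n)) (N := ModuleCat.of R M)).symm f)
        = (evalCocone I M).ι.app (op (op n)) 0 := by
      rw [map_zero]; exact h0
    obtain ⟨k, a, b, hab⟩ := Concrete.isColimit_exists_of_rep_eq (evalDiagram I M) (evalCoconeIsColimit I M) _ _ h1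
    refine ⟨k.unop.unop, a.unop.unop.le, ?_⟩
    rw [map_zero] at hab
    have := congrArg (ModuleCat.homLinearEquiv (S := R) (M := ModuleCat.of R ↥(I ^ k.unop.unop)) (N := ModuleCat.of R M)) hab
    refine Eq.trans ?_ (this.trans (LinearEquiv.map_zero _))
    rfl
  · rintro ⟨m, h, hm⟩
    rw [← ιDT_comp_inclusion I M h f, hm, map_zero]

theorem ιDT_eq_zero_of_mul_le (n k : ℕ) (f : ↥(I ^ n) →ₗ[R] M)
    (h : ∀ a ∈ I ^ k, ∀ b : ↥(I ^ n), a • f b = 0) : ιDT I M n f = 0 := by
  rw [ιDT_eq_zero_iff]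
  refine ⟨k + n, Nat.le_add_left n k, ?_⟩
  have key : I ^ k * I ^ n ≤ Submodule.map (I ^ n).subtype (LinearMap.ker f) := by
    rw [Ideal.mul_le]
    intro a ha b hb
    refine ⟨a • ⟨b, hb⟩, ?_, rfl⟩
    rw [SetLike.mem_coe, LinearMap.mem_ker, map_smul]
    exact h a ha ⟨b, hb⟩
  ext ⟨x, hx⟩
  rw [pow_add] at hx
  obtain ⟨y, hy, hyx⟩ := key hx
  have : (Submodule.inclusion (Ideal.pow_le_pow_right (Nat.le_add_left n k)) ⟨x, by rw [pow_add]; exact hx⟩ : ↥(I ^ n)) = y :=
    Subtype.ext hyx.symm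
  simp only [LinearMap.comp_apply, LinearMap.zero_apply]
  rw [this]
  exact hy

theorem exists_pow_smul_eq_zero_of_fg {N : Type*} [AddCommGroup N] [Module R N]
    (hN : IsPowerTorsion I N) (S : Submodule R N) (hS : S.FG) :
    ∃ k : ℕ, ∀ a ∈ I ^ k, ∀ y ∈ S, a • y = 0 := by
  induction S, hS using Submodule.fg_induction with
  | singleton y =>
    obtain ⟨k, hk⟩ := hN y
    refine ⟨k, fun a ha z hz => ?_⟩
    obtain ⟨r, rfl⟩ := Submodule.mem_span_singleton.mp hz
    rw [smul_comm, hk a ha, smul_zero]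
  | sup S₁ S₂ _ _ h₁ h₂ =>
    obtain ⟨k₁, hk₁⟩ := h₁
    obtain ⟨k₂, hk₂⟩ := h₂
    refine ⟨k₁ + k₂, fun a ha z hz => ?_⟩
    obtain ⟨y₁, hy₁, y₂, hy₂, rfl⟩ := Submodule.mem_sup.mp hz
    rw [smul_add, hk₁ a (Ideal.pow_le_pow_right (Nat.le_add_right _ _) ha) y₁ hy₁,
      hk₂ a (Ideal.pow_le_pow_right (Nat.le_add_left _ _) ha) y₂ hy₂, add_zero]

variable {M} in
theorem map_ιDT {M' : Type u} [AddCommGroup M'] [Module R M'] (g : M →ₗ[R] M') (n : ℕ)
    (f : ↥(I ^ n) →ₗ[R] M) :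
    ((idealTransform I).map (ModuleCat.ofHom g)).hom (ιDT I M n f) = ιDT I M' n (g ∘ₗ f) := by
  have := (colimit.ι (transformDiagram I) (op (op n))).naturality (ModuleCat.ofHom g)
  have h2 := ConcreteCategory.congr_hom this
    ((ModuleCat.homLinearEquiv (S := R) (M := ModuleCat.of R ↥(I ^ n)) (N := ModuleCat.of R M)).symm f)
  exact h2.symm

variable {M} in
theorem map_toDT {M' : Type u} [AddCommGroup M'] [Module R M'] (g : M →ₗ[R] M') (m : M) :
    ((idealTransform I).map (ModuleCat.ofHom g)).hom (toDT I M m) = toDT I M' (g m) := by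
  rw [toDT_eq, map_ιDT, toDT_eq]
  congr 1
  ext a
  simp

theorem smul_ιDT (n : ℕ) (f : ↥(I ^ n) →ₗ[R] M) (a : R) (ha : a ∈ I ^ n) :
    a • ιDT I M n f = toDT I M (f ⟨a, ha⟩) := by
  rw [toDT_eq, ← ιDT_comp_inclusion I M (Nat.zero_le n), ← map_smul]
  congr 1
  ext b
  simp only [LinearMap.smul_apply, LinearMap.comp_apply, LinearMap.flip_apply,
    LinearMap.domRestrict_apply, LinearMap.lsmul_apply]
  rw [← map_smul, ← map_smul]
  congr 1
  exact Subtype.ext (by simp [mul_comm])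

end Groth.Agent.Lib.Helper58.DTLib
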