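import Mathlib.Topology.Constructible
import Mathlib.Topology.Spectral.Prespectral
import Mathlib.Topology.Spectral.ConstructibleTopology

/-!
Helper lemmas on constructible sets, retrocompact sets and prespectral spaces (helper58).
-/

set_option autoImplicit false
universe u

open Topology Set

namespace Groth.Agent.Lib.Helper58

variable {X : Type u} [TopologicalSpace X]

/-- In a prespectral space, a compact open subset of a subspace is the trace of a compact open
subset of the ambient space. -/
theorem exists_compact_open_preimage_eq [PrespectralSpace X] (T : Set X) (W : Set T)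
    (hWo : IsOpen W) (hWc : IsCompact W) :
    ∃ V : Set X, IsOpen V ∧ IsCompact V ∧ (Subtype.val : T → X) ⁻¹' V = W := by
  obtain ⟨V', hV'o, rfl⟩ := isOpen_induced_iff.mp hWo
  have hK : IsCompact ((Subtype.val : T → X) '' ((Subtype.val : T → X) ⁻¹' V')) :=
    hWc.image continuous_subtype_val
  have hKV : (Subtype.val : T → X) '' ((Subtype.val : T → X) ⁻¹' V') ⊆ V' :=
    image_preimage_subset _ _
  obtain ⟨V, hVc, hVo, hKV1, hVV'⟩ :=
    PrespectralSpace.exists_isCompact_and_isOpen_between hK hV'o hKV
  refine ⟨V, hVo, hVc, ?_⟩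
  ext x
  constructor
  · intro hx
    exact hVV' hx
  · intro hx
    exact hKV1 ⟨x, hx, rfl⟩

/-- In a prespectral space, the trace of a retrocompact open on a retrocompact subset is
retrocompact in that subset. -/
theorem isRetrocompact_preimage_val_of_isRetrocompact [PrespectralSpace X] {T : Set X}
    (hT : IsRetrocompact T) {U : Set X} (hUo : IsOpen U) (hUr : IsRetrocompact U) :
    IsRetrocompact ((Subtype.val : T → X) ⁻¹' U) := by
  intro W hWc hWo
  obtain ⟨V, hVo, hVc, rfl⟩ := exists_compact_open_preimage_eq T W hWo hWc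
  rw [← preimage_inter, IsEmbedding.subtypeVal.isCompact_iff, image_preimage_eq_inter_range,
    Subtype.range_coe_subtype, inter_comm]
  exact hT (hUr hVc hVo) (hUo.inter hVo)

/-- Stacks 005K: traces of constructible sets on retrocompact subsets are constructible. -/
theorem isConstructible_preimage_val_of_isRetrocompact [PrespectralSpace X] {T : Set X}
    (hT : IsRetrocompact T) {E : Set X} (hE : IsConstructible E) :
    IsConstructible ((Subtype.val : T → X) ⁻¹' E) :=
  hE.preimage continuous_subtype_val fun _ hUo hUr =>
    isRetrocompact_preimage_val_of_isRetrocompact hT hUo hUr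

/-- Constructible sets are retrocompact (in any topological space). -/
theorem isRetrocompact_of_isConstructible {s : Set X} (hs : IsConstructible s) :
    IsRetrocompact s := by
  induction s, hs using BooleanSubalgebra.closure_sdiff_sup_induction with
  | isSublattice =>
    exact ⟨fun s hs t ht ↦ ⟨hs.1.union ht.1, hs.2.union ht.2⟩,
      fun s hs t ht ↦ ⟨hs.1.inter ht.1, hs.2.inter_isOpen ht.2 ht.1⟩⟩
  | bot_mem => exact ⟨isOpen_empty, .empty⟩
  | top_mem => exact ⟨isOpen_univ, .univ⟩
  | sdiff U hU V hV =>
    intro W hWc hWo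
    have h : (U \ V) ∩ W = (U ∩ W) ∩ Vᶜ := by
      ext x
      simp only [mem_inter_iff, mem_sdiff, mem_compl_iff]
      tauto
    rw [h]
    exact (hU.2 hWc hWo).inter_right hV.1.isClosed_compl
  | sup s _ t _ hs' ht' => exact hs'.union ht'

/-- Let `X` be prespectral, `E` retrocompact in `X` and `E' ⊆ E` constructible in `X`.
Then the trace on `E'` of a constructible subset of `E` is constructible in `E'`. -/
theorem isConstructible_preimage_inclusion [PrespectralSpace X] {E E' : Set X}
    (hE : IsRetrocompact E) (hE' : IsConstructible E') (h : E' ⊆ E) {G : Set E}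
    (hG : IsConstructible G) : IsConstructible (inclusion h ⁻¹' G) := by
  refine hG.preimage (continuous_inclusion h) fun W hWo hWr => ?_
  intro Q hQc hQo
  obtain ⟨B, hBo, hBc, rfl⟩ := exists_compact_open_preimage_eq E' Q hQo hQc
  -- `val ⁻¹' B` is compact open in `E`
  have hBE : IsCompact ((Subtype.val : E → X) ⁻¹' B) := by
    rw [IsEmbedding.subtypeVal.isCompact_iff, image_preimage_eq_inter_range,
      Subtype.range_coe_subtype, inter_comm]
    exact hE hBc hBo
  have hKc : IsCompact (W ∩ (Subtype.val : E → X) ⁻¹' B) :=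
    hWr hBE (hBo.preimage continuous_subtype_val)
  have hKo : IsOpen (W ∩ (Subtype.val : E → X) ⁻¹' B) :=
    hWo.inter (hBo.preimage continuous_subtype_val)
  have hret : IsRetrocompact ((Subtype.val : E → X) ⁻¹' E') :=
    isRetrocompact_of_isConstructible (isConstructible_preimage_val_of_isRetrocompact hE hE')
  have hfin : IsCompact ((Subtype.val : E → X) ⁻¹' E' ∩ (W ∩ (Subtype.val : E → X) ⁻¹' B)) :=
    hret hKc hKo
  have heq : inclusion h ⁻¹' W ∩ (Subtype.val : E' → X) ⁻¹' B =
      inclusion h ⁻¹' (W ∩ (Subtype.val : E → X) ⁻¹' B) := rfl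
  rw [heq, (IsEmbedding.inclusion h).isCompact_iff, image_preimage_eq_inter_range,
    range_inclusion, inter_comm]
  exact hfin

/-- Stacks 09YH: in a prespectral space, a constructible subset of a constructible subset is
constructible. -/
theorem isConstructible_image_val_of_isConstructible [PrespectralSpace X] {E : Set X}
    (hE : IsConstructible E) :
    ∀ F : Set E, IsConstructible F → IsConstructible ((Subtype.val : E → X) '' F) := by
  induction E, hE using BooleanSubalgebra.closure_sdiff_sup_induction with
  | isSublattice =>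
    exact ⟨fun s hs t ht ↦ ⟨hs.1.union ht.1, hs.2.union ht.2⟩,
      fun s hs t ht ↦ ⟨hs.1.inter ht.1, hs.2.inter_isOpen ht.2 ht.1⟩⟩
  | bot_mem => exact ⟨isOpen_empty, .empty⟩
  | top_mem => exact ⟨isOpen_univ, .univ⟩
  | sdiff U hU V hV =>
    intro F hF
    have hcl : IsClosed ((Subtype.val : U → X) ⁻¹' (U \ V)) := by
      have : (Subtype.val : U → X) ⁻¹' (U \ V) = ((Subtype.val : U → X) ⁻¹' V)ᶜ := by
        ext x
        simp
      rw [this]
      exact (hV.1.preimage continuous_subtype_val).isClosed_compl
    have hj : IsClosedEmbedding (inclusion (sdiff_subset : U \ V ⊆ U)) :=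
      IsClosedEmbedding.inclusion sdiff_subset hcl
    have hjc : IsRetrocompact (range (inclusion (sdiff_subset : U \ V ⊆ U)))ᶜ := by
      have : (range (inclusion (sdiff_subset : U \ V ⊆ U)))ᶜ = (Subtype.val : U → X) ⁻¹' V := by
        rw [range_inclusion]
        ext x
        simp
      rw [this]
      exact hV.2.preimage_of_isOpenEmbedding hU.1.isOpenEmbedding_subtypeVal
    have h1 := hF.image_of_isClosedEmbedding hj hjc
    have h2 := h1.image_of_isOpenEmbedding hU.1.isOpenEmbedding_subtypeVal
      (by rw [Subtype.range_coe]; exact hU.2)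
    rw [image_image] at h2
    exact h2
  | sup s hs t ht hs' ht' =>
    intro F hF
    have hst : IsRetrocompact (s ∪ t) :=
      isRetrocompact_of_isConstructible (IsConstructible.union hs ht)
    have hFs := hs' _ (isConstructible_preimage_inclusion hst hs subset_union_left hF)
    have hFt := ht' _ (isConstructible_preimage_inclusion hst ht subset_union_right hF)
    have : (Subtype.val : ↥(s ∪ t) → X) '' F =
        (Subtype.val : s → X) '' (inclusion subset_union_left ⁻¹' F) ∪
          (Subtype.val : t → X) '' (inclusion subset_union_right ⁻¹' F) := by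
      ext x
      constructor
      · rintro ⟨⟨y, hy | hy⟩, hyF, rfl⟩
        · exact Or.inl ⟨⟨y, hy⟩, hyF, rfl⟩
        · exact Or.inr ⟨⟨y, hy⟩, hyF, rfl⟩
      · rintro (⟨⟨y, hy⟩, hyF, rfl⟩ | ⟨⟨y, hy⟩, hyF, rfl⟩)
        · exact ⟨⟨y, Or.inl hy⟩, hyF, rfl⟩
        · exact ⟨⟨y, Or.inr hy⟩, hyF, rfl⟩
    exact (congrArg IsConstructible this).mpr (hFs.union hFt)

end Groth.Agent.Lib.Helper58
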