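import Mathlib.Algebra.Homology.DerivedCategory.HomologySequence
import Mathlib.Algebra.Homology.HomotopyCategory.MappingCocone
import Mathlib.Algebra.Homology.ShortComplex.ModuleCat
import Groth.Prelude.Def_DerCA

/-!
# The long exact cohomology sequence of a mapping cocone (in `ModuleCat`)

For `φ : K ⟶ L` a morphism of cochain complexes of `R`-modules, the long exact sequence
`⋯ → H^{n-1}(L) → H^n(cocone φ) → H^n(K) → H^n(L) → H^{n+1}(cocone φ) → ⋯`, in elementwise form.
-/

set_option autoImplicit false
universe u
attribute [local instance] HasDerivedCategory.standard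
open CategoryTheory CategoryTheory.Limits CochainComplex HomologicalComplex

namespace Groth.Agent.Lib.Helper58.Cech

variable {R : Type u} [CommRing R]
variable {K L : CochainComplex (ModuleCat.{u} R) ℤ} (φ : K ⟶ L)

/-- The connecting map `H^{n₀}(L) ⟶ H^{n₁}(cocone φ)`. -/
noncomputable def δc (n₀ n₁ : ℤ) (h : n₀ + 1 = n₁) :
    L.homology n₀ ⟶ (mappingCocone φ).homology n₁ :=
  CochainComplex.homologyδOfTriangle (mappingCocone.triangle φ) n₀ n₁ h

theorem exact₂ (n : ℤ) :
    Function.Exact (homologyMap (mappingCocone.fst φ) n).hom (homologyMap φ n).hom := by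
  have := CochainComplex.homologyMap_exact₂_of_distTriang (mappingCocone.triangle φ)
    (DerivedCategory.mappingCocone_triangle_distinguished φ) n
  exact (ShortComplex.ShortExact.moduleCat_exact_iff_function_exact _).1 this

theorem exact₃ (n₀ n₁ : ℤ) (h : n₀ + 1 = n₁) :
    Function.Exact (homologyMap φ n₀).hom (δc φ n₀ n₁ h).hom := by
  have := CochainComplex.homologyMap_exact₃_of_distTriang (mappingCocone.triangle φ)
    (DerivedCategory.mappingCocone_triangle_distinguished φ) n₀ n₁ h
  exact (ShortComplex.ShortExact.moduleCat_exact_iff_function_exact _).1 this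

theorem exact₁ (n₀ n₁ : ℤ) (h : n₀ + 1 = n₁) :
    Function.Exact (δc φ n₀ n₁ h).hom (homologyMap (mappingCocone.fst φ) n₁).hom := by
  have := CochainComplex.homologyMap_exact₁_of_distTriang (mappingCocone.triangle φ)
    (DerivedCategory.mappingCocone_triangle_distinguished φ) n₀ n₁ h
  exact (ShortComplex.ShortExact.moduleCat_exact_iff_function_exact _).1 this

end Groth.Agent.Lib.Helper58.Cech
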