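import Groth.Agent.Lib.Helper58.Cech9

/-!
# The extended Čech complex computes local cohomology (Noetherian case)
-/

set_option autoImplicit false
universe u
open CategoryTheory CategoryTheory.Limits CochainComplex HomologicalComplex
open LocCoh

namespace Groth.Agent.Lib.Helper58.Cech

section Coker

variable {R : Type u} [CommRing R]

theorem nonempty_quotient_equiv {A B A' B' X Y : Type u}
    [AddCommGroup A] [Module R A] [AddCommGroup B] [Module R B]
    [AddCommGroup A'] [Module R A'] [AddCommGroup B'] [Module R B']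
    [AddCommGroup X] [Module R X] [AddCommGroup Y] [Module R Y]
    (u : A →ₗ[R] B) (u' : A' →ₗ[R] B') (ιA : A →ₗ[R] X) (ιB : B →ₗ[R] Y)
    (ιA' : A' →ₗ[R] X) (ιB' : B' →ₗ[R] Y) (h : X →ₗ[R] Y)
    (hB : Function.Injective ιB) (hB' : Function.Injective ιB')
    (hrA : LinearMap.range ιA = LinearMap.range ιA') (hrB : LinearMap.range ιB = LinearMap.range ιB')
    (hc : ∀ a, ιB (u a) = h (ιA a)) (hc' : ∀ a, ιB' (u' a) = h (ιA' a)) :
    Nonempty ((B ⧸ LinearMap.range u) ≃ₗ[R] (B' ⧸ LinearMap.range u')) := by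
  let e : B ≃ₗ[R] B' := (LinearEquiv.ofInjective ιB hB).trans
    ((LinearEquiv.ofEq _ _ hrB).trans (LinearEquiv.ofInjective ιB' hB').symm)
  have he : ∀ b, ιB' (e b) = ιB b := by
    intro b
    have h1 : (LinearEquiv.ofInjective ιB' hB') (e b) =
        (LinearEquiv.ofEq _ _ hrB) (LinearEquiv.ofInjective ιB hB b) := by
      simp only [e, LinearEquiv.trans_apply, LinearEquiv.apply_symm_apply]
    exact congrArg Subtype.val h1
  have hmap : (LinearMap.range u).map (e : B →ₗ[R] B') = LinearMap.range u' := by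
    ext b'
    constructor
    · rintro ⟨b, ⟨a, rfl⟩, rfl⟩
      have ha : ιA a ∈ LinearMap.range ιA' := hrA ▸ LinearMap.mem_range_self ιA a
      obtain ⟨a', ha'⟩ := ha
      refine ⟨a', hB' ?_⟩
      change ιB' (u' a') = ιB' (e (u a))
      rw [he, hc, hc', ha']
    · rintro ⟨a', rfl⟩
      have ha : ιA' a' ∈ LinearMap.range ιA := hrA ▸ LinearMap.mem_range_self ιA' a'
      obtain ⟨a, ha⟩ := ha
      refine ⟨u a, LinearMap.mem_range_self u a, hB' ?_⟩
      change ιB' (e (u a)) = ιB' (u' a')
      rw [he, hc, hc', ha]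
  exact ⟨Submodule.Quotient.equiv _ _ e hmap⟩

end Coker

variable {R : Type u} [CommRing R] [IsNoetherianRing R]

/-- The short exact sequence `0 → M → E → Q → 0` with `E` an injective hull-ish object. -/
noncomputable def injSC (M : ModuleCat.{u} R) : ShortComplex (ModuleCat.{u} R) :=
  ShortComplex.mk (Injective.ι M) (cokernel.π (Injective.ι M)) (cokernel.condition _)

theorem injSC_shortExact (M : ModuleCat.{u} R) : (injSC M).ShortExact :=
  Groth.Agent.Lib.Helper41.LC.shortExact_of_mono (Injective.ι M)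

instance (M : ModuleCat.{u} R) : Injective (injSC M).X₂ :=
  (inferInstance : Injective (Injective.under M))

variable (fs : List R)

theorem cech_isZero_injective (M : ModuleCat.{u} R) (q : ℤ) (hq : 1 ≤ q) :
    IsZero ((extCechSC (injSC M) fs).X₂.homology q) := by
  have : Subsingleton ((extCechSC (injSC M) fs).X₂.homology q) :=
    subsingleton_of_injective (injSC M).X₂ fs q hq
  exact ModuleCat.isZero_of_subsingleton _

/-- Dimension shifting on the Čech side. -/
noncomputable def cechShift (M : ModuleCat.{u} R) (i : ℕ) (hi : 1 ≤ i) :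
    DerCA.extCechH fs (injSC M).X₃ (i : ℤ) ≅ DerCA.extCechH fs M ((i + 1 : ℕ) : ℤ) :=
  (extCechSC_shortExact (injSC M) (injSC_shortExact M) fs).δIso (i : ℤ) ((i + 1 : ℕ) : ℤ)
    (by simp) (cech_isZero_injective fs M _ (by exact_mod_cast hi))
    (cech_isZero_injective fs M _ (by push_cast; omega))

/-- Dimension shifting on the local cohomology side. -/
noncomputable def lcShift (I : Ideal R) (M : ModuleCat.{u} R) (i : ℕ) (hi : 1 ≤ i) :
    (localCohomology I i).obj (injSC M).X₃ ≃ₗ[R] (localCohomology I (i + 1)).obj M :=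
  LinearEquiv.ofBijective (Groth.Agent.Lib.Helper41.LC.δ I (injSC_shortExact M) i (i + 1) rfl)
    (Groth.Agent.Lib.Helper41.LC.δ_bijective_of_subsingleton I (injSC_shortExact M) i
      (Groth.Agent.Lib.Helper41.LC.subsingleton_of_injective I (injSC M).X₂ i (by omega))
      (Groth.Agent.Lib.Helper41.LC.subsingleton_of_injective I (injSC M).X₂ (i + 1) (by omega)))

theorem range_toMod (I : Ideal R) (M : ModuleCat.{u} R) :
    LinearMap.range (Groth.Agent.Lib.Helper41.LC.toMod I M) = DRing.torsionSub I M := by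
  ext m
  rw [Groth.Agent.Lib.Helper41.LC.mem_range_toMod_iff]
  rfl

theorem nonempty_equiv_zero (M : ModuleCat.{u} R) :
    Nonempty (DerCA.extCechH fs M ((0 : ℕ) : ℤ) ≃ₗ[R]
      (localCohomology (Ideal.span {x | x ∈ fs}) 0).obj M) := by
  have e2 : (localCohomology (Ideal.span {x | x ∈ fs}) 0).obj M ≃ₗ[R]
      DRing.torsionSub (Ideal.span {x | x ∈ fs}) M :=
    (LinearEquiv.ofInjective (Groth.Agent.Lib.Helper41.LC.toMod (Ideal.span {x | x ∈ fs}) M)
      (Groth.Agent.Lib.Helper41.LC.toMod_injective _ M)).trans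
      (LinearEquiv.ofEq _ _ (range_toMod _ M))
  exact ⟨(h0Equiv M fs).trans e2.symm⟩

theorem nonempty_equiv_one (M : ModuleCat.{u} R) :
    Nonempty (DerCA.extCechH fs M ((1 : ℕ) : ℤ) ≃ₗ[R]
      (localCohomology (Ideal.span {x | x ∈ fs}) 1).obj M) := by
  set I := Ideal.span {x | x ∈ fs} with hI
  have hS := injSC_shortExact M
  have hC := extCechSC_shortExact (injSC M) hS fs
  -- Čech side
  let δC := hC.δ 0 1 (by simp)
  have hδC_surj : Function.Surjective δC.hom := by
    have : Epi δC := hC.epi_δ 0 1 (by simp) (cech_isZero_injective fs M 1 le_rfl)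
    exact (ModuleCat.epi_iff_surjective _).1 this
  have hδC_ker : LinearMap.ker δC.hom =
      LinearMap.range (homologyMap (extCechMap (injSC M).g fs) 0).hom := by
    have := (ShortComplex.ShortExact.moduleCat_exact_iff_function_exact _).1
      (hC.homology_exact₃ 0 1 (by simp))
    exact (LinearMap.exact_iff.1 this)
  let e1 : (DerCA.extCechH fs (injSC M).X₃ 0 ⧸
      LinearMap.range (homologyMap (extCechMap (injSC M).g fs) 0).hom) ≃ₗ[R]
      DerCA.extCechH fs M 1 :=
    (Submodule.quotEquivOfEq _ _ hδC_ker.symm).trans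
      (δC.hom.quotKerEquivOfSurjective hδC_surj)
  -- local cohomology side
  let δL := Groth.Agent.Lib.Helper41.LC.δ I hS 0 1 rfl
  have hδL_surj : Function.Surjective δL := fun x =>
    Groth.Agent.Lib.Helper41.LC.exact₁ I hS 0 1 rfl x
      (@Subsingleton.elim _ (Groth.Agent.Lib.Helper41.LC.subsingleton_of_injective I (injSC M).X₂ 1
        one_pos) _ _)
  have hδL_ker : LinearMap.ker δL =
      LinearMap.range ((localCohomology I 0).map (injSC M).g).hom := by
    ext x
    constructor
    · intro hx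
      obtain ⟨y, hy⟩ := Groth.Agent.Lib.Helper41.LC.exact₃ I hS 0 1 rfl x hx
      exact ⟨y, hy⟩
    · rintro ⟨y, rfl⟩
      exact Groth.Agent.Lib.Helper41.LC.δ_map_eq_zero I hS 0 1 rfl y
  let e2 : ((localCohomology I 0).obj (injSC M).X₃ ⧸
      LinearMap.range ((localCohomology I 0).map (injSC M).g).hom) ≃ₗ[R]
      (localCohomology I 1).obj M :=
    (Submodule.quotEquivOfEq _ _ hδL_ker.symm).trans (δL.quotKerEquivOfSurjective hδL_surj)
  -- comparison of cokernels
  obtain ⟨e3⟩ := nonempty_quotient_equiv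
    (homologyMap (extCechMap (injSC M).g fs) 0).hom
    ((localCohomology I 0).map (injSC M).g).hom
    (ιH0 (injSC M).X₂ fs).hom (ιH0 (injSC M).X₃ fs).hom
    (Groth.Agent.Lib.Helper41.LC.toMod I (injSC M).X₂)
    (Groth.Agent.Lib.Helper41.LC.toMod I (injSC M).X₃)
    (injSC M).g.hom
    (ιH0_spec (injSC M).X₃ fs).1 (Groth.Agent.Lib.Helper41.LC.toMod_injective I _)
    ((range_ιH0 _ fs).trans (range_toMod I _).symm)
    ((range_ιH0 _ fs).trans (range_toMod I _).symm)
    (fun a => ιH0_naturality_apply (injSC M).g fs a)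
    (fun a => Groth.Agent.Lib.Helper41.LC.toMod_naturality I (injSC M).g a)
  exact ⟨e1.symm.trans (e3.trans e2)⟩

/-- The extended Čech complex computes local cohomology. -/
theorem nonempty_equiv : ∀ (i : ℕ) (M : ModuleCat.{u} R),
    Nonempty (DerCA.extCechH fs M (i : ℤ) ≃ₗ[R]
      (localCohomology (Ideal.span {x | x ∈ fs}) i).obj M)
  | 0, M => nonempty_equiv_zero fs M
  | 1, M => nonempty_equiv_one fs M
  | (i + 2), M => by
    obtain ⟨e⟩ := nonempty_equiv (i + 1) (injSC M).X₃
    exact ⟨((cechShift fs M (i + 1) (by omega)).symm.toLinearEquiv.trans e).trans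
      (lcShift _ M (i + 1) (by omega))⟩

end Groth.Agent.Lib.Helper58.Cech
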