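import Groth.Agent.Lib.Helper58.DTLib2

/-!
# Ideal transforms: universal property
-/

set_option autoImplicit false
universe u
open CategoryTheory CategoryTheory.Limits Opposite
open LocCoh

namespace Groth.Agent.Lib.Helper58.DTLib

variable {R : Type u} [CommRing R] (I : Ideal R)
variable {M M' K : Type u} [AddCommGroup M] [Module R M] [AddCommGroup M'] [Module R M']
  [AddCommGroup K] [Module R K]

/-- Two maps into a module without `I`-torsion agreeing on the range of a map with torsion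
cokernel agree. -/
theorem eq_of_comp_eq_of_torsion {N : Type u} [AddCommGroup N] [Module R N]
    (hN : DRing.torsionSub I N = ⊥) (e : M →ₗ[R] M')
    (hcoker : IsPowerTorsion I (M' ⧸ LinearMap.range e)) (ψ₁ ψ₂ : M' →ₗ[R] N)
    (h : ψ₁ ∘ₗ e = ψ₂ ∘ₗ e) : ψ₁ = ψ₂ := by
  ext m'
  rw [← sub_eq_zero, ← LinearMap.sub_apply]
  have hmem : (ψ₁ - ψ₂) m' ∈ DRing.torsionSub I N := by
    obtain ⟨k, hk⟩ := hcoker (Submodule.Quotient.mk m')
    refine ⟨k, fun a ha => ?_⟩
    have h1 := hk a ha
    rw [← Submodule.Quotient.mk_smul, Submodule.Quotient.mk_eq_zero] at h1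
    obtain ⟨m, hm⟩ := h1
    rw [← map_smul, ← hm, LinearMap.sub_apply, ← LinearMap.comp_apply, ← LinearMap.comp_apply, h,
      sub_self]
  rw [hN] at hmem
  exact (Submodule.mem_bot R).mp hmem

/-- The inverse of `D_I(e)` as a linear equivalence. -/
noncomputable def mapEquiv [IsNoetherianRing R] (e : M →ₗ[R] M')
    (hker : LinearMap.ker e ≤ DRing.torsionSub I M)
    (hcoker : IsPowerTorsion I (M' ⧸ LinearMap.range e)) : DT I M ≃ₗ[R] DT I M' :=
  LinearEquiv.ofBijective ((idealTransform I).map (ModuleCat.ofHom e)).hom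
    (map_bijective_of_torsion I e hker hcoker)

/-- The unique factorization `ψ' : M' → D_I(K)` of `η_K ∘ ψ` through `e`. -/
noncomputable def factor [IsNoetherianRing R] (e : M →ₗ[R] M')
    (hker : LinearMap.ker e ≤ DRing.torsionSub I M)
    (hcoker : IsPowerTorsion I (M' ⧸ LinearMap.range e)) (ψ : M →ₗ[R] K) :
    M' →ₗ[R] DT I K :=
  ((idealTransform I).map (ModuleCat.ofHom ψ)).hom ∘ₗ
    (mapEquiv I e hker hcoker).symm.toLinearMap ∘ₗ toDT I M'

theorem factor_comp [IsNoetherianRing R] (e : M →ₗ[R] M')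
    (hker : LinearMap.ker e ≤ DRing.torsionSub I M)
    (hcoker : IsPowerTorsion I (M' ⧸ LinearMap.range e)) (ψ : M →ₗ[R] K) :
    factor I e hker hcoker ψ ∘ₗ e = toDT I K ∘ₗ ψ := by
  ext m
  simp only [factor, LinearMap.comp_apply, LinearEquiv.coe_coe]
  have : (mapEquiv I e hker hcoker).symm (toDT I M' (e m)) = toDT I M m := by
    rw [LinearEquiv.symm_apply_eq]
    exact (map_toDT I e m).symm
  rw [this, map_toDT]

theorem eq_factor [IsNoetherianRing R] (e : M →ₗ[R] M')
    (hker : LinearMap.ker e ≤ DRing.torsionSub I M)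
    (hcoker : IsPowerTorsion I (M' ⧸ LinearMap.range e)) (ψ : M →ₗ[R] K)
    (ψ' : M' →ₗ[R] DT I K) (h : ψ' ∘ₗ e = toDT I K ∘ₗ ψ) :
    ψ' = factor I e hker hcoker ψ :=
  eq_of_comp_eq_of_torsion I (torsionSub_DT_eq_bot I K) e hcoker _ _
    (h.trans (factor_comp I e hker hcoker ψ).symm)

theorem map_bijective_of_bijective (ψ : M →ₗ[R] K) (hψ : Function.Bijective ψ) :
    Function.Bijective ((idealTransform I).map (ModuleCat.ofHom ψ)).hom := by
  have : IsIso (ModuleCat.ofHom ψ) :=
    (ConcreteCategory.isIso_iff_bijective (ModuleCat.ofHom ψ)).mpr hψ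
  exact (ConcreteCategory.isIso_iff_bijective _).mp (inferInstance : IsIso ((idealTransform I).map (ModuleCat.ofHom ψ)))

end Groth.Agent.Lib.Helper58.DTLib
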