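import Mathlib.Algebra.Homology.ShortComplex.ExactFunctor
import Mathlib.Algebra.Homology.ShortComplex.PreservesHomology
import Mathlib.Algebra.Module.LocalizedModule.Exact
import Groth.Agent.Lib.Helper58.Cech1

/-!
# Localisation commutes with cohomology

`DerCA.locFunctor S` preserves homology, and `H^q(K) ⟶ H^q(K_S)` is a localisation map.
-/

set_option autoImplicit false
universe u
open CategoryTheory CategoryTheory.Limits CochainComplex HomologicalComplex

namespace Groth.Agent.Lib.Helper58.Cech

variable {R : Type u} [CommRing R] (S : Submonoid R)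

theorem locFunctor_map_exact (T : ShortComplex (ModuleCat.{u} R)) (h : T.Exact) :
    (T.map (DerCA.locFunctor S)).Exact := by
  rw [ShortComplex.ShortExact.moduleCat_exact_iff_function_exact] at h ⊢
  exact IsLocalizedModule.map_exact S (LocalizedModule.mkLinearMap S T.X₁)
    (LocalizedModule.mkLinearMap S T.X₂) (LocalizedModule.mkLinearMap S T.X₃) _ _ h

instance locFunctor_preservesHomology : (DerCA.locFunctor S).PreservesHomology :=
  ((Functor.exact_tfae (DerCA.locFunctor S)).out 1 2).mp (locFunctor_map_exact S)

instance locFunctor_preservesFiniteLimits : PreservesFiniteLimits (DerCA.locFunctor S) := by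
  have := ((Functor.exact_tfae (DerCA.locFunctor S)).out 1 3).mp (locFunctor_map_exact S)
  exact this.1

instance locFunctor_preservesFiniteColimits : PreservesFiniteColimits (DerCA.locFunctor S) := by
  have := ((Functor.exact_tfae (DerCA.locFunctor S)).out 1 3).mp (locFunctor_map_exact S)
  exact this.2

theorem isLocalizedModule_homologyMap_sc (T : ShortComplex (ModuleCat.{u} R)) :
    IsLocalizedModule S (ShortComplex.homologyMap (T.mapNatTrans (DerCA.locUnit S))).hom := by
  rw [ShortComplex.homologyMap_mapNatTrans]
  have h1 : IsLocalizedModule S ((DerCA.locUnit S).app T.homology).hom :=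
    inferInstanceAs (IsLocalizedModule S (LocalizedModule.mkLinearMap S T.homology))
  have h2 : IsLocalizedModule S
      (((DerCA.locUnit S).app T.homology).hom ∘ₗ
        (T.mapHomologyIso (𝟭 (ModuleCat.{u} R))).toLinearEquiv.toLinearMap) :=
    IsLocalizedModule.of_linearEquiv_right S _ _
  have h3 : IsLocalizedModule S
      ((T.mapHomologyIso (DerCA.locFunctor S)).symm.toLinearEquiv.toLinearMap ∘ₗ
        (((DerCA.locUnit S).app T.homology).hom ∘ₗ
        (T.mapHomologyIso (𝟭 (ModuleCat.{u} R))).toLinearEquiv.toLinearMap)) :=
    IsLocalizedModule.of_linearEquiv S _ _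
  exact h3

theorem isLocalizedModule_homologyMap (K : DRing.Cx R) (q : ℤ) :
    IsLocalizedModule S (homologyMap (DerCA.locCxUnit S K) q).hom :=
  isLocalizedModule_homologyMap_sc S (K.sc q)

end Groth.Agent.Lib.Helper58.Cech
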