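import Groth.Agent.Lib.Helper58.Cech2

/-!
# Cohomology of the cocone of a localisation map `K ⟶ K_g`
-/

set_option autoImplicit false
universe u
open CategoryTheory CategoryTheory.Limits CochainComplex HomologicalComplex

namespace Groth.Agent.Lib.Helper58.Cech

variable {R : Type u} [CommRing R]

section General

variable {K L : CochainComplex (ModuleCat.{u} R) ℤ} (φ : K ⟶ L)

theorem fst_injective_of_subsingleton (q' q : ℤ) (h : q' + 1 = q)
    (h0 : Subsingleton (L.homology q')) :
    Function.Injective (homologyMap (mappingCocone.fst φ) q).hom := by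
  rw [injective_iff_map_eq_zero]
  intro x hx
  obtain ⟨z, rfl⟩ := (exact₁ φ q' q h x).1 hx
  rw [Subsingleton.elim z 0, map_zero]

theorem range_fst (q : ℤ) :
    LinearMap.range (homologyMap (mappingCocone.fst φ) q).hom =
      LinearMap.ker (homologyMap φ q).hom :=
  ((LinearMap.exact_iff).1 (exact₂ φ q)).symm

theorem subsingleton_cocone_of_surjective (q' q : ℤ) (h : q' + 1 = q)
    (h1 : Subsingleton (K.homology q))
    (hs : Function.Surjective (homologyMap φ q').hom) :
    Subsingleton ((mappingCocone φ).homology q) := by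
  refine ⟨fun x y => ?_⟩
  suffices ∀ x : (mappingCocone φ).homology q, x = 0 by rw [this x, this y]
  intro x
  have hx : (homologyMap (mappingCocone.fst φ) q).hom x = 0 := Subsingleton.elim _ _
  obtain ⟨z, rfl⟩ := (exact₁ φ q' q h x).1 hx
  obtain ⟨w, rfl⟩ := hs z
  exact (exact₃ φ q' q h).apply_apply_eq_zero w

theorem subsingleton_cocone_of_subsingleton (q' q : ℤ) (h : q' + 1 = q)
    (h1 : Subsingleton (K.homology q)) (h0 : Subsingleton (L.homology q')) :
    Subsingleton ((mappingCocone φ).homology q) :=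
  subsingleton_cocone_of_surjective φ q' q h h1 (fun z => ⟨0, Subsingleton.elim _ _⟩)

end General

section Loc

variable (g : R) (K : DRing.Cx R)

local notation "φ" => DerCA.locCxUnit (Submonoid.powers g) K

theorem loc_smul_injective (q : ℤ) (n : ℕ)
    (y : ((DerCA.locCx (Submonoid.powers g)).obj K).homology q) (hy : g ^ n • y = 0) : y = 0 := by
  have := isLocalizedModule_homologyMap (Submonoid.powers g) K q
  have hu := IsLocalizedModule.map_units (S := Submonoid.powers g)
    (homologyMap (DerCA.locCxUnit (Submonoid.powers g) K) q).hom ⟨g ^ n, n, rfl⟩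
  have hinj := ((Module.End.isUnit_iff _).1 hu).injective
  apply hinj
  rw [map_zero]
  exact hy

theorem loc_exists_pow_smul_eq (q : ℤ)
    (y : ((DerCA.locCx (Submonoid.powers g)).obj K).homology q) :
    ∃ (n : ℕ) (w : K.homology q),
      g ^ n • y = (homologyMap (DerCA.locCxUnit (Submonoid.powers g) K) q).hom w := by
  have := isLocalizedModule_homologyMap (Submonoid.powers g) K q
  obtain ⟨⟨w, s⟩, hs⟩ := IsLocalizedModule.surj (Submonoid.powers g)
    (homologyMap (DerCA.locCxUnit (Submonoid.powers g) K) q).hom y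
  obtain ⟨n, hn⟩ := s.2
  have hn' : g ^ n = (s : R) := hn
  refine ⟨n, w, ?_⟩
  rw [← hs, hn']
  rfl

theorem loc_eq_zero_iff (q : ℤ) (w : K.homology q) :
    (homologyMap (DerCA.locCxUnit (Submonoid.powers g) K) q).hom w = 0 ↔
      ∃ n : ℕ, g ^ n • w = 0 := by
  have := isLocalizedModule_homologyMap (Submonoid.powers g) K q
  rw [IsLocalizedModule.eq_zero_iff (Submonoid.powers g)]
  constructor
  · rintro ⟨s, hs⟩
    obtain ⟨n, hn⟩ := s.2
    have hn' : g ^ n = (s : R) := hn
    refine ⟨n, ?_⟩
    rw [hn']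
    exact hs
  · rintro ⟨n, hn⟩
    exact ⟨⟨g ^ n, n, rfl⟩, hn⟩

theorem loc_subsingleton (q : ℤ) (h : Subsingleton (K.homology q)) :
    Subsingleton (((DerCA.locCx (Submonoid.powers g)).obj K).homology q) := by
  refine ⟨fun x y => ?_⟩
  suffices ∀ x : ((DerCA.locCx (Submonoid.powers g)).obj K).homology q, x = 0 by
    rw [this x, this y]
  intro x
  obtain ⟨n, w, hw⟩ := loc_exists_pow_smul_eq g K q x
  apply loc_smul_injective g K q n
  rw [hw, Subsingleton.elim w 0, map_zero]

/-- Every cohomology class of the cocone of `K ⟶ K_g` is killed by a power of `g`. -/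
theorem exists_pow_smul_eq_zero_head (q : ℤ)
    (x : (mappingCocone (DerCA.locCxUnit (Submonoid.powers g) K)).homology q) :
    ∃ n : ℕ, g ^ n • x = 0 := by
  have h1 : (homologyMap φ q).hom ((homologyMap (mappingCocone.fst φ) q).hom x) = 0 :=
    (exact₂ φ q).apply_apply_eq_zero x
  obtain ⟨n, hn⟩ := (loc_eq_zero_iff g K q _).1 h1
  have h2 : (homologyMap (mappingCocone.fst φ) q).hom (g ^ n • x) = 0 := by
    rw [map_smul, hn]
  obtain ⟨z, hz⟩ := (exact₁ φ (q - 1) q (by omega) _).1 h2
  obtain ⟨k, w, hw⟩ := loc_exists_pow_smul_eq g K (q - 1) z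
  refine ⟨k + n, ?_⟩
  rw [pow_add, mul_smul, ← hz, ← map_smul, hw]
  exact (exact₃ φ (q - 1) q (by omega)).apply_apply_eq_zero w

/-- If the classes of `K` in degrees `q`, `q - 1` are killed by powers of `r`, so are those of the
cocone of `K ⟶ K_g` in degree `q`. -/
theorem exists_pow_smul_eq_zero_tail (r : R) (q : ℤ)
    (h1 : ∀ y : K.homology q, ∃ n : ℕ, r ^ n • y = 0)
    (h0 : ∀ y : K.homology (q - 1), ∃ n : ℕ, r ^ n • y = 0)
    (x : (mappingCocone (DerCA.locCxUnit (Submonoid.powers g) K)).homology q) :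
    ∃ n : ℕ, r ^ n • x = 0 := by
  obtain ⟨n, hn⟩ := h1 ((homologyMap (mappingCocone.fst φ) q).hom x)
  have h2 : (homologyMap (mappingCocone.fst φ) q).hom (r ^ n • x) = 0 := by
    rw [map_smul, hn]
  obtain ⟨z, hz⟩ := (exact₁ φ (q - 1) q (by omega) _).1 h2
  obtain ⟨k, w, hw⟩ := loc_exists_pow_smul_eq g K (q - 1) z
  obtain ⟨m, hm⟩ := h0 w
  have hz0 : r ^ m • z = 0 := by
    apply loc_smul_injective g K (q - 1) k
    rw [smul_comm, hw, ← map_smul, hm, map_zero]
  refine ⟨m + n, ?_⟩
  rw [pow_add, mul_smul, ← hz, ← map_smul, hz0, map_zero]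

/-- The image of `H^q(cocone) → H^q(K)` is the `g`-power torsion. -/
theorem mem_range_fst_iff (q : ℤ) (y : K.homology q) :
    y ∈ LinearMap.range
      (homologyMap (mappingCocone.fst (DerCA.locCxUnit (Submonoid.powers g) K)) q).hom ↔
      ∃ n : ℕ, g ^ n • y = 0 := by
  rw [range_fst, LinearMap.mem_ker, loc_eq_zero_iff]

end Loc

end Groth.Agent.Lib.Helper58.Cech
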