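import Mathlib.Algebra.Homology.HomotopyCategory.MappingCocone
import Mathlib.Algebra.Homology.HomotopyCategory.Pretriangulated
import Mathlib.Algebra.Homology.Linear

/-!
# Functoriality of the mapping cocone
-/

set_option autoImplicit false
open CategoryTheory CategoryTheory.Limits CochainComplex HomologicalComplex CochainComplex.HomComplex

namespace Groth.Agent.Lib.Helper58.Cech

section

variable {C : Type*} [Category C] [Preadditive C] [HasBinaryBiproducts C]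
variable {K₁ L₁ K₂ L₂ K₃ L₃ : CochainComplex C ℤ}
  (φ₁ : K₁ ⟶ L₁) (φ₂ : K₂ ⟶ L₂) (φ₃ : K₃ ⟶ L₃)
  (a : K₁ ⟶ K₂) (b : L₁ ⟶ L₂) (comm : φ₁ ≫ b = a ≫ φ₂)

lemma coneMap_f_fst_v (p q : ℤ) (hpq : p + 1 = q) :
    (mappingCone.map φ₁ φ₂ a b comm).f p ≫ (mappingCone.fst φ₂).1.v p q hpq =
      (mappingCone.fst φ₁).1.v p q hpq ≫ a.f q := by
  rw [mappingCone.ext_from_iff _ q p hpq]
  simp [mappingCone.map]

lemma coneMap_f_snd_v (p : ℤ) :
    (mappingCone.map φ₁ φ₂ a b comm).f p ≫ (mappingCone.snd φ₂).v p p (add_zero p) =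
      (mappingCone.snd φ₁).v p p (add_zero p) ≫ b.f p := by
  rw [mappingCone.ext_from_iff _ (p + 1) p rfl]
  simp [mappingCone.map]

lemma inl_v_coneMap_f (p q : ℤ) (hpq : p + (-1) = q) :
    (mappingCone.inl φ₁).v p q hpq ≫ (mappingCone.map φ₁ φ₂ a b comm).f q =
      a.f p ≫ (mappingCone.inl φ₂).v p q hpq := by
  simp [mappingCone.map]

lemma inr_f_coneMap_f (p : ℤ) :
    (mappingCone.inr φ₁).f p ≫ (mappingCone.map φ₁ φ₂ a b comm).f p =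
      b.f p ≫ (mappingCone.inr φ₂).f p := by
  simp [mappingCone.map]

/-- The morphism of mapping cocones induced by a commutative square. -/
noncomputable def coconeMap : mappingCocone φ₁ ⟶ mappingCocone φ₂ :=
  (CategoryTheory.shiftFunctor (CochainComplex C ℤ) (-1 : ℤ)).map (mappingCone.map φ₁ φ₂ a b comm)

lemma coconeMap_f (p : ℤ) :
    (coconeMap φ₁ φ₂ a b comm).f p = (mappingCone.map φ₁ φ₂ a b comm).f (p + -1) := rfl

lemma coconeMap_id (φ : K₁ ⟶ L₁) :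
    coconeMap φ φ (𝟙 _) (𝟙 _) (by rw [Category.id_comp, Category.comp_id]) = 𝟙 _ := by
  unfold coconeMap
  rw [mappingCone.map_id]
  exact (CategoryTheory.shiftFunctor (CochainComplex C ℤ) (-1 : ℤ)).map_id _

lemma coconeMap_comp (a' : K₂ ⟶ K₃) (b' : L₂ ⟶ L₃) (comm' : φ₂ ≫ b' = a' ≫ φ₃) :
    coconeMap φ₁ φ₃ (a ≫ a') (b ≫ b') (by rw [reassoc_of% comm, comm', Category.assoc]) =
      coconeMap φ₁ φ₂ a b comm ≫ coconeMap φ₂ φ₃ a' b' comm' := by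
  unfold coconeMap
  rw [mappingCone.map_comp φ₁ φ₂ φ₃ a b comm a' b' comm']
  exact (CategoryTheory.shiftFunctor (CochainComplex C ℤ) (-1 : ℤ)).map_comp _ _

lemma coconeMap_id' (φ : K₁ ⟶ L₁) (a₀ : K₁ ⟶ K₁) (b₀ : L₁ ⟶ L₁) (comm₀ : φ ≫ b₀ = a₀ ≫ φ)
    (ha : a₀ = 𝟙 _) (hb : b₀ = 𝟙 _) : coconeMap φ φ a₀ b₀ comm₀ = 𝟙 _ := by
  subst ha hb
  exact coconeMap_id φ

lemma coconeMap_comp' (a' : K₂ ⟶ K₃) (b' : L₂ ⟶ L₃) (comm' : φ₂ ≫ b' = a' ≫ φ₃)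
    (a₀ : K₁ ⟶ K₃) (b₀ : L₁ ⟶ L₃) (comm₀ : φ₁ ≫ b₀ = a₀ ≫ φ₃)
    (ha : a₀ = a ≫ a') (hb : b₀ = b ≫ b') :
    coconeMap φ₁ φ₃ a₀ b₀ comm₀ =
      coconeMap φ₁ φ₂ a b comm ≫ coconeMap φ₂ φ₃ a' b' comm' := by
  subst ha hb
  exact coconeMap_comp φ₁ φ₂ φ₃ a b comm a' b' comm'

set_option backward.defeqAttrib.useBackward true in
set_option backward.isDefEq.respectTransparency false in
lemma mappingCocone_fst_f (φ : K₁ ⟶ L₁) (p q : ℤ) (hpq : q + 1 = p) :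
    (mappingCocone.fst φ).f p =
      (HomologicalComplex.XIsoOfEq (mappingCone φ) (show p + -1 = q by omega)).hom ≫
        (mappingCone.fst φ).1.v q p hpq := by
  obtain rfl : q = p + -1 := by omega
  simp [mappingCocone.fst, Cochain.leftShift_v (n := 1) _ _ _ _ p p _ (p + -1) (by omega)]

lemma coconeMap_fst :
    coconeMap φ₁ φ₂ a b comm ≫ mappingCocone.fst φ₂ = mappingCocone.fst φ₁ ≫ a := by
  ext p
  rw [HomologicalComplex.comp_f, HomologicalComplex.comp_f, coconeMap_f,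
    mappingCocone_fst_f φ₂ p (p + -1) (by omega), mappingCocone_fst_f φ₁ p (p + -1) (by omega)]
  simp only [HomologicalComplex.XIsoOfEq_rfl, Iso.refl_hom, Category.id_comp]
  exact coneMap_f_fst_v φ₁ φ₂ a b comm (p + -1) p (by omega)

lemma coconeMap_fst_comp {Z₁ Z₂ : CochainComplex C ℤ} (t₁ : K₁ ⟶ Z₁) (t₂ : K₂ ⟶ Z₂) (s : Z₁ ⟶ Z₂)
    (h : a ≫ t₂ = t₁ ≫ s) :
    coconeMap φ₁ φ₂ a b comm ≫ (mappingCocone.fst φ₂ ≫ t₂) =
      (mappingCocone.fst φ₁ ≫ t₁) ≫ s := by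
  rw [← Category.assoc, coconeMap_fst, Category.assoc, h, Category.assoc]

end

section Linear

variable {R : Type*} [Ring R] {C : Type*} [Category C] [Preadditive C] [Linear R C]
  [HasBinaryBiproducts C]
variable {K₁ L₁ K₂ L₂ : CochainComplex C ℤ}
  (φ₁ : K₁ ⟶ L₁) (φ₂ : K₂ ⟶ L₂)
  (a : K₁ ⟶ K₂) (b : L₁ ⟶ L₂) (comm : φ₁ ≫ b = a ≫ φ₂)

lemma coneMap_smul (r : R) :
    mappingCone.map φ₁ φ₂ (r • a) (r • b)
      (by rw [Linear.comp_smul, Linear.smul_comp, comm]) =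
      r • mappingCone.map φ₁ φ₂ a b comm := by
  ext n
  rw [mappingCone.ext_from_iff _ (n + 1) n rfl]
  simp [mappingCone.map]

lemma coconeMap_smul (r : R) :
    coconeMap φ₁ φ₂ (r • a) (r • b)
      (by rw [Linear.comp_smul, Linear.smul_comp, comm]) =
      r • coconeMap φ₁ φ₂ a b comm := by
  unfold coconeMap
  rw [coneMap_smul]
  exact Functor.map_smul _ _ _

lemma coconeMap_smul' (r : R) (a₀ : K₁ ⟶ K₂) (b₀ : L₁ ⟶ L₂) (comm₀ : φ₁ ≫ b₀ = a₀ ≫ φ₂)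
    (ha : a₀ = r • a) (hb : b₀ = r • b) :
    coconeMap φ₁ φ₂ a₀ b₀ comm₀ = r • coconeMap φ₁ φ₂ a b comm := by
  subst ha hb
  exact coconeMap_smul φ₁ φ₂ a b comm r

end Linear

end Groth.Agent.Lib.Helper58.Cech
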