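import Groth.Agent.Lib.Helper58.Cech4
import Groth.Agent.Lib.Helper58.Cech2

/-!
# Functoriality and exactness of the extended Čech complex in the module
-/

set_option autoImplicit false
universe u
open CategoryTheory CategoryTheory.Limits CochainComplex HomologicalComplex

namespace Groth.Agent.Lib.Helper58.Cech

variable {R : Type u} [CommRing R]

section ConeExact

variable {K₁ L₁ K₂ L₂ K₃ L₃ : CochainComplex (ModuleCat.{u} R) ℤ}
  (φ₁ : K₁ ⟶ L₁) (φ₂ : K₂ ⟶ L₂) (φ₃ : K₃ ⟶ L₃)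
  (a : K₁ ⟶ K₂) (b : L₁ ⟶ L₂) (comm : φ₁ ≫ b = a ≫ φ₂)
  (a' : K₂ ⟶ K₃) (b' : L₂ ⟶ L₃) (comm' : φ₂ ≫ b' = a' ≫ φ₃)

lemma fst_coneMap_apply (p q : ℤ) (hpq : p + 1 = q) (x : (mappingCone φ₁).X p) :
    ((mappingCone.fst φ₂).1.v p q hpq).hom (((mappingCone.map φ₁ φ₂ a b comm).f p).hom x) =
      (a.f q).hom (((mappingCone.fst φ₁).1.v p q hpq).hom x) :=
  congrArg (fun f => f.hom x) (coneMap_f_fst_v φ₁ φ₂ a b comm p q hpq)

lemma snd_coneMap_apply (p : ℤ) (x : (mappingCone φ₁).X p) :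
    ((mappingCone.snd φ₂).v p p (add_zero p)).hom (((mappingCone.map φ₁ φ₂ a b comm).f p).hom x) =
      (b.f p).hom (((mappingCone.snd φ₁).v p p (add_zero p)).hom x) :=
  congrArg (fun f => f.hom x) (coneMap_f_snd_v φ₁ φ₂ a b comm p)

lemma coneMap_inl_apply (p q : ℤ) (hpq : p + (-1) = q) (x : K₁.X p) :
    ((mappingCone.map φ₁ φ₂ a b comm).f q).hom (((mappingCone.inl φ₁).v p q hpq).hom x) =
      ((mappingCone.inl φ₂).v p q hpq).hom ((a.f p).hom x) :=
  congrArg (fun f => f.hom x) (inl_v_coneMap_f φ₁ φ₂ a b comm p q hpq)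

lemma coneMap_inr_apply (p : ℤ) (x : L₁.X p) :
    ((mappingCone.map φ₁ φ₂ a b comm).f p).hom (((mappingCone.inr φ₁).f p).hom x) =
      ((mappingCone.inr φ₂).f p).hom ((b.f p).hom x) :=
  congrArg (fun f => f.hom x) (inr_f_coneMap_f φ₁ φ₂ a b comm p)

lemma cone_decomp (p q : ℤ) (hpq : p + 1 = q) (x : (mappingCone φ₁).X p) :
    x = ((mappingCone.inl φ₁).v q p (by omega)).hom (((mappingCone.fst φ₁).1.v p q hpq).hom x) +
      ((mappingCone.inr φ₁).f p).hom (((mappingCone.snd φ₁).v p p (add_zero p)).hom x) :=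
  (congrArg (fun f => f.hom x) (mappingCone.id_X φ₁ p q hpq)).symm

theorem coneMap_f_injective (p q : ℤ) (hpq : p + 1 = q)
    (ha : Function.Injective (a.f q).hom) (hb : Function.Injective (b.f p).hom) :
    Function.Injective ((mappingCone.map φ₁ φ₂ a b comm).f p).hom := by
  rw [injective_iff_map_eq_zero]
  intro x hx
  have h1 : ((mappingCone.fst φ₁).1.v p q hpq).hom x = 0 := by
    apply ha
    rw [← fst_coneMap_apply φ₁ φ₂ a b comm, hx, map_zero, map_zero]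
  have h2 : ((mappingCone.snd φ₁).v p p (add_zero p)).hom x = 0 := by
    apply hb
    rw [← snd_coneMap_apply φ₁ φ₂ a b comm, hx, map_zero, map_zero]
  rw [cone_decomp φ₁ p q hpq x, h1, h2, map_zero, map_zero, add_zero]

theorem coneMap_f_surjective (p q : ℤ) (hpq : p + 1 = q)
    (ha : Function.Surjective (a.f q).hom) (hb : Function.Surjective (b.f p).hom) :
    Function.Surjective ((mappingCone.map φ₁ φ₂ a b comm).f p).hom := by
  intro z
  obtain ⟨y₁, hy₁⟩ := ha (((mappingCone.fst φ₂).1.v p q hpq).hom z)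
  obtain ⟨y₂, hy₂⟩ := hb (((mappingCone.snd φ₂).v p p (add_zero p)).hom z)
  refine ⟨((mappingCone.inl φ₁).v q p (by omega)).hom y₁ + ((mappingCone.inr φ₁).f p).hom y₂, ?_⟩
  rw [map_add, coneMap_inl_apply, coneMap_inr_apply, hy₁, hy₂]
  exact (cone_decomp φ₂ p q hpq z).symm

theorem coneMap_f_exact (p q : ℤ) (hpq : p + 1 = q)
    (ha : Function.Exact (a.f q).hom (a'.f q).hom) (hb : Function.Exact (b.f p).hom (b'.f p).hom) :
    Function.Exact ((mappingCone.map φ₁ φ₂ a b comm).f p).hom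
      ((mappingCone.map φ₂ φ₃ a' b' comm').f p).hom := by
  intro y
  constructor
  · intro hy
    have h1 : (a'.f q).hom (((mappingCone.fst φ₂).1.v p q hpq).hom y) = 0 := by
      rw [← fst_coneMap_apply φ₂ φ₃ a' b' comm', hy, map_zero]
    have h2 : (b'.f p).hom (((mappingCone.snd φ₂).v p p (add_zero p)).hom y) = 0 := by
      rw [← snd_coneMap_apply φ₂ φ₃ a' b' comm', hy, map_zero]
    obtain ⟨x₁, hx₁⟩ := (ha _).1 h1
    obtain ⟨x₂, hx₂⟩ := (hb _).1 h2
    refine ⟨((mappingCone.inl φ₁).v q p (by omega)).hom x₁ + ((mappingCone.inr φ₁).f p).hom x₂, ?_⟩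
    rw [map_add, coneMap_inl_apply, coneMap_inr_apply, hx₁, hx₂]
    exact (cone_decomp φ₂ p q hpq y).symm
  · rintro ⟨x, rfl⟩
    rw [cone_decomp φ₃ p q hpq (((mappingCone.map φ₂ φ₃ a' b' comm').f p).hom _),
      fst_coneMap_apply, fst_coneMap_apply, snd_coneMap_apply, snd_coneMap_apply,
      ha.apply_apply_eq_zero, hb.apply_apply_eq_zero, map_zero, map_zero, add_zero]

end ConeExact

/-- Degreewise short exactness of a pair of composable morphisms of complexes of modules. -/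
def DegreewiseSES {K₁ K₂ K₃ : CochainComplex (ModuleCat.{u} R) ℤ} (a : K₁ ⟶ K₂) (a' : K₂ ⟶ K₃) :
    Prop :=
  ∀ p : ℤ, Function.Injective (a.f p).hom ∧ Function.Exact (a.f p).hom (a'.f p).hom ∧
    Function.Surjective (a'.f p).hom

theorem DegreewiseSES.coconeMap {K₁ L₁ K₂ L₂ K₃ L₃ : CochainComplex (ModuleCat.{u} R) ℤ}
    {φ₁ : K₁ ⟶ L₁} {φ₂ : K₂ ⟶ L₂} {φ₃ : K₃ ⟶ L₃}
    {a : K₁ ⟶ K₂} {b : L₁ ⟶ L₂} (comm : φ₁ ≫ b = a ≫ φ₂)
    {a' : K₂ ⟶ K₃} {b' : L₂ ⟶ L₃} (comm' : φ₂ ≫ b' = a' ≫ φ₃)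
    (ha : DegreewiseSES a a') (hb : DegreewiseSES b b') :
    DegreewiseSES (coconeMap φ₁ φ₂ a b comm) (coconeMap φ₂ φ₃ a' b' comm') := by
  intro p
  refine ⟨?_, ?_, ?_⟩
  · exact coneMap_f_injective φ₁ φ₂ a b comm (p + -1) p (by omega) (ha p).1 (hb (p + -1)).1
  · exact coneMap_f_exact φ₁ φ₂ φ₃ a b comm a' b' comm' (p + -1) p (by omega) (ha p).2.1
      (hb (p + -1)).2.1
  · exact coneMap_f_surjective φ₂ φ₃ a' b' comm' (p + -1) p (by omega) (ha p).2.2 (hb (p + -1)).2.2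

section Loc

variable (S : Submonoid R)

theorem locCxUnit_naturality {K K' : DRing.Cx R} (a : K ⟶ K') :
    DerCA.locCxUnit S K ≫ (DerCA.locCx S).map a = a ≫ DerCA.locCxUnit S K' := by
  ext p : 1
  exact ((DerCA.locUnit S).naturality (a.f p)).symm

theorem DegreewiseSES.locCx {K₁ K₂ K₃ : DRing.Cx R} {a : K₁ ⟶ K₂} {a' : K₂ ⟶ K₃}
    (ha : DegreewiseSES a a') :
    DegreewiseSES ((DerCA.locCx S).map a) ((DerCA.locCx S).map a') := by
  intro p
  refine ⟨?_, ?_, ?_⟩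
  · exact IsLocalizedModule.map_injective S (LocalizedModule.mkLinearMap S (K₁.X p))
      (LocalizedModule.mkLinearMap S (K₂.X p)) (a.f p).hom (ha p).1
  · exact IsLocalizedModule.map_exact S (LocalizedModule.mkLinearMap S (K₁.X p))
      (LocalizedModule.mkLinearMap S (K₂.X p)) (LocalizedModule.mkLinearMap S (K₃.X p))
      (a.f p).hom (a'.f p).hom (ha p).2.1
  · exact IsLocalizedModule.map_surjective S (LocalizedModule.mkLinearMap S (K₂.X p))
      (LocalizedModule.mkLinearMap S (K₃.X p)) (a'.f p).hom (ha p).2.2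

theorem locFunctor_map_smul {M N : ModuleCat.{u} R} (r : R) (g : M ⟶ N) :
    (DerCA.locFunctor S).map (r • g) = r • (DerCA.locFunctor S).map g := by
  ext x
  change (IsLocalizedModule.map S (LocalizedModule.mkLinearMap S M) (LocalizedModule.mkLinearMap S N))
      (r • g.hom) x = _
  rw [map_smul]
  rfl

instance locFunctor_linear : (DerCA.locFunctor S).Linear R where
  map_smul g r := locFunctor_map_smul S r g

end Loc

end Groth.Agent.Lib.Helper58.Cech
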