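import Groth.Agent.Lib.Helper58.Cech5
import Mathlib.Algebra.Homology.HomologicalComplexAbelian
import Mathlib.Algebra.Homology.HomologySequence

/-!
# The extended Čech complex as an exact functor of the module
-/

set_option autoImplicit false
universe u
open CategoryTheory CategoryTheory.Limits CochainComplex HomologicalComplex

namespace Groth.Agent.Lib.Helper58.Cech

variable {R : Type u} [CommRing R]

/-- Functoriality of the extended Čech complex in the module. -/
noncomputable def extCechMap {M N : ModuleCat.{u} R} (g : M ⟶ N) :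
    ∀ fs : List R, DerCA.extCech M fs ⟶ DerCA.extCech N fs
  | [] => (HomologicalComplex.single (ModuleCat.{u} R) (ComplexShape.up ℤ) 0).map g
  | f :: fs => coconeMap (DerCA.locCxUnit (Submonoid.powers f) (DerCA.extCech M fs))
      (DerCA.locCxUnit (Submonoid.powers f) (DerCA.extCech N fs)) (extCechMap g fs)
      ((DerCA.locCx (Submonoid.powers f)).map (extCechMap g fs))
      (locCxUnit_naturality (Submonoid.powers f) (extCechMap g fs))

theorem extCechMap_nil {M N : ModuleCat.{u} R} (g : M ⟶ N) :
    extCechMap g [] = (HomologicalComplex.single (ModuleCat.{u} R) (ComplexShape.up ℤ) 0).map g :=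
  rfl

theorem extCechMap_cons {M N : ModuleCat.{u} R} (g : M ⟶ N) (f : R) (fs : List R) :
    extCechMap g (f :: fs) = coconeMap (DerCA.locCxUnit (Submonoid.powers f) (DerCA.extCech M fs))
      (DerCA.locCxUnit (Submonoid.powers f) (DerCA.extCech N fs)) (extCechMap g fs)
      ((DerCA.locCx (Submonoid.powers f)).map (extCechMap g fs))
      (locCxUnit_naturality (Submonoid.powers f) (extCechMap g fs)) :=
  rfl

theorem extCechMap_id (M : ModuleCat.{u} R) : ∀ fs : List R, extCechMap (𝟙 M) fs = 𝟙 _
  | [] => (HomologicalComplex.single (ModuleCat.{u} R) (ComplexShape.up ℤ) 0).map_id M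
  | f :: fs => by
    rw [extCechMap_cons]
    have h := extCechMap_id M fs
    have h2 : (DerCA.locCx (Submonoid.powers f)).map (extCechMap (𝟙 M) fs) = 𝟙 _ := by
      rw [h]; exact (DerCA.locCx (Submonoid.powers f)).map_id _
    exact coconeMap_id' _ _ _ _ h h2

theorem extCechMap_comp {M N P : ModuleCat.{u} R} (g : M ⟶ N) (g' : N ⟶ P) :
    ∀ fs : List R, extCechMap (g ≫ g') fs = extCechMap g fs ≫ extCechMap g' fs
  | [] => (HomologicalComplex.single (ModuleCat.{u} R) (ComplexShape.up ℤ) 0).map_comp g g'
  | f :: fs => by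
    rw [extCechMap_cons, extCechMap_cons, extCechMap_cons]
    have h := extCechMap_comp g g' fs
    have h2 : (DerCA.locCx (Submonoid.powers f)).map (extCechMap (g ≫ g') fs) =
        (DerCA.locCx (Submonoid.powers f)).map (extCechMap g fs) ≫
          (DerCA.locCx (Submonoid.powers f)).map (extCechMap g' fs) := by
      rw [h]; exact (DerCA.locCx (Submonoid.powers f)).map_comp _ _
    exact coconeMap_comp' _ _ _ _ _ _ _ _ _ _ _ _ h h2

theorem extCechMap_smul {M N : ModuleCat.{u} R} (r : R) (g : M ⟶ N) :
    ∀ fs : List R, extCechMap (r • g) fs = r • extCechMap g fs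
  | [] => by
    ext p : 1
    by_cases hp : p = 0
    · subst hp
      rw [extCechMap_nil, extCechMap_nil, HomologicalComplex.smul_f_apply,
        HomologicalComplex.single_map_f_self, HomologicalComplex.single_map_f_self,
        Linear.smul_comp, Linear.comp_smul]
      rfl
    · exact (HomologicalComplex.isZero_single_obj_X (ComplexShape.up ℤ) 0 N p hp).eq_of_tgt _ _
  | f :: fs => by
    rw [extCechMap_cons, extCechMap_cons]
    have h := extCechMap_smul r g fs
    have h2 : (DerCA.locCx (Submonoid.powers f)).map (extCechMap (r • g) fs) =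
        r • (DerCA.locCx (Submonoid.powers f)).map (extCechMap g fs) := by
      rw [h]; exact Functor.map_smul _ _ _
    exact coconeMap_smul' _ _ _ _ _ r _ _ _ h h2

theorem extCechMap_zero {M N : ModuleCat.{u} R} (fs : List R) :
    extCechMap (0 : M ⟶ N) fs = 0 := by
  have := extCechMap_smul (0 : R) (0 : M ⟶ N) fs
  rwa [zero_smul, zero_smul] at this

theorem extCechMap_fst {M N : ModuleCat.{u} R} (g : M ⟶ N) (f : R) (fs : List R) :
    extCechMap g (f :: fs) ≫
        mappingCocone.fst (DerCA.locCxUnit (Submonoid.powers f) (DerCA.extCech N fs)) =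
      mappingCocone.fst (DerCA.locCxUnit (Submonoid.powers f) (DerCA.extCech M fs)) ≫
        extCechMap g fs :=
  coconeMap_fst _ _ _ _ _

theorem ses_of_conj {A₁ A₂ A₃ B₁ B₂ B₃ : ModuleCat.{u} R} (e₁ : B₁ ≅ A₁) (e₂ : B₂ ≅ A₂)
    (e₃ : B₃ ≅ A₃) (g : A₁ ⟶ A₂) (g' : A₂ ⟶ A₃)
    (h1 : Function.Injective g.hom) (h2 : Function.Exact g.hom g'.hom)
    (h3 : Function.Surjective g'.hom) :
    Function.Injective (e₁.hom ≫ g ≫ e₂.inv).hom ∧
      Function.Exact (e₁.hom ≫ g ≫ e₂.inv).hom (e₂.hom ≫ g' ≫ e₃.inv).hom ∧
      Function.Surjective (e₂.hom ≫ g' ≫ e₃.inv).hom := by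
  have hg : Mono g := (ModuleCat.mono_iff_injective _).2 h1
  have hg' : Epi g' := (ModuleCat.epi_iff_surjective _).2 h3
  have w : g ≫ g' = 0 := ModuleCat.hom_ext (LinearMap.ext fun x => h2.apply_apply_eq_zero x)
  have hex : (ShortComplex.mk g g' w).Exact :=
    (ShortComplex.ShortExact.moduleCat_exact_iff_function_exact _).2 h2
  have w' : (e₁.hom ≫ g ≫ e₂.inv) ≫ (e₂.hom ≫ g' ≫ e₃.inv) = 0 := by
    simp [reassoc_of% w]
  have hex' : (ShortComplex.mk _ _ w').Exact :=
    ShortComplex.exact_of_iso (ShortComplex.isoMk e₁.symm e₂.symm e₃.symm (by simp) (by simp)) hex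
  exact ⟨(ModuleCat.mono_iff_injective _).1 inferInstance,
    (ShortComplex.ShortExact.moduleCat_exact_iff_function_exact _).1 hex',
    (ModuleCat.epi_iff_surjective _).1 inferInstance⟩

theorem degreewiseSES_single {M₁ M₂ M₃ : ModuleCat.{u} R} (g : M₁ ⟶ M₂) (g' : M₂ ⟶ M₃)
    (h1 : Function.Injective g.hom) (h2 : Function.Exact g.hom g'.hom)
    (h3 : Function.Surjective g'.hom) :
    DegreewiseSES ((HomologicalComplex.single (ModuleCat.{u} R) (ComplexShape.up ℤ) 0).map g)
      ((HomologicalComplex.single (ModuleCat.{u} R) (ComplexShape.up ℤ) 0).map g') := by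
  intro p
  by_cases hp : p = 0
  · subst hp
    rw [HomologicalComplex.single_map_f_self, HomologicalComplex.single_map_f_self]
    exact ses_of_conj _ _ _ g g' h1 h2 h3
  · have hz : ∀ (M : ModuleCat.{u} R),
        Subsingleton (((HomologicalComplex.single (ModuleCat.{u} R) (ComplexShape.up ℤ) 0).obj M).X p) :=
      fun M => ModuleCat.subsingleton_of_isZero
        (HomologicalComplex.isZero_single_obj_X (ComplexShape.up ℤ) 0 M p hp)
    have := hz M₁
    have := hz M₂
    have := hz M₃
    refine ⟨fun x y _ => Subsingleton.elim _ _, fun y => ?_, fun z => ⟨0, Subsingleton.elim _ _⟩⟩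
    exact ⟨fun _ => ⟨0, Subsingleton.elim _ _⟩, fun _ => Subsingleton.elim _ _⟩

theorem degreewiseSES_extCech (S : ShortComplex (ModuleCat.{u} R)) (hS : S.ShortExact) :
    ∀ fs : List R, DegreewiseSES (extCechMap S.f fs) (extCechMap S.g fs)
  | [] => degreewiseSES_single S.f S.g hS.moduleCat_injective_f
      ((ShortComplex.ShortExact.moduleCat_exact_iff_function_exact S).1 hS.exact)
      hS.moduleCat_surjective_g
  | f :: fs => by
    rw [extCechMap_cons, extCechMap_cons]
    exact DegreewiseSES.coconeMap _ _ (degreewiseSES_extCech S hS fs)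
      (DegreewiseSES.locCx _ (degreewiseSES_extCech S hS fs))

/-- The short complex of Čech complexes attached to a short complex of modules. -/
noncomputable def extCechSC (S : ShortComplex (ModuleCat.{u} R)) (fs : List R) :
    ShortComplex (CochainComplex (ModuleCat.{u} R) ℤ) :=
  ShortComplex.mk (extCechMap S.f fs) (extCechMap S.g fs) (by
    rw [← extCechMap_comp, S.zero, extCechMap_zero])

theorem extCechSC_shortExact (S : ShortComplex (ModuleCat.{u} R)) (hS : S.ShortExact)
    (fs : List R) : (extCechSC S fs).ShortExact := by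
  apply HomologicalComplex.shortExact_of_degreewise_shortExact
  intro p
  obtain ⟨h1, h2, h3⟩ := degreewiseSES_extCech S hS fs p
  have : Mono ((extCechSC S fs).map (HomologicalComplex.eval _ _ p)).f :=
    (ModuleCat.mono_iff_injective _).2 h1
  have : Epi ((extCechSC S fs).map (HomologicalComplex.eval _ _ p)).g :=
    (ModuleCat.epi_iff_surjective _).2 h3
  exact ⟨(ShortComplex.ShortExact.moduleCat_exact_iff_function_exact _).2 h2⟩

end Groth.Agent.Lib.Helper58.Cech
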