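import Groth.Agent.Lib.Helper58.Cech6
import Groth.Agent.Lib.Helper58.Cech3
import Mathlib.Algebra.Homology.ShortComplex.Linear
import Mathlib.Algebra.Module.Torsion.Basic

/-!
# Čech cohomology is torsion; vanishing when some element acts bijectively
-/

set_option autoImplicit false
universe u
open CategoryTheory CategoryTheory.Limits CochainComplex HomologicalComplex

namespace Groth.Agent.Lib.Helper58.Cech

variable {R : Type u} [CommRing R]

/-- Every Čech cohomology class is killed by a power of each element of the list. -/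
theorem exists_pow_smul_eq_zero (M : ModuleCat.{u} R) :
    ∀ (fs : List R) (q : ℤ) (x : DerCA.extCechH fs M q) (f : R), f ∈ fs → ∃ n : ℕ, f ^ n • x = 0
  | [], _, _, f, hf => absurd hf List.not_mem_nil
  | g :: gs, q, x, f, hf => by
    rcases List.mem_cons.1 hf with rfl | h
    · exact exists_pow_smul_eq_zero_head f (DerCA.extCech M gs) q x
    · exact exists_pow_smul_eq_zero_tail g (DerCA.extCech M gs) f q
        (fun y => exists_pow_smul_eq_zero M gs q y f h)
        (fun y => exists_pow_smul_eq_zero M gs (q - 1) y f h) x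

theorem exists_common_pow {N : Type*} [AddCommGroup N] [Module R N] (l : List R) (x : N)
    (h : ∀ f ∈ l, ∃ n : ℕ, f ^ n • x = 0) : ∃ n : ℕ, 1 ≤ n ∧ ∀ f ∈ l, f ^ n • x = 0 := by
  induction l with
  | nil => exact ⟨1, le_rfl, fun f hf => absurd hf List.not_mem_nil⟩
  | cons a l ih =>
    obtain ⟨n, hn, hl⟩ := ih (fun f hf => h f (List.mem_cons_of_mem _ hf))
    obtain ⟨m, hm⟩ := h a List.mem_cons_self
    refine ⟨n + m, by omega, ?_⟩
    intro f hf
    rcases List.mem_cons.1 hf with rfl | hf
    · rw [pow_add, mul_smul, hm, smul_zero]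
    · rw [add_comm, pow_add, mul_smul, hl f hf, smul_zero]

theorem exists_pow_smul_eq_zero_of_mem_span (M : ModuleCat.{u} R) (fs : List R) (q : ℤ)
    (x : DerCA.extCechH fs M q) (f : R) (hf : f ∈ Ideal.span {a : R | a ∈ fs}) :
    ∃ n : ℕ, f ^ n • x = 0 := by
  have hle : Ideal.span {a : R | a ∈ fs} ≤ (Ideal.torsionOf R _ x).radical := by
    rw [Ideal.span_le]
    intro a ha
    obtain ⟨n, hn⟩ := exists_pow_smul_eq_zero M fs q x a ha
    exact ⟨n, (Ideal.mem_torsionOf_iff _ _).2 hn⟩
  obtain ⟨n, hn⟩ := hle hf
  exact ⟨n, (Ideal.mem_torsionOf_iff _ _).1 hn⟩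

theorem homologyMap_smul' {K L : CochainComplex (ModuleCat.{u} R) ℤ} (r : R) (ψ : K ⟶ L) (q : ℤ) :
    homologyMap (r • ψ) q = r • homologyMap ψ q := by
  have : (HomologicalComplex.shortComplexFunctor _ _ q).map (r • ψ) =
      r • (HomologicalComplex.shortComplexFunctor _ _ q).map ψ := by
    ext <;> rfl
  change ShortComplex.homologyMap _ = _
  rw [this, ShortComplex.homologyMap_smul]
  rfl

theorem homologyMap_extCechMap_smul_id (M : ModuleCat.{u} R) (fs : List R) (q : ℤ) (r : R)
    (y : DerCA.extCechH fs M q) :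
    (homologyMap (extCechMap (r • 𝟙 M) fs) q).hom y = r • y := by
  rw [extCechMap_smul, homologyMap_smul', extCechMap_id, homologyMap_id]
  rfl

theorem smul_injective_of_bijective (M : ModuleCat.{u} R) (fs : List R) (q : ℤ) (f : R)
    (hbij : Function.Bijective (fun m : M => f • m)) :
    Function.Injective (fun y : DerCA.extCechH fs M q => f • y) := by
  have hiso : IsIso (f • 𝟙 M) := by
    rw [ConcreteCategory.isIso_iff_bijective]
    exact hbij
  let u := asIso (f • 𝟙 M)
  have h1 : extCechMap u.hom fs ≫ extCechMap u.inv fs = 𝟙 _ := by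
    rw [← extCechMap_comp, u.hom_inv_id, extCechMap_id]
  have h2 : homologyMap (extCechMap u.hom fs) q ≫ homologyMap (extCechMap u.inv fs) q = 𝟙 _ := by
    rw [← homologyMap_comp, h1, homologyMap_id]
  intro y y' hyy'
  have e1 := homologyMap_extCechMap_smul_id M fs q f y
  have e2 := homologyMap_extCechMap_smul_id M fs q f y'
  have : (homologyMap (extCechMap u.hom fs) q).hom y = (homologyMap (extCechMap u.hom fs) q).hom y' := by
    change (homologyMap (extCechMap (f • 𝟙 M) fs) q).hom y = (homologyMap (extCechMap (f • 𝟙 M) fs) q).hom y'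
    rw [e1, e2]
    exact hyy'
  have h3 := congrArg (homologyMap (extCechMap u.inv fs) q).hom this
  have h4 : ∀ z, (homologyMap (extCechMap u.inv fs) q).hom
      ((homologyMap (extCechMap u.hom fs) q).hom z) = z := fun z =>
    congrArg (fun g => g.hom z) h2
  rwa [h4, h4] at h3

/-- If an element of the ideal generated by the list acts bijectively on `M`, all Čech cohomology
of `M` vanishes. -/
theorem subsingleton_of_bijective_smul (M : ModuleCat.{u} R) (fs : List R) (q : ℤ) (f : R)
    (hf : f ∈ Ideal.span {a : R | a ∈ fs})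
    (hbij : Function.Bijective (fun m : M => f • m)) :
    Subsingleton (DerCA.extCechH fs M q) := by
  refine ⟨fun x y => ?_⟩
  suffices ∀ x : DerCA.extCechH fs M q, x = 0 by rw [this x, this y]
  intro x
  obtain ⟨n, hn⟩ := exists_pow_smul_eq_zero_of_mem_span M fs q x f hf
  have hinj := smul_injective_of_bijective M fs q f hbij
  induction n with
  | zero => simpa using hn
  | succ n ih =>
    apply ih
    apply hinj
    change f • (f ^ n • x) = f • 0
    rw [smul_zero, ← mul_smul, ← pow_succ']
    exact hn

end Groth.Agent.Lib.Helper58.Cech
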