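import Groth.Agent.Lib.Helper58.Cech7
import Groth.Prelude.Def_DRing3
import Mathlib.Algebra.Homology.SingleHomology
import Mathlib.RingTheory.Finiteness.Ideal

/-!
# `Ȟ^0 = Γ_I`
-/

set_option autoImplicit false
universe u
open CategoryTheory CategoryTheory.Limits CochainComplex HomologicalComplex

namespace Groth.Agent.Lib.Helper58.Cech

variable {R : Type u} [CommRing R]

/-- The terms of the extended Čech complex vanish outside `[0, length]` (after helper47's S9264). -/
theorem isZero_X (fs : List R) (M : ModuleCat.{u} R) :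
    ∀ (q : ℤ), (q < 0 ∨ (fs.length : ℤ) < q) → Limits.IsZero ((DerCA.extCech M fs).X q) := by
  induction fs with
  | nil =>
    intro q hq
    apply HomologicalComplex.isZero_single_obj_X
    rcases hq with h | h
    · omega
    · simp at h; omega
  | cons f fs ih =>
    intro q hq
    have e := DerCA.mappingCoconeXIso (DerCA.locCxUnit (Submonoid.powers f) (DerCA.extCech M fs)) q
    refine Limits.IsZero.of_iso ?_ e
    have h1 : Limits.IsZero ((DerCA.extCech M fs).X q) := by
      apply ih
      rcases hq with h | h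
      · left; exact h
      · right; simp at h; omega
    have h2 : Limits.IsZero ((DerCA.extCech M fs).X (q - 1)) := by
      apply ih
      rcases hq with h | h
      · left; omega
      · right; simp at h; omega
    have h3 : Limits.IsZero (((DerCA.locCx (Submonoid.powers f)).obj (DerCA.extCech M fs)).X (q - 1)) :=
      (DerCA.locFunctor (Submonoid.powers f)).map_isZero h2
    rw [Limits.IsZero.iff_id_eq_zero]
    apply Limits.biprod.hom_ext
    · exact h1.eq_of_tgt _ _
    · exact h3.eq_of_tgt _ _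

theorem subsingleton_homology_of_neg (fs : List R) (M : ModuleCat.{u} R) (q : ℤ) (hq : q < 0) :
    Subsingleton (DerCA.extCechH fs M q) :=
  ModuleCat.subsingleton_of_isZero
    (ShortComplex.isZero_homology_of_isZero_X₂ _ (isZero_X fs M q (Or.inl hq)))

/-- The augmentation `Č(fs; M) ⟶ M[0]`. -/
noncomputable def aug (M : ModuleCat.{u} R) : ∀ fs : List R,
    DerCA.extCech M fs ⟶ (HomologicalComplex.single (ModuleCat.{u} R) (ComplexShape.up ℤ) 0).obj M
  | [] => 𝟙 _
  | f :: fs => mappingCocone.fst (DerCA.locCxUnit (Submonoid.powers f) (DerCA.extCech M fs)) ≫ aug M fs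

theorem aug_cons (M : ModuleCat.{u} R) (f : R) (fs : List R) :
    aug M (f :: fs) =
      mappingCocone.fst (DerCA.locCxUnit (Submonoid.powers f) (DerCA.extCech M fs)) ≫ aug M fs := rfl

theorem aug_naturality {M N : ModuleCat.{u} R} (g : M ⟶ N) : ∀ fs : List R,
    extCechMap g fs ≫ aug N fs =
      aug M fs ≫ (HomologicalComplex.single (ModuleCat.{u} R) (ComplexShape.up ℤ) 0).map g
  | [] => by
    rw [extCechMap_nil]
    exact (Category.comp_id _).trans (Category.id_comp _).symm
  | f :: fs => coconeMap_fst_comp _ _ _ _ _ _ _ _ (aug_naturality g fs)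

/-- The canonical map `Ȟ^0(fs; M) ⟶ M`. -/
noncomputable def ιH0 (M : ModuleCat.{u} R) (fs : List R) : DerCA.extCechH fs M 0 ⟶ M :=
  homologyMap (aug M fs) 0 ≫ (singleObjHomologySelfIso (ComplexShape.up ℤ) 0 M).hom

theorem ιH0_naturality {M N : ModuleCat.{u} R} (g : M ⟶ N) (fs : List R) :
    homologyMap (extCechMap g fs) 0 ≫ ιH0 N fs = ιH0 M fs ≫ g := by
  unfold ιH0
  rw [← Category.assoc, ← homologyMap_comp, aug_naturality, homologyMap_comp, Category.assoc,
    singleObjHomologySelfIso_hom_naturality, Category.assoc]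

theorem ιH0_naturality_apply {M N : ModuleCat.{u} R} (g : M ⟶ N) (fs : List R)
    (x : DerCA.extCechH fs M 0) :
    (ιH0 N fs).hom ((homologyMap (extCechMap g fs) 0).hom x) = g.hom ((ιH0 M fs).hom x) :=
  congrArg (fun h => h.hom x) (ιH0_naturality g fs)

theorem homologyMap_comp_comp {K L P : CochainComplex (ModuleCat.{u} R) ℤ} (u : K ⟶ L) (v : L ⟶ P)
    {Z : ModuleCat.{u} R} (w : P.homology 0 ⟶ Z) :
    homologyMap (u ≫ v) 0 ≫ w = homologyMap u 0 ≫ homologyMap v 0 ≫ w := by
  rw [homologyMap_comp, Category.assoc]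

theorem ιH0_cons (M : ModuleCat.{u} R) (f : R) (fs : List R) :
    ιH0 M (f :: fs) =
      homologyMap (mappingCocone.fst (DerCA.locCxUnit (Submonoid.powers f) (DerCA.extCech M fs))) 0 ≫
        ιH0 M fs := by
  exact homologyMap_comp_comp _ _ _

theorem ιH0_spec (M : ModuleCat.{u} R) : ∀ fs : List R,
    Function.Injective (ιH0 M fs).hom ∧
      ∀ m : M, m ∈ LinearMap.range (ιH0 M fs).hom ↔ ∀ f ∈ fs, ∃ n : ℕ, f ^ n • m = 0
  | [] => by
    have h : ιH0 M [] = (singleObjHomologySelfIso (ComplexShape.up ℤ) 0 M).hom := by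
      unfold ιH0
      change homologyMap (𝟙 _) 0 ≫ _ = _
      rw [homologyMap_id, Category.id_comp]
    rw [h]
    refine ⟨(ModuleCat.mono_iff_injective _).1 inferInstance, fun m => ?_⟩
    have hs := (ModuleCat.epi_iff_surjective _).1
      (inferInstance : Epi (singleObjHomologySelfIso (ComplexShape.up ℤ) 0 M).hom)
    exact ⟨fun _ f hf => absurd hf List.not_mem_nil, fun _ => hs m⟩
  | g :: gs => by
    obtain ⟨hinj, hrange⟩ := ιH0_spec M gs
    have hfst : Function.Injective
        (homologyMap (mappingCocone.fst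
          (DerCA.locCxUnit (Submonoid.powers g) (DerCA.extCech M gs))) 0).hom :=
      fst_injective_of_subsingleton _ (-1) 0 (by norm_num)
        (loc_subsingleton g (DerCA.extCech M gs) (-1)
          (subsingleton_homology_of_neg gs M (-1) (by norm_num)))
    rw [ιH0_cons]
    refine ⟨hinj.comp hfst, fun m => ?_⟩
    constructor
    · rintro ⟨x, rfl⟩ f hf
      set y := (homologyMap (mappingCocone.fst
          (DerCA.locCxUnit (Submonoid.powers g) (DerCA.extCech M gs))) 0).hom x with hy
      change ∃ n : ℕ, f ^ n • (ιH0 M gs).hom y = 0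
      rcases List.mem_cons.1 hf with rfl | h
      · obtain ⟨n, hn⟩ := (mem_range_fst_iff f (DerCA.extCech M gs) 0 y).1 ⟨x, rfl⟩
        exact ⟨n, by rw [← map_smul, hn, map_zero]⟩
      · exact (hrange _).1 ⟨y, rfl⟩ f h
    · intro hm
      obtain ⟨y, rfl⟩ := (hrange m).2 (fun f hf => hm f (List.mem_cons_of_mem _ hf))
      obtain ⟨n, hn⟩ := hm g List.mem_cons_self
      have hy : g ^ n • y = 0 := by
        apply hinj
        rw [map_smul, hn, map_zero]
      obtain ⟨x, rfl⟩ := (mem_range_fst_iff g (DerCA.extCech M gs) 0 y).2 ⟨n, hy⟩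
      exact ⟨x, rfl⟩

theorem mem_torsionSub_span_iff (fs : List R) (M : Type u) [AddCommGroup M] [Module R M] (m : M) :
    m ∈ DRing.torsionSub (Ideal.span {x | x ∈ fs}) M ↔ ∀ f ∈ fs, ∃ n : ℕ, f ^ n • m = 0 := by
  constructor
  · rintro ⟨n, hn⟩ f hf
    exact ⟨n, hn _ (Ideal.pow_mem_pow (Ideal.subset_span (show f ∈ {x | x ∈ fs} from hf)) n)⟩
  · intro h
    have hle : Ideal.span {x | x ∈ fs} ≤ (Ideal.torsionOf R M m).radical := by
      rw [Ideal.span_le]
      intro a ha
      obtain ⟨n, hn⟩ := h a ha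
      exact ⟨n, (Ideal.mem_torsionOf_iff _ _).2 hn⟩
    obtain ⟨k, hk⟩ := Ideal.exists_pow_le_of_le_radical_of_fg hle
      (Submodule.fg_span (List.finite_toSet fs))
    exact ⟨k, fun a ha => (Ideal.mem_torsionOf_iff _ _).1 (hk ha)⟩

theorem range_ιH0 (M : ModuleCat.{u} R) (fs : List R) :
    LinearMap.range (ιH0 M fs).hom = DRing.torsionSub (Ideal.span {x | x ∈ fs}) M := by
  ext m
  rw [(ιH0_spec M fs).2, mem_torsionSub_span_iff]

/-- `Ȟ^0(fs; M) ≃ Γ_I(M)`. -/
noncomputable def h0Equiv (M : ModuleCat.{u} R) (fs : List R) :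
    DerCA.extCechH fs M 0 ≃ₗ[R] DRing.torsionSub (Ideal.span {x | x ∈ fs}) M :=
  (LinearEquiv.ofInjective (ιH0 M fs).hom (ιH0_spec M fs).1).trans
    (LinearEquiv.ofEq _ _ (range_ιH0 M fs))

theorem h0Equiv_apply (M : ModuleCat.{u} R) (fs : List R) (x : DerCA.extCechH fs M 0) :
    ((h0Equiv M fs x).1 : M) = (ιH0 M fs).hom x := rfl

end Groth.Agent.Lib.Helper58.Cech
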