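import Groth.Agent.Lib.Helper58.DTLib3
import Mathlib.Algebra.Module.LocalizedModule.Basic

/-!
# Ideal transform for a principal ideal is localization
-/

set_option autoImplicit false
universe u
open CategoryTheory CategoryTheory.Limits Opposite
open LocCoh

namespace Groth.Agent.Lib.Helper58.DTLib

variable {R : Type u} [CommRing R] (a : R) (M : Type u) [AddCommGroup M] [Module R M]

set_option quotPrecheck false in
local notation "Ja" => (Ideal.span (singleton a) : Ideal R)
set_option quotPrecheck false in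
local notation "Sa" => Submonoid.powers a
set_option quotPrecheck false in
local notation "La" => LocalizedModule (Submonoid.powers a) M

theorem mem_span_pow_iff (t : ℕ) (x : R) : x ∈ (Ideal.span {a} : Ideal R) ^ t ↔ ∃ r, r * a ^ t = x := by
  rw [Ideal.span_singleton_pow, Ideal.mem_span_singleton']

theorem ker_loc_le : LinearMap.ker (LocalizedModule.mkLinearMap Sa M) ≤ DRing.torsionSub Ja M := by
  intro m hm
  rw [LinearMap.mem_ker, IsLocalizedModule.eq_zero_iff Sa] at hm
  obtain ⟨⟨_, j, rfl⟩, hj⟩ := hm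
  refine ⟨j, fun x hx => ?_⟩
  obtain ⟨r, rfl⟩ := (mem_span_pow_iff a j x).mp hx
  rw [mul_smul]
  change r • (a ^ j • m) = 0
  rw [show a ^ j • m = 0 from hj, smul_zero]

theorem coker_loc_torsion :
    IsPowerTorsion Ja (La ⧸ LinearMap.range (LocalizedModule.mkLinearMap Sa M)) := by
  intro y
  obtain ⟨x, rfl⟩ := Submodule.Quotient.mk_surjective _ y
  induction x using LocalizedModule.induction_on with
  | h m s =>
    obtain ⟨_, t, rfl⟩ := s
    refine ⟨t, fun x hx => ?_⟩
    obtain ⟨r, rfl⟩ := (mem_span_pow_iff a t x).mp hx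
    rw [← Submodule.Quotient.mk_smul, Submodule.Quotient.mk_eq_zero]
    refine ⟨r • m, ?_⟩
    rw [LocalizedModule.mkLinearMap_apply, mul_smul, LocalizedModule.smul'_mk, LocalizedModule.smul'_mk]
    have := LocalizedModule.mk_cancel (S := Submonoid.powers a) ⟨a ^ t, t, rfl⟩ (r • m)
    rw [← this]
    congr 1
    rw [smul_comm]
    rfl

theorem ιDT_eq_toDT_of (t : ℕ) (f : ↥((Ideal.span {a} : Ideal R) ^ t) →ₗ[R] La) (x : La)
    (hx : a ^ t • x = f ⟨a ^ t, Ideal.pow_mem_pow (Ideal.mem_span_singleton_self a) t⟩) :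
    ιDT Ja La t f = toDT Ja La x := by
  rw [toDT_eq, ← ιDT_comp_inclusion Ja La (Nat.zero_le t)]
  congr 1
  ext ⟨y, hy⟩
  obtain ⟨r, rfl⟩ := (mem_span_pow_iff a t y).mp hy
  simp only [LinearMap.comp_apply, LinearMap.flip_apply, LinearMap.domRestrict_apply,
    LinearMap.lsmul_apply]
  have : (⟨r * a ^ t, hy⟩ : ↥((Ideal.span {a} : Ideal R) ^ t)) =
      r • ⟨a ^ t, Ideal.pow_mem_pow (Ideal.mem_span_singleton_self a) t⟩ := Subtype.ext rfl
  rw [this, map_smul, ← hx]
  simp [mul_smul]

theorem toDT_loc_bijective : Function.Bijective (toDT Ja La) := by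
  constructor
  · rw [← LinearMap.ker_eq_bot, ker_toDT, Submodule.eq_bot_iff]
    rintro y ⟨k, hk⟩
    have h1 := hk (a ^ k) (Ideal.pow_mem_pow (Ideal.mem_span_singleton_self a) k)
    have := IsLocalizedModule.smul_injective (LocalizedModule.mkLinearMap Sa M) (⟨a ^ k, k, rfl⟩ : Sa)
    apply this
    simp only [smul_zero]
    exact h1
  · intro z
    obtain ⟨t, f, rfl⟩ := exists_rep Ja La z
    obtain ⟨x, hx⟩ : ∃ x : La, a ^ t • x = f ⟨a ^ t, Ideal.pow_mem_pow (Ideal.mem_span_singleton_self a) t⟩ := by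
      generalize f ⟨a ^ t, Ideal.pow_mem_pow (Ideal.mem_span_singleton_self a) t⟩ = w
      induction w using LocalizedModule.induction_on with
      | h m s =>
        refine ⟨LocalizedModule.mk m (s * ⟨a ^ t, t, rfl⟩), ?_⟩
        rw [LocalizedModule.smul'_mk]
        exact LocalizedModule.mk_cancel_common_right s ⟨a ^ t, t, rfl⟩ m
    exact ⟨x, (ιDT_eq_toDT_of a M t f x hx).symm⟩

/-- The isomorphism `D_{Ra}(M) ≃ M_a`. -/
noncomputable def dtLocEquiv [IsNoetherianRing R] : DT Ja M ≃ₗ[R] La :=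
  (mapEquiv Ja (LocalizedModule.mkLinearMap Sa M) (ker_loc_le a M) (coker_loc_torsion a M)).trans
    (LinearEquiv.ofBijective (toDT Ja La) (toDT_loc_bijective a M)).symm

theorem dtLocEquiv_ιDT [IsNoetherianRing R] (t : ℕ) (g : ↥((Ideal.span {a} : Ideal R) ^ t) →ₗ[R] M) :
    dtLocEquiv a M (ιDT Ja M t g) =
      LocalizedModule.mk (g ⟨a ^ t, Ideal.pow_mem_pow (Ideal.mem_span_singleton_self a) t⟩)
        ⟨a ^ t, pow_mem (Submonoid.mem_powers a) t⟩ := by
  simp only [dtLocEquiv, LinearEquiv.trans_apply]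
  rw [LinearEquiv.symm_apply_eq]
  simp only [mapEquiv, LinearEquiv.ofBijective_apply]
  rw [map_ιDT]
  apply ιDT_eq_toDT_of
  rw [LocalizedModule.smul'_mk, LinearMap.comp_apply, LocalizedModule.mkLinearMap_apply]
  exact LocalizedModule.mk_cancel (S := Submonoid.powers a) ⟨a ^ t, pow_mem (Submonoid.mem_powers a) t⟩ _

theorem dtLocEquiv_toDT [IsNoetherianRing R] (m : M) :
    dtLocEquiv a M (toDT Ja M m) = LocalizedModule.mkLinearMap Sa M m := by
  simp only [dtLocEquiv, LinearEquiv.trans_apply]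
  rw [LinearEquiv.symm_apply_eq]
  simp only [mapEquiv, LinearEquiv.ofBijective_apply]
  exact map_toDT Ja _ m

end Groth.Agent.Lib.Helper58.DTLib
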