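import Groth.Agent.Lib.Helper58.Cech8
import Groth.Agent.Lib.Helper58.DTLoc
import Groth.Agent.Lib.Helper58.DTH1
import Groth.Agent.Lib.Helper41.LCTorsion
import Groth.Agent.Lib.Helper41.LC0

/-!
# Čech cohomology of injective modules over a Noetherian ring vanishes in positive degrees
-/

set_option autoImplicit false
universe u
open CategoryTheory CategoryTheory.Limits CochainComplex HomologicalComplex
open LocCoh

namespace Groth.Agent.Lib.Helper58.Cech

variable {R : Type u} [CommRing R] [IsNoetherianRing R]

/-- For an injective module `N` over a Noetherian ring, `N → N_g` is surjective. -/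
theorem mkLinearMap_surjective_of_injective (g : R) (N : Type u) [AddCommGroup N] [Module R N]
    [Module.Injective R N] :
    Function.Surjective (LocalizedModule.mkLinearMap (Submonoid.powers g) N) := by
  have hinj : Injective (ModuleCat.of R N) := Module.injective_object_of_injective_module R N
  have h1 : Subsingleton ((localCohomology (Ideal.span {g}) 1).obj (ModuleCat.of R N)) :=
    Groth.Agent.Lib.Helper41.LC.subsingleton_of_injective (Ideal.span {g}) (ModuleCat.of R N) 1
      one_pos
  have h2 : Subsingleton (DT (Ideal.span {g}) N ⧸ LinearMap.range (toDT (Ideal.span {g}) N)) :=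
    (Groth.Agent.Lib.Helper58.DTH1.cokerEquiv (Ideal.span {g}) N).toEquiv.subsingleton
  rw [Submodule.Quotient.subsingleton_iff] at h2
  intro y
  have hx : (Groth.Agent.Lib.Helper58.DTLib.dtLocEquiv g N).symm y ∈
      LinearMap.range (toDT (Ideal.span {g}) N) := by
    rw [h2]; trivial
  obtain ⟨m, hm⟩ := hx
  refine ⟨m, ?_⟩
  rw [← Groth.Agent.Lib.Helper58.DTLib.dtLocEquiv_toDT, hm, LinearEquiv.apply_symm_apply]

theorem surjective_of_isLocalizedModule_of_injective (g : R) {N N' : Type u} [AddCommGroup N]
    [Module R N] [AddCommGroup N'] [Module R N'] [Module.Injective R N] (φ : N →ₗ[R] N')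
    [IsLocalizedModule (Submonoid.powers g) φ] : Function.Surjective φ := by
  intro y
  obtain ⟨m, hm⟩ := mkLinearMap_surjective_of_injective g N
    ((IsLocalizedModule.iso (Submonoid.powers g) φ).symm y)
  refine ⟨m, ?_⟩
  apply (IsLocalizedModule.iso (Submonoid.powers g) φ).symm.injective
  rw [← hm]
  exact LinearMap.congr_fun (IsLocalizedModule.iso_symm_comp (Submonoid.powers g) φ) m

theorem injective_h0 (E : ModuleCat.{u} R) [Injective E] (fs : List R) :
    Module.Injective R (DerCA.extCechH fs E 0) := by
  have h1 : Injective (ModuleCat.of R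
      (Groth.Agent.Lib.Helper41.LC.powTorsion (Ideal.span {x | x ∈ fs}) E)) :=
    Groth.Agent.Lib.Helper41.LC.injective_powTorsion _ E
  have heq : DRing.torsionSub (Ideal.span {x | x ∈ fs}) E =
      Groth.Agent.Lib.Helper41.LC.powTorsion (Ideal.span {x | x ∈ fs}) E :=
    Submodule.ext (fun m => Iff.rfl)
  let e : DerCA.extCechH fs E 0 ≃ₗ[R]
      Groth.Agent.Lib.Helper41.LC.powTorsion (Ideal.span {x | x ∈ fs}) E :=
    (h0Equiv E fs).trans (LinearEquiv.ofEq _ _ heq)
  have h2 : Injective (DerCA.extCechH fs E 0) := Injective.of_iso e.toModuleIso.symm h1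
  exact Module.injective_module_of_injective_object R (DerCA.extCechH fs E 0)

/-- Čech cohomology of an injective module vanishes in positive degrees. -/
theorem subsingleton_of_injective (E : ModuleCat.{u} R) [Injective E] :
    ∀ (fs : List R) (q : ℤ), 1 ≤ q → Subsingleton (DerCA.extCechH fs E q)
  | [], q, hq => ModuleCat.subsingleton_of_isZero
      (HomologicalComplex.isZero_single_obj_homology (ComplexShape.up ℤ) 0 E q (by omega))
  | g :: gs, q, hq => by
    by_cases h1 : q = 1
    · subst h1
      have hI := injective_h0 E gs
      have hloc := isLocalizedModule_homologyMap (Submonoid.powers g) (DerCA.extCech E gs) 0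
      exact subsingleton_cocone_of_surjective
        (DerCA.locCxUnit (Submonoid.powers g) (DerCA.extCech E gs)) 0 1 rfl
        (subsingleton_of_injective E gs 1 le_rfl)
        (surjective_of_isLocalizedModule_of_injective g
          (homologyMap (DerCA.locCxUnit (Submonoid.powers g) (DerCA.extCech E gs)) 0).hom)
    · exact subsingleton_cocone_of_subsingleton
        (DerCA.locCxUnit (Submonoid.powers g) (DerCA.extCech E gs)) (q - 1) q (by omega)
        (subsingleton_of_injective E gs q hq)
        (loc_subsingleton g (DerCA.extCech E gs) (q - 1)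
          (subsingleton_of_injective E gs (q - 1) (by omega)))

end Groth.Agent.Lib.Helper58.Cech
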