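import Groth.Agent.Lib.Helper58.CechLC1
import Groth.Agent.Lib.Helper58.CechCmp4
import Groth.Agent.Lib.QCoh.Helper50_Products

/-!
# Čech cohomology for `(X_{f_i})` vanishes when the `f_i` generate the unit ideal on the union
-/

set_option autoImplicit false
universe u

namespace Groth.Agent.Lib.Helper58.CechPU

open AlgebraicGeometry CategoryTheory Limits Opposite TopologicalSpace Abelian
open Groth.Agent.Lib.Cohomology Groth.Agent.Lib.Helper58.CechCmp
open Groth.Agent.Lib.Helper58.CechLC
open Groth.Agent.Lib.Helper41.TildeFlasque Groth.Agent.Lib.Helper41.AffLC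

section Affine

variable {B : Type u} [CommRing B] {ι : Type u} (t : ι → B) (N : ModuleCat.{u} B)

lemma iSup_WY_eq_top (h : Ideal.span (Set.range t) = ⊤) : iSup (WY t) = ⊤ := by
  rw [eq_top_iff]
  intro x _
  have hx' : ¬ (Set.range t ⊆ x.asIdeal) := fun h' => by
    have : Ideal.span (Set.range t) ≤ x.asIdeal := Ideal.span_le.2 h'
    rw [h] at this
    exact x.isPrime.ne_top (top_le_iff.1 this)
  obtain ⟨f, ⟨i, rfl⟩, hfx⟩ := Set.not_subset.mp hx'
  exact Opens.mem_iSup.mpr ⟨i, hfx⟩

theorem subsingleton_cech (h : Ideal.span (Set.range t) = ⊤) (p : ℕ) (hp : 1 ≤ p) :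
    Subsingleton ↑(CohTop.cechH (shf B N).obj (WY t) p) := by
  obtain ⟨e1⟩ := leray (WY t) p (shf B N) (isAcyclicOn_WY t N)
  rw [iSup_WY_eq_top t h] at e1
  obtain ⟨k, rfl⟩ : ∃ k, p = k + 1 := ⟨p - 1, by omega⟩
  have : Subsingleton (Ext.{u} (CohCx.freeSheaf
      (Opens.grothendieckTopology (Spec (CommRingCat.of B)).carrier) ⊤) (shf B N) (k + 1)) :=
    HU_succ_subsingleton_of_isAffineOpen
      (tilde (R := CommRingCat.of B) (ModuleCat.of B N)) ⊤ (isAffineOpen_top _) k
  exact e1.toEquiv.subsingleton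

end Affine

section Scheme

variable {X : Scheme.{u}} (F : X.Modules) {B : Type u} [CommRing B] [Algebra B Γ(X, ⊤)]
variable {ι : Type u} (t : ι → B)
variable [F.IsQuasicoherent] [CompactSpace X] [QuasiSeparatedSpace X]

theorem subsingleton_cech_VX (h : Ideal.span (Set.range t) = ⊤) (p : ℕ) (hp : 1 ≤ p) :
    Subsingleton ↑(((cechComplexFunctor (VX (X := X) t)).obj F.presheaf).homology p) := by
  obtain ⟨e⟩ := nonempty_cechH_addEquiv' F t p
  have := subsingleton_cech t (NB (B := B) F) h p hp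
  exact e.toEquiv.subsingleton

end Scheme

end Groth.Agent.Lib.Helper58.CechPU
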