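import Groth.Agent.Lib.Helper58.CechPU1

/-!
# Čech complex of `G` on `X` for opens inside `U` equals that of `G|_U` on `U`
-/

set_option autoImplicit false
universe u

namespace Groth.Agent.Lib.Helper58.CechPU

open AlgebraicGeometry CategoryTheory Limits Opposite TopologicalSpace
open Groth.Agent.Lib.Cohomology Groth.Agent.Lib.Helper58.CechCmp

variable {X : Scheme.{u}} (U : X.Opens) (G : X.Modules) {ι : Type u} (V : ι → X.Opens)

/-- The family restricted to `U`. -/
abbrev VU : ι → (↑U : Scheme.{u}).Opens := fun i => U.ι ⁻¹ᵁ V i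

lemma image_cechOpen (hV : ∀ i, V i ≤ U) {n : ℕ} (a : Fin (n + 1) → ι) :
    U.ι ''ᵁ (∏ᶜ (VU U V ∘ a) : (↑U : Scheme.{u}).Opens) = (∏ᶜ (V ∘ a) : X.Opens) := by
  ext x
  simp only [SetLike.mem_coe]
  constructor
  · rintro ⟨y, hy, rfl⟩
    rw [SetLike.mem_coe, mem_cechOpen] at hy
    rw [mem_cechOpen]
    exact hy
  · intro hx
    rw [mem_cechOpen] at hx
    have hxU : x ∈ U := hV _ (hx 0)
    refine ⟨⟨x, hxU⟩, ?_, rfl⟩
    rw [SetLike.mem_coe, mem_cechOpen]
    exact hx

/-- The comparison of sections. -/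
noncomputable def thetaU (hV : ∀ i, V i ≤ U) {n : ℕ} (a : Fin (n + 1) → ι) :
    G.presheaf.obj (op (∏ᶜ (V ∘ a) : X.Opens)) ≃+
      (G.restrict U.ι).presheaf.obj (op (∏ᶜ (VU U V ∘ a) : (↑U : Scheme.{u}).Opens)) :=
  (G.presheaf.mapIso (eqToIso (congrArg op (image_cechOpen U V hV a).symm))).addCommGroupIsoToAddEquiv

theorem nonempty_cechH_addEquiv_restrict (hV : ∀ i, V i ≤ U) (p : ℕ) :
    Nonempty (↑(((cechComplexFunctor V).obj G.presheaf).homology p) ≃+
      ↑(((cechComplexFunctor (VU U V)).obj (G.restrict U.ι).presheaf).homology p)) := by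
  refine nonempty_cechH_addEquiv V (VU U V) G.presheaf (G.restrict U.ι).presheaf
    (fun n a => thetaU U G V hV a) ?_ p
  intro n i k x
  change (G.presheaf.map _) ((G.presheaf.map _) x) = (G.presheaf.map _) ((G.presheaf.map _) x)
  rw [← ConcreteCategory.comp_apply, ← ConcreteCategory.comp_apply, ← G.presheaf.map_comp,
    ← G.presheaf.map_comp]
  rfl

end Groth.Agent.Lib.Helper58.CechPU
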