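import Groth.Agent.Lib.Helper41.LCLoc
import Groth.Agent.Lib.Helper41.LCFaltings
import Groth.Agent.Lib.Helper41.LCChar
import Groth.Agent.Lib.Helper41.LCVanish
import Groth.Agent.Lib.Helper41.LCSup
import Groth.Agent.Lib.Helper58.LCX

/-!
# The comparison sequence `H^i_{a+Rb}(M) → H^i_a(M) → H^i_a(M_b)`, part 1

Generic lemmas and the base case: `ker (H^1_{a+Rb}(M) → H^1_a(M)) ≃ H^1_{Rb}(Γ_a(M))`.
-/

set_option autoImplicit false
universe u
open CategoryTheory CategoryTheory.Limits Opposite CategoryTheory.Abelian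

namespace Groth.Agent.Lib.Helper58.CmpSeq

open Groth.Agent.Lib.Helper41.LC

variable {R : Type u} [CommRing R]

/-- Kernels correspond under commuting equivalences. -/
noncomputable def kerEquiv {X Y X' Y' : Type u} [AddCommGroup X] [Module R X] [AddCommGroup Y] [Module R Y]
    [AddCommGroup X'] [Module R X'] [AddCommGroup Y'] [Module R Y']
    (e₁ : X ≃ₗ[R] X') (e₂ : Y ≃ₗ[R] Y') (f : X →ₗ[R] Y) (f' : X' →ₗ[R] Y')
    (h : ∀ x, e₂ (f x) = f' (e₁ x)) : LinearMap.ker f ≃ₗ[R] LinearMap.ker f' :=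
  (e₁.submoduleMap (LinearMap.ker f)).trans (LinearEquiv.ofEq _ _ (by
    ext y
    constructor
    · rintro ⟨x, hx, rfl⟩
      change f' (e₁ x) = 0
      rw [← h, LinearMap.mem_ker.1 hx, map_zero]
    · intro hy
      refine ⟨e₁.symm y, ?_, e₁.apply_symm_apply y⟩
      change f (e₁.symm y) = 0
      apply e₂.injective
      rw [h, e₁.apply_symm_apply, LinearMap.mem_ker.1 hy, map_zero]))

/-- Cokernels correspond under commuting equivalences. -/
noncomputable def cokerEquiv' {X Y X' Y' : Type u} [AddCommGroup X] [Module R X] [AddCommGroup Y] [Module R Y]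
    [AddCommGroup X'] [Module R X'] [AddCommGroup Y'] [Module R Y']
    (e₁ : X ≃ₗ[R] X') (e₂ : Y ≃ₗ[R] Y') (f : X →ₗ[R] Y) (f' : X' →ₗ[R] Y')
    (h : ∀ x, e₂ (f x) = f' (e₁ x)) : (Y ⧸ LinearMap.range f) ≃ₗ[R] (Y' ⧸ LinearMap.range f') :=
  Submodule.Quotient.equiv _ _ e₂ (by
    ext y
    constructor
    · rintro ⟨_, ⟨x, rfl⟩, rfl⟩
      exact ⟨e₁ x, (h x).symm⟩
    · rintro ⟨x', rfl⟩
      refine ⟨f (e₁.symm x'), ⟨_, rfl⟩, ?_⟩
      change e₂ (f (e₁.symm x')) = _
      rw [h, e₁.apply_symm_apply])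

section RightExact

variable (I : Ideal R)

/-- If `H^2_I` vanishes identically, a surjection `g : X → Y` whose kernel is covered by a module
`W` with `H^1_I(W) = 0` induces a bijection on `H^1_I`. -/
theorem map_bijective_of_cover
    (hcd : ∀ N : ModuleCat.{u} R, Subsingleton ((localCohomology I 2).obj N))
    {W X Y : ModuleCat.{u} R} (p : W ⟶ X) (g : X ⟶ Y) (hg : Function.Surjective g.hom)
    (hpg : ∀ w, g.hom (p.hom w) = 0)
    (hex : ∀ x, g.hom x = 0 → ∃ w, p.hom w = x)
    (hW : Subsingleton ((localCohomology I 1).obj W)) :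
    Function.Bijective ((localCohomology I 1).map g).hom := by
  have hS1 := Groth.Agent.Lib.Helper58.LCX.kerSC_shortExact g.hom hg
  let p' : W →ₗ[R] LinearMap.ker g.hom := p.hom.codRestrict _ hpg
  have hp' : Function.Surjective p' := by
    rintro ⟨x, hx⟩
    obtain ⟨w, hw⟩ := hex x hx
    exact ⟨w, Subtype.ext hw⟩
  have hS2 := Groth.Agent.Lib.Helper58.LCX.kerSC_shortExact p' hp'
  have hsurj : Function.Surjective ((localCohomology I 1).map
      (Groth.Agent.Lib.Helper58.LCX.kerSC p').g).hom :=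
    map_g_surjective_of_subsingleton I hS2 1 (hcd _)
  have hW' : Subsingleton ((localCohomology I 1).obj (Groth.Agent.Lib.Helper58.LCX.kerSC p').X₂) := hW
  have hZ : Subsingleton ((localCohomology I 1).obj (Groth.Agent.Lib.Helper58.LCX.kerSC g.hom).X₁) :=
    hsurj.subsingleton
  exact ⟨map_g_injective_of_subsingleton I hS1 1 hZ,
    map_g_surjective_of_subsingleton I hS1 1 (hcd _)⟩

end RightExact

section Base

variable [IsNoetherianRing R] (a : Ideal R) (b : R)

/-- `H^2_{Rb}` vanishes identically. -/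
theorem subsingleton_two_span_singleton (N : ModuleCat.{u} R) :
    Subsingleton ((localCohomology (Ideal.span {b}) 2).obj N) := by
  classical
  have h := subsingleton_of_card_lt ({b} : Finset R) N 2 (by simp)
  rwa [Finset.coe_singleton] at h

/-- For an `a`-torsion-free module `N`, the comparison map `H^1_{a+Rb}(N) → H^1_a(N)` is injective. -/
theorem cmpH_one_injective_of_torsionFree (N : ModuleCat.{u} R)
    (hN : ∀ m : N, (∃ n : ℕ, ∀ r ∈ a ^ n, r • m = 0) → m = 0) :
    Function.Injective (cmpH (le_sup_left : a ≤ a ⊔ Ideal.span {b}) 1 N) := by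
  set J : Ideal R := a ⊔ Ideal.span {b} with hJ
  rw [injective_iff_map_eq_zero]
  intro x hx
  let f : N ⟶ Injective.under N := Injective.ι N
  have hS := shortExact_of_mono f
  set S := ShortComplex.mk f (cokernel.π f) (cokernel.condition f) with hSdef
  have hfinj : Function.Injective f.hom := (ModuleCat.mono_iff_injective _).1 inferInstance
  have hE1 : Subsingleton ((localCohomology J 1).obj S.X₂) :=
    subsingleton_of_injective J (Injective.under N) 1 one_pos
  have hle : a ≤ J := le_sup_left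
  obtain ⟨q, hq⟩ := exact₁ J hS 0 1 rfl (x : (localCohomology J 1).obj S.X₁) (Subsingleton.elim _ _)
  have hx' : cmpH hle 1 S.X₁ (δ J hS 0 1 rfl q) = 0 := by
    rw [hq]
    exact hx
  rw [cmpH_δ] at hx'
  obtain ⟨e, he⟩ := exact₃ a hS 0 1 rfl _ hx'
  -- elements
  set et : S.X₂ := toMod a S.X₂ e with het
  set qt : S.X₃ := toMod J S.X₃ q with hqt
  have h1 : S.g.hom et = qt := by
    rw [het, ← toMod_naturality, he, toMod_cmpH]
  obtain ⟨k, hk⟩ := (mem_range_toMod_iff J S.X₃ qt).1 ⟨q, rfl⟩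
  obtain ⟨n, hn⟩ := (mem_range_toMod_iff a S.X₂ et).1 ⟨e, rfl⟩
  have hbk : b ^ k ∈ J ^ k :=
    Ideal.pow_mem_pow (Ideal.mem_sup_right (Ideal.mem_span_singleton_self b)) k
  have h2 : S.g.hom (b ^ k • et) = 0 := by
    rw [map_smul, h1]
    exact hk _ hbk
  obtain ⟨m, hm⟩ := (ShortComplex.moduleCat_exact_iff _).1 hS.exact _ h2
  have hm0 : m = 0 := by
    apply hN
    refine ⟨n, fun r hr => ?_⟩
    apply hfinj
    change S.f.hom (r • m) = S.f.hom 0
    rw [map_smul, hm, map_zero, smul_comm, hn r hr, smul_zero]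
  have h3 : b ^ k • et = 0 := by
    rw [← hm, hm0, map_zero]
  have h4 : ∃ l : ℕ, ∀ r ∈ J ^ l, r • et = 0 := by
    rw [hJ, torsion_sup_iff]
    refine ⟨⟨n, hn⟩, ⟨k, fun r hr => ?_⟩⟩
    rw [Ideal.span_singleton_pow, Ideal.mem_span_singleton'] at hr
    obtain ⟨c, rfl⟩ := hr
    rw [mul_smul, h3, smul_zero]
  obtain ⟨e', he'⟩ := (mem_range_toMod_iff J S.X₂ et).2 h4
  have h5 : q = ((localCohomology J 0).map S.g).hom e' := by
    apply toMod_injective J S.X₃
    rw [toMod_naturality, he', h1]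
  refine hq.symm.trans ?_
  rw [h5]
  exact δ_map_eq_zero J hS 0 1 rfl e'

/-- Base case: `ker (H^1_{a+Rb}(M) → H^1_a(M)) ≃ H^1_{Rb}(Γ_a(M))`. -/
theorem nonempty_ker_one_equiv (M : Type u) [AddCommGroup M] [Module R M] :
    Nonempty (LinearMap.ker (cmpH (le_sup_left : a ≤ a ⊔ Ideal.span {b}) 1 (ModuleCat.of R M)) ≃ₗ[R]
      (localCohomology (Ideal.span {b}) 1).obj (ModuleCat.of R (powTorsion a M))) := by
  set J : Ideal R := a ⊔ Ideal.span {b} with hJ
  have hle : a ≤ J := le_sup_left
  have hB : Ideal.span {b} ≤ J := le_sup_right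
  have hS := subQuotSC_shortExact (powTorsion a M)
  set S := subQuotSC (powTorsion a M) with hSdef
  have h0a : Subsingleton ((localCohomology a 0).obj S.X₃) := by
    rw [subsingleton_zero_iff]
    intro m hm
    have h1 : m ∈ powTorsion a (M ⧸ powTorsion a M) := (mem_powTorsion_iff a m).2 hm
    rw [powTorsion_quotient_eq_bot] at h1
    exact h1
  have h0J : Subsingleton ((localCohomology J 0).obj S.X₃) :=
    (cmpH_injective_zero hle S.X₃).subsingleton
  have hG : IsTorsion a S.X₁ := isTorsion_powTorsion a M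
  have h1aG : Subsingleton ((localCohomology a 1).obj S.X₁) :=
    subsingleton_of_isTorsion a 1 one_pos _ hG
  have hinj : Function.Injective ((localCohomology J 1).map S.f).hom :=
    map_f_injective_of_subsingleton J hS 0 h0J
  have hf4 : Function.Injective (cmpH hle 1 S.X₃) := by
    apply cmpH_one_injective_of_torsionFree
    intro m hm
    have h1 : m ∈ powTorsion a (M ⧸ powTorsion a M) := (mem_powTorsion_iff a m).2 hm
    rw [powTorsion_quotient_eq_bot] at h1
    exact h1
  have hrange : LinearMap.range ((localCohomology J 1).map S.f).hom =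
      LinearMap.ker (cmpH hle 1 S.X₂) := by
    ext x
    constructor
    · rintro ⟨y, rfl⟩
      rw [LinearMap.mem_ker, cmpH_map, Subsingleton.elim (cmpH hle 1 S.X₁ y) 0, map_zero]
    · intro hx
      rw [LinearMap.mem_ker] at hx
      have h2 : ((localCohomology J 1).map S.g).hom x = 0 := by
        apply hf4
        rw [cmpH_map, hx, map_zero, map_zero]
      exact exact₂ J hS 1 x h2
  have hJ' : J ≤ Ideal.span {b} ⊔ a := by rw [hJ, sup_comm]
  have hbij := cmpH_bijective_of_isTorsion hB a hJ' 1 S.X₁ hG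
  exact ⟨((LinearEquiv.ofEq _ _ hrange).symm.trans (LinearEquiv.ofInjective _ hinj).symm).trans
    (LinearEquiv.ofBijective _ hbij)⟩

end Base

end Groth.Agent.Lib.Helper58.CmpSeq
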