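import Groth.Agent.Lib.Helper58.CmpSeq1

/-!
# The comparison sequence, part 2: `ker (H^{i+1}_{a+Rb}(M) → H^{i+1}_a(M)) ≃ H^1_{Rb}(H^i_a(M))`
by dimension shifting.
-/

set_option autoImplicit false
universe u
open CategoryTheory CategoryTheory.Limits Opposite CategoryTheory.Abelian

namespace Groth.Agent.Lib.Helper58.CmpSeq

open Groth.Agent.Lib.Helper41.LC

variable {R : Type u} [CommRing R] [IsNoetherianRing R] (a : Ideal R) (b : R)

/-- `H^0_a(M) ≃ Γ_a(M)`. -/
noncomputable def H0Equiv (M : ModuleCat.{u} R) :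
    (localCohomology a 0).obj M ≃ₗ[R] powTorsion a M :=
  (LinearEquiv.ofInjective (toMod a M) (toMod_injective a M)).trans (LinearEquiv.ofEq _ _ (by
    ext m
    rw [mem_range_toMod_iff, mem_powTorsion_iff]))

/-- `H^1_I(H^0_a(E)) = 0` for an injective `E`. -/
theorem subsingleton_one_H0_of_injective (I : Ideal R) (E : ModuleCat.{u} R) [Injective E] :
    Subsingleton ((localCohomology I 1).obj ((localCohomology a 0).obj E)) := by
  have := injective_powTorsion a E
  have h1 : Subsingleton ((localCohomology I 1).obj (ModuleCat.of R (powTorsion a E))) :=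
    subsingleton_of_injective I _ 1 one_pos
  let iso : (localCohomology a 0).obj E ≅ ModuleCat.of R (powTorsion a E) :=
    (H0Equiv a E).toModuleIso
  exact ((localCohomology I 1).mapIso iso).toLinearEquiv.toEquiv.subsingleton

/-- The statement `ker (cmp^{i+1}_M) ≃ H^1_{Rb}(H^i_a(M))` for all `M`. -/
def P (i : ℕ) : Prop :=
  ∀ M : ModuleCat.{u} R,
    Nonempty (LinearMap.ker (cmpH (le_sup_left : a ≤ a ⊔ Ideal.span {b}) (i + 1) M) ≃ₗ[R]
      (localCohomology (Ideal.span {b}) 1).obj ((localCohomology a i).obj M))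

theorem P_zero : P a b 0 := by
  intro M
  obtain ⟨e⟩ := nonempty_ker_one_equiv a b M
  let iso : ModuleCat.of R (powTorsion a M) ≅ (localCohomology a 0).obj M :=
    (H0Equiv a M).symm.toModuleIso
  exact ⟨e.trans ((localCohomology (Ideal.span {b}) 1).mapIso iso).toLinearEquiv⟩

theorem P_succ (i : ℕ) (h : P a b i) : P a b (i + 1) := by
  intro M
  set J : Ideal R := a ⊔ Ideal.span {b} with hJ
  have hle : a ≤ J := le_sup_left
  let f : M ⟶ Injective.under M := Injective.ι M
  have hS := shortExact_of_mono f
  set S := ShortComplex.mk f (cokernel.π f) (cokernel.condition f) with hSdef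
  have hEJ : ∀ k, 0 < k → Subsingleton ((localCohomology J k).obj S.X₂) :=
    fun k hk => subsingleton_of_injective J (Injective.under M) k hk
  have hEa : ∀ k, 0 < k → Subsingleton ((localCohomology a k).obj S.X₂) :=
    fun k hk => subsingleton_of_injective a (Injective.under M) k hk
  have hδJ := δ_bijective_of_subsingleton J hS (i + 1) (hEJ _ (by omega)) (hEJ _ (by omega))
  have hδa := δ_bijective_of_subsingleton a hS (i + 1) (hEa _ (by omega)) (hEa _ (by omega))
  have e1 : LinearMap.ker (cmpH hle (i + 1) S.X₃) ≃ₗ[R] LinearMap.ker (cmpH hle (i + 1 + 1) S.X₁) :=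
    kerEquiv (LinearEquiv.ofBijective _ hδJ) (LinearEquiv.ofBijective _ hδa) _ _
      (fun x => (cmpH_δ hle hS (i + 1) (i + 1 + 1) rfl x).symm)
  obtain ⟨e2⟩ := h S.X₃
  -- the map induced by `δ_a^i` on `H^1_{Rb}`
  let g : (localCohomology a i).obj S.X₃ ⟶ (localCohomology a (i + 1)).obj S.X₁ :=
    ModuleCat.ofHom (δ a hS i (i + 1) rfl)
  have hW : Subsingleton ((localCohomology (Ideal.span {b}) 1).obj ((localCohomology a i).obj S.X₂)) := by
    rcases Nat.eq_zero_or_pos i with rfl | hi
    · exact subsingleton_one_H0_of_injective a (Ideal.span {b}) (Injective.under M)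
    · have := hEa i hi
      exact subsingleton_of_subsingleton _ 1 _
  have hbij : Function.Bijective ((localCohomology (Ideal.span {b}) 1).map g).hom :=
    map_bijective_of_cover (Ideal.span {b}) (subsingleton_two_span_singleton b)
      ((localCohomology a i).map S.g) g
      (fun x => exact₁ a hS i (i + 1) rfl x (@Subsingleton.elim _ (hEa _ (by omega)) _ _))
      (fun w => δ_map_eq_zero a hS i (i + 1) rfl w)
      (fun x hx => exact₃ a hS i (i + 1) rfl x hx) hW
  exact ⟨(e1.symm.trans e2).trans (LinearEquiv.ofBijective _ hbij)⟩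

theorem P_all (i : ℕ) : P a b i := by
  induction i with
  | zero => exact P_zero a b
  | succ i ih => exact P_succ a b i ih

end Groth.Agent.Lib.Helper58.CmpSeq
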