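import Mathlib

/-!
# Scaling automorphisms of a polynomial ring and homogeneity of stable ideals
-/

set_option autoImplicit false
universe u

namespace Groth.Agent.Lib.Helper58.ConeCM

open MvPolynomial

variable {K : Type u} [Field K] {N : ℕ}

/-- The scaling endomorphism `x_i ↦ t x_i`. -/
noncomputable def scale (t : K) : MvPolynomial (Fin N) K →ₐ[K] MvPolynomial (Fin N) K :=
  aeval (fun i => C t * X i)

theorem scale_monomial (t : K) (m : Fin N →₀ ℕ) (c : K) :
    scale t (monomial m c) = (monomial m (c * t ^ m.degree) : MvPolynomial (Fin N) K) := by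
  unfold scale
  rw [aeval_monomial, monomial_eq, Finsupp.prod_fintype _ _ (fun i => pow_zero _),
    Finsupp.prod_fintype _ _ (fun i => pow_zero _), Finsupp.degree_eq_sum,
    ← Finset.prod_pow_eq_pow_sum]
  simp only [mul_pow, Finset.prod_mul_distrib, algebraMap_eq, map_mul, map_prod, map_pow]
  ring

theorem coeff_scale (t : K) (f : MvPolynomial (Fin N) K) (m : Fin N →₀ ℕ) :
    coeff m (scale t f) = coeff m f * t ^ m.degree := by
  classical
  conv_lhs => rw [f.as_sum]
  rw [map_sum, coeff_sum]
  simp only [scale_monomial, coeff_monomial]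
  rw [Finset.sum_ite_eq']
  split_ifs with h
  · rfl
  · rw [notMem_support_iff.mp h, zero_mul]

theorem scale_of_isHomogeneous {f : MvPolynomial (Fin N) K} {k : ℕ} (hf : f.IsHomogeneous k)
    (t : K) : scale t f = C (t ^ k) * f := by
  ext m
  rw [coeff_scale, coeff_C_mul]
  by_cases h : coeff m f = 0
  · rw [h, zero_mul, mul_zero]
  · have : m.degree = k := by
      have := hf h
      rwa [Finsupp.degree_eq_weight_one] 
    rw [this, mul_comm]

theorem scale_scale (s t : K) (f : MvPolynomial (Fin N) K) :
    scale s (scale t f) = scale (s * t) f := by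
  ext m
  rw [coeff_scale, coeff_scale, coeff_scale, mul_pow]
  ring

theorem scale_one (f : MvPolynomial (Fin N) K) : scale 1 f = f := by
  ext m
  rw [coeff_scale, one_pow, mul_one]

/-- The scaling automorphism for a unit `t`. -/
noncomputable def scaleEquiv (t : Kˣ) : MvPolynomial (Fin N) K ≃ₐ[K] MvPolynomial (Fin N) K :=
  AlgEquiv.ofAlgHom (scale (t : K)) (scale ((t⁻¹ : Kˣ) : K))
    (by ext1 i; simp [scale_scale, scale_one])
    (by ext1 i; simp [scale_scale, scale_one])

@[simp] theorem scaleEquiv_apply (t : Kˣ) (f : MvPolynomial (Fin N) K) :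
    scaleEquiv t f = scale (t : K) f := rfl

theorem scale_eq_sum (t : K) (f : MvPolynomial (Fin N) K) :
    scale t f = ∑ k ∈ Finset.range (f.totalDegree + 1), C (t ^ k) * homogeneousComponent k f := by
  conv_lhs => rw [← sum_homogeneousComponent f]
  rw [map_sum]
  refine Finset.sum_congr rfl fun k _ => ?_
  exact scale_of_isHomogeneous (homogeneousComponent_isHomogeneous k f) t

theorem exists_injective_units [Infinite K] (n : ℕ) : ∃ t : Fin n → Kˣ, Function.Injective t := by
  classical
  haveI : Infinite Kˣ := by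
    have : Infinite {x : K // x ≠ 0} := by
      have : ({0}ᶜ : Set K).Infinite := (Set.finite_singleton (0 : K)).infinite_compl
      exact this.to_subtype
    exact Infinite.of_injective (fun x : {x : K // x ≠ 0} => Units.mk0 x.1 x.2) (by
      intro x y h
      have := congrArg Units.val h
      exact Subtype.ext (by simpa using this))
  exact ⟨fun i => Infinite.natEmbedding Kˣ i, fun i j h =>
    Fin.ext ((Infinite.natEmbedding Kˣ).injective h)⟩

/-- An ideal stable under all scalings `x_i ↦ t x_i` is homogeneous. -/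
theorem homogeneousComponent_mem [Infinite K] (J : Ideal (MvPolynomial (Fin N) K))
    (hJ : ∀ (t : Kˣ) (f : MvPolynomial (Fin N) K), f ∈ J → scale (t : K) f ∈ J)
    {f : MvPolynomial (Fin N) K} (hf : f ∈ J) (k : ℕ) : homogeneousComponent k f ∈ J := by
  classical
  by_cases hk : f.totalDegree < k
  · rw [homogeneousComponent_eq_zero _ _ hk]; exact J.zero_mem
  push Not at hk
  set D := f.totalDegree with hD
  obtain ⟨t, ht⟩ := exists_injective_units (K := K) (D + 1)
  let V : Matrix (Fin (D + 1)) (Fin (D + 1)) K := Matrix.vandermonde (fun j => ((t j : Kˣ) : K))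
  have hdet : V.det ≠ 0 := by
    rw [Matrix.det_vandermonde_ne_zero_iff]
    intro i j h
    exact ht (Units.ext h)
  have hV : V⁻¹ * V = 1 := Matrix.nonsing_inv_mul V (isUnit_iff_ne_zero.2 hdet)
  let k' : Fin (D + 1) := ⟨k, Nat.lt_succ_of_le hk⟩
  have key : ∑ j, C (V⁻¹ k' j) * scale ((t j : Kˣ) : K) f = homogeneousComponent k f := by
    have h1 : ∀ j, C (V⁻¹ k' j) * scale ((t j : Kˣ) : K) f =
        ∑ l : Fin (D + 1), C (V⁻¹ k' j * V j l) * homogeneousComponent (l : ℕ) f := by
      intro j
      rw [scale_eq_sum, Finset.mul_sum, ← Fin.sum_univ_eq_sum_range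
        (fun l => C (V⁻¹ k' j) * (C (((t j : Kˣ) : K) ^ l) * homogeneousComponent l f))]
      refine Finset.sum_congr rfl fun l _ => ?_
      rw [← mul_assoc, ← C_mul]
      rfl
    simp_rw [h1]
    rw [Finset.sum_comm]
    simp_rw [← Finset.sum_mul, ← map_sum]
    have h2 : ∀ l : Fin (D + 1), ∑ j, V⁻¹ k' j * V j l = (1 : Matrix _ _ K) k' l := by
      intro l
      rw [← hV, Matrix.mul_apply]
    simp_rw [h2, Matrix.one_apply]
    rw [Finset.sum_eq_single k']
    · simp [k']
    · intro l _ hl
      rw [if_neg (Ne.symm hl), map_zero, zero_mul]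
    · intro h; exact absurd (Finset.mem_univ _) h
  rw [← key]
  exact J.sum_mem fun j _ => J.mul_mem_left _ (hJ (t j) f hf)


end Groth.Agent.Lib.Helper58.ConeCM
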