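import Groth.Agent.Lib.Helper58.ConeCM1
import Groth.Agent.Lib.Helper49.StalkLoc
import Groth.Agent.S9152

/-!
# A cone is Cohen–Macaulay iff it is so at its vertex
-/

set_option autoImplicit false
universe u
namespace Groth.Agent.Lib.Helper58.ConeCM
open MvPolynomial PrimeSpectrum

section general

variable {A : Type u} [CommRing A]

/-- A ring automorphism induces isomorphisms of local rings. -/
noncomputable def locEquiv (e : A ≃+* A) (q : Ideal A) [q.IsPrime] :
    Localization.AtPrime (q.comap (e : A →+* A)) ≃+* Localization.AtPrime q :=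
  IsLocalization.ringEquivOfRingEquiv (M := (q.comap (e : A →+* A)).primeCompl)
    (T := q.primeCompl) (Localization.AtPrime (q.comap (e : A →+* A))) (Localization.AtPrime q) e
    (by
      ext y
      constructor
      · rintro ⟨x, hx, rfl⟩
        exact hx
      · intro hy
        refine ⟨e.symm y, ?_, by simp⟩
        show e.symm y ∉ q.comap (e : A →+* A)
        rw [Ideal.mem_comap]
        simpa using hy)

end general


section main

variable {K : Type u} [Field K] {N : ℕ} (I : Ideal (MvPolynomial (Fin N) K))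

theorem scale_mem_of_span
    (hI : ∃ T : Set (MvPolynomial (Fin N) K), (∀ f ∈ T, ∃ k : ℕ, f.IsHomogeneous k) ∧ I = Ideal.span T)
    (t : K) {f : MvPolynomial (Fin N) K} (hf : f ∈ I) : scale t f ∈ I := by
  obtain ⟨T, hT, rfl⟩ := hI
  have : Ideal.span T ≤ (Ideal.span T).comap (scale (N := N) t).toRingHom := by
    rw [Ideal.span_le]
    intro g hg
    obtain ⟨k, hk⟩ := hT g hg
    show scale t g ∈ Ideal.span T
    rw [scale_of_isHomogeneous hk]
    exact Ideal.mul_mem_left _ _ (Ideal.subset_span hg)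
  exact this hf

theorem map_scaleEquiv_eq
    (hI : ∃ T : Set (MvPolynomial (Fin N) K), (∀ f ∈ T, ∃ k : ℕ, f.IsHomogeneous k) ∧ I = Ideal.span T)
    (t : Kˣ) : I = I.map ((scaleEquiv t : MvPolynomial (Fin N) K ≃ₐ[K] _).toRingEquiv :
      MvPolynomial (Fin N) K →+* MvPolynomial (Fin N) K) := by
  apply le_antisymm
  · intro f hf
    have h1 : scale ((t⁻¹ : Kˣ) : K) f ∈ I := scale_mem_of_span I hI _ hf
    have h2 := Ideal.mem_map_of_mem ((scaleEquiv t : MvPolynomial (Fin N) K ≃ₐ[K] _).toRingEquiv :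
      MvPolynomial (Fin N) K →+* MvPolynomial (Fin N) K) h1
    have h3 : ((scaleEquiv t : MvPolynomial (Fin N) K ≃ₐ[K] _).toRingEquiv :
      MvPolynomial (Fin N) K →+* MvPolynomial (Fin N) K) (scale ((t⁻¹ : Kˣ) : K) f) = f := by
      show scale (t : K) (scale ((t⁻¹ : Kˣ) : K) f) = f
      rw [scale_scale]
      simp [scale_one]
    rwa [h3] at h2
  · rw [Ideal.map_le_iff_le_comap]
    intro f hf
    exact scale_mem_of_span I hI _ hf

/-- The automorphism of the cone induced by scaling. -/
noncomputable def quotEquiv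
    (hI : ∃ T : Set (MvPolynomial (Fin N) K), (∀ f ∈ T, ∃ k : ℕ, f.IsHomogeneous k) ∧ I = Ideal.span T)
    (t : Kˣ) : (MvPolynomial (Fin N) K ⧸ I) ≃+* (MvPolynomial (Fin N) K ⧸ I) :=
  Ideal.quotientEquiv I I (scaleEquiv t : MvPolynomial (Fin N) K ≃ₐ[K] _).toRingEquiv
    (map_scaleEquiv_eq I hI t)

theorem quotEquiv_mk
    (hI : ∃ T : Set (MvPolynomial (Fin N) K), (∀ f ∈ T, ∃ k : ℕ, f.IsHomogeneous k) ∧ I = Ideal.span T)
    (t : Kˣ) (f : MvPolynomial (Fin N) K) :
    quotEquiv I hI t (Ideal.Quotient.mk I f) = Ideal.Quotient.mk I (scale (t : K) f) := rfl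

set_option maxHeartbeats 400000 in
theorem isCohenMacaulayRing_of_vertex [Infinite K]
    (hI : ∃ T : Set (MvPolynomial (Fin N) K), (∀ f ∈ T, ∃ k : ℕ, f.IsHomogeneous k) ∧ I = Ideal.span T)
    [hm : ((RingHom.ker (MvPolynomial.constantCoeff : MvPolynomial (Fin N) K →+* K)).map
      (Ideal.Quotient.mk I)).IsPrime]
    (hv : LocCoh.IsCohenMacaulayLocalRing (Localization.AtPrime
        ((RingHom.ker (MvPolynomial.constantCoeff : MvPolynomial (Fin N) K →+* K)).map
          (Ideal.Quotient.mk I)))) :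
    LocCoh.IsCohenMacaulayRing (MvPolynomial (Fin N) K ⧸ I) := by
  classical
  have hopen := Groth.Agent.S9152.result K (MvPolynomial (Fin N) K ⧸ I)
  set U : Set (PrimeSpectrum (MvPolynomial (Fin N) K ⧸ I)) :=
    {q | LocCoh.IsCohenMacaulayLocalRing (Localization.AtPrime q.asIdeal)} with hU
  have hZc : IsClosed Uᶜ := hopen.isClosed_compl
  set J := vanishingIdeal Uᶜ with hJ
  have hzJ : zeroLocus (J : Set (MvPolynomial (Fin N) K ⧸ I)) = Uᶜ := by
    rw [hJ, zeroLocus_vanishingIdeal_eq_closure, hZc.closure_eq]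
  -- stability of `J`
  have hstab : ∀ (t : Kˣ) (a : MvPolynomial (Fin N) K ⧸ I), a ∈ J → quotEquiv I hI t a ∈ J := by
    intro t a ha
    rw [hJ, mem_vanishingIdeal] at ha ⊢
    intro q hq
    haveI := q.2
    have hq' : (⟨q.asIdeal.comap (quotEquiv I hI t : _ →+* _), inferInstance⟩ :
        PrimeSpectrum (MvPolynomial (Fin N) K ⧸ I)) ∈ Uᶜ := by
      intro hcm
      exact hq (Groth.Agent.Lib.Helper49.StalkLoc.isCohenMacaulayLocalRing_of_ringEquiv
        (locEquiv (quotEquiv I hI t) q.asIdeal) hcm)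
    exact ha _ hq'
  set J' := J.comap (Ideal.Quotient.mk I) with hJ'
  have hstab' : ∀ (t : Kˣ) (f : MvPolynomial (Fin N) K), f ∈ J' → scale (t : K) f ∈ J' := by
    intro t f hf
    rw [hJ', Ideal.mem_comap] at hf ⊢
    rw [← quotEquiv_mk I hI t f]
    exact hstab t _ hf
  have hUuniv : U = Set.univ := by
    by_cases h0 : ∃ f ∈ J', constantCoeff f ≠ 0
    · obtain ⟨f, hf, hc⟩ := h0
      have h1 := homogeneousComponent_mem J' hstab' hf 0
      rw [homogeneousComponent_zero] at h1
      have h2 : J' = ⊤ := by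
        apply Ideal.eq_top_of_isUnit_mem _ h1
        exact (isUnit_iff_ne_zero.2 hc).map C
      have h3 : J = ⊤ := by
        rw [Ideal.eq_top_iff_one]
        have : (1 : MvPolynomial (Fin N) K) ∈ J' := by rw [h2]; exact Submodule.mem_top
        rw [hJ', Ideal.mem_comap, map_one] at this
        exact this
      rw [h3] at hzJ
      have : Uᶜ = ∅ := by rw [← hzJ]; exact zeroLocus_empty_of_one_mem (by simp)
      exact Set.compl_empty_iff.1 this
    · exfalso
      push Not at h0
      have hle : J' ≤ RingHom.ker (constantCoeff : MvPolynomial (Fin N) K →+* K) := fun f hf =>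
        (RingHom.mem_ker).2 (h0 f hf)
      have hJle : J ≤ (RingHom.ker (constantCoeff : MvPolynomial (Fin N) K →+* K)).map
          (Ideal.Quotient.mk I) := by
        rw [← Ideal.map_comap_of_surjective (Ideal.Quotient.mk I) Ideal.Quotient.mk_surjective J]
        exact Ideal.map_mono hle
      have hmem : (⟨_, hm⟩ : PrimeSpectrum (MvPolynomial (Fin N) K ⧸ I)) ∈
          zeroLocus (J : Set (MvPolynomial (Fin N) K ⧸ I)) := by
        rw [mem_zeroLocus]
        exact hJle
      rw [hzJ] at hmem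
      exact hmem hv
  refine { isCohenMacaulayLocalRing_localization := fun p hp => ?_ }
  have : (⟨p, hp⟩ : PrimeSpectrum (MvPolynomial (Fin N) K ⧸ I)) ∈ U := by
    rw [hUuniv]; exact Set.mem_univ _
  exact this

end main

end Groth.Agent.Lib.Helper58.ConeCM
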