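import Groth.Agent.Lib.Helper58.Conn9
import Groth.Agent.Lib.Helper58.Conn7

/-!
# Connectedness of `V(I) ∖ Z` in a complete local ring via cohomological dimension, II (helper58)
-/

set_option autoImplicit false
universe u
open IsLocalRing PrimeSpectrum

namespace Groth.Agent.Lib.Helper58.Conn

theorem add_one_le_of_lt' {a b : WithBot ℕ∞} (h : a < b) : a + 1 ≤ b := by
  induction a with
  | bot => simp
  | coe x =>
    induction b with
    | bot => exact absurd h (by simp)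
    | coe y =>
      have h1 : x < y := by exact_mod_cast h
      have h2 := Order.add_one_le_of_lt h1
      exact_mod_cast h2

section main

variable (R : Type u) [CommRing R] [IsNoetherianRing R] [IsLocalRing R]

theorem connDim_lt_add_one :
    LocCoh.connDim (PrimeSpectrum R) < LocCoh.connDim (PrimeSpectrum R) + 1 := by
  have h0 := connDim_nonneg R
  have hfin : topologicalKrullDim (PrimeSpectrum R) < ⊤ := by
    rw [PrimeSpectrum.topologicalKrullDim_eq_ringKrullDim]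
    exact ringKrullDim_lt_top
  have h1 := (connDim_facts R).1
  have htop : LocCoh.connDim (PrimeSpectrum R) < ⊤ := by
    refine lt_of_le_of_lt h1 (lt_of_le_of_lt ?_ hfin)
    obtain ⟨p, hp⟩ := Ideal.exists_minimalPrimes_le (I := (⊥ : Ideal R))
      (J := maximalIdeal R) bot_le
    refine (subdim_le_of_mem_minimalPrimes hp.1).trans ?_
    rw [PrimeSpectrum.topologicalKrullDim_eq_ringKrullDim]
    exact ringKrullDim_quotient_le p
  generalize LocCoh.connDim (PrimeSpectrum R) = c at h0 htop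
  induction c with
  | bot => exact absurd h0 (by simp)
  | coe c =>
    induction c with
    | top => exact absurd htop (lt_irrefl _)
    | coe n => exact_mod_cast Nat.lt_succ_self n

theorem exists_minimalPrime_dq_le_of_subdim_le (N : WithBot ℕ∞)
    (h : LocCoh.subdim (PrimeSpectrum R) ≤ N) :
    ∃ p ∈ minimalPrimes R, ringKrullDim (R ⧸ p) ≤ N := by
  let ι := {Y : Set (PrimeSpectrum R) // Y ∈ irreducibleComponents (PrimeSpectrum R)}
  haveI : Nonempty ι := ⟨⟨irreducibleComponent (closedPoint R),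
    irreducibleComponent_mem_irreducibleComponents _⟩⟩
  let g : ι → WithBot ℕ∞ := fun x => topologicalKrullDim ↥x.1
  have heq : LocCoh.subdim (PrimeSpectrum R) = ⨅ x : ι, g x := by
    unfold LocCoh.subdim
    apply le_antisymm
    · exact le_iInf fun x => iInf_le_of_le x.1 (iInf_le_of_le x.2 le_rfl)
    · exact le_iInf fun Y => le_iInf fun hY => iInf_le g ⟨Y, hY⟩
  obtain ⟨⟨Y, hY⟩, hx⟩ := ciInf_mem g
  have hxc := hY
  rw [← zeroLocus_minimalPrimes] at hxc
  obtain ⟨p, hp, hpeq⟩ := hxc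
  refine ⟨p, hp, ?_⟩
  have h1 : g ⟨Y, hY⟩ = ringKrullDim (R ⧸ p) := by
    show topologicalKrullDim ↥Y = _
    rw [← hpeq]
    exact topologicalKrullDim_zeroLocus p
  rw [← h1, hx, ← heq]
  exact h

variable [IsAdicComplete (maximalIdeal R) R]

set_option maxHeartbeats 800000 in
theorem s0815 (hHL : HLHyp.{u}) (I : Ideal R) (hI : I ≠ ⊤) (e : ℕ) (he : LocCoh.CdLE R I e)
    (Z : Set (PrimeSpectrum R)) (hZ : IsClosed Z) (hZI : Z ⊆ zeroLocus (I : Set R))
    (hdim : ∀ p ∈ minimalPrimes R,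
      topologicalKrullDim Z + ((e + 1 : ℕ) : WithBot ℕ∞) < ringKrullDim (R ⧸ p))
    (hc : ∀ Z' : Set (PrimeSpectrum R), IsClosed Z' → ¬ IsConnected Z'ᶜ →
      topologicalKrullDim Z + ((e : ℕ) : WithBot ℕ∞) < topologicalKrullDim Z') :
    IsConnected (zeroLocus (I : Set R) \ Z) := by
  generalize hδ : topologicalKrullDim Z = δ at hdim hc
  -- (A)
  have hA : ∀ p ∈ I.minimalPrimes, δ + 1 < ringKrullDim (R ⧸ p) := by
    intro p hp
    haveI hpp : p.IsPrime := hp.1.1
    obtain ⟨q, hq, hqp⟩ := Ideal.exists_minimalPrimes_le (I := (⊥ : Ideal R)) (J := p) bot_le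
    haveI hqq : q.IsPrime := hq.1.1
    have h1 := dq_le_dq_add_of_cdLE he hp hqp
    have h2 := hdim q hq
    obtain ⟨ep, hep⟩ := exists_nat_dq hpp.ne_top
    rw [hep] at h1 ⊢
    have h3 := lt_of_lt_of_le h2 h1
    clear hδ hdim hc h2 h1
    induction δ with
    | bot => simp
    | coe c =>
      induction c with
      | top =>
        exfalso
        have h4 : (⊤ : ℕ∞) + ((e + 1 : ℕ) : ℕ∞) < ((ep + e : ℕ) : ℕ∞) := by exact_mod_cast h3
        rw [top_add] at h4
        exact not_top_lt h4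
      | coe n =>
        have h4 : n + (e + 1) < ep + e := by exact_mod_cast h3
        have h5 : n + 1 < ep := by omega
        exact_mod_cast h5
  -- (B)
  have hB : ∀ (Y : Set (PrimeSpectrum R)), IsClosed Y → ∀ x ∈ Y,
      ringKrullDim (R ⧸ x.asIdeal) ≤ topologicalKrullDim Y := by
    intro Y hY x hx
    obtain ⟨J, rfl⟩ := (isClosed_iff_zeroLocus_ideal Y).1 hY
    rw [topologicalKrullDim_zeroLocus]
    exact dq_mono (SetLike.coe_subset_coe.1 ((mem_zeroLocus _ _).1 hx))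
  have hδle : δ ≤ δ + 1 := le_add_of_nonneg_right zero_le_one
  have hne : (zeroLocus (I : Set R) \ Z).Nonempty := by
    by_contra hcon
    rw [Set.not_nonempty_iff_eq_empty, Set.sdiff_eq_empty] at hcon
    obtain ⟨⟨p, hp⟩⟩ := Ideal.nonempty_minimalPrimes hI
    haveI := hp.1.1
    have hmem : (⟨p, hp.1.1⟩ : PrimeSpectrum R) ∈ Z :=
      hcon ((mem_zeroLocus _ _).2 (SetLike.coe_subset_coe.2 hp.1.2))
    have h1 := hB Z hZ _ hmem
    rw [hδ] at h1
    have h2 := hA p hp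
    exact absurd (lt_of_lt_of_le h2 h1) (not_lt_of_ge hδle)
  refine ⟨hne, ?_⟩
  rw [isPreconnected_closed_iff]
  intro C₁ C₂ hC₁ hC₂ hcov hn₁ hn₂
  by_contra hempty
  obtain ⟨w₁, hw₁W, hw₁C⟩ := hn₁
  obtain ⟨w₂, hw₂W, hw₂C⟩ := hn₂
  set Y₁ : Set (PrimeSpectrum R) := (zeroLocus (I : Set R) ∩ C₁) ∪ Z with hY₁
  set Y₂ : Set (PrimeSpectrum R) := (zeroLocus (I : Set R) ∩ C₂) ∪ Z with hY₂
  have hY₁c : IsClosed Y₁ := ((isClosed_zeroLocus _).inter hC₁).union hZ
  have hY₂c : IsClosed Y₂ := ((isClosed_zeroLocus _).inter hC₂).union hZ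
  have hU : Y₁ ∪ Y₂ = zeroLocus (I : Set R) := by
    ext x
    constructor
    · rintro ((⟨hx, -⟩ | hx) | (⟨hx, -⟩ | hx))
      exacts [hx, hZI hx, hx, hZI hx]
    · intro hx
      by_cases hxZ : x ∈ Z
      · exact Or.inl (Or.inr hxZ)
      · rcases hcov ⟨hx, hxZ⟩ with h | h
        · exact Or.inl (Or.inl ⟨hx, h⟩)
        · exact Or.inr (Or.inl ⟨hx, h⟩)
  have hInt : Y₁ ∩ Y₂ = Z := by
    ext x
    constructor
    · rintro ⟨h1, h2⟩
      by_contra hxZ
      rcases h1 with ⟨hxI, hx1⟩ | h1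
      · rcases h2 with ⟨_, hx2⟩ | h2
        · exact hempty ⟨x, ⟨hxI, hxZ⟩, hx1, hx2⟩
        · exact hxZ h2
      · exact hxZ h1
    · intro hx
      exact ⟨Or.inr hx, Or.inr hx⟩
  have hside : ∀ (w : PrimeSpectrum R), w ∈ zeroLocus (I : Set R) →
      ∀ (Y Y' : Set (PrimeSpectrum R)), IsClosed Y' → Y ∪ Y' = zeroLocus (I : Set R) → w ∉ Y' →
      δ < ringKrullDim (R ⧸ vanishingIdeal Y) ∧ vanishingIdeal Y ≠ ⊤ := by
    intro w hwI Y Y' hY'c hUU hwY'
    obtain ⟨p, hp, hpw⟩ := Ideal.exists_minimalPrimes_le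
      (SetLike.coe_subset_coe.1 ((mem_zeroLocus _ _).1 hwI))
    haveI hpp : p.IsPrime := hp.1.1
    have hPI : (⟨p, hpp⟩ : PrimeSpectrum R) ∈ zeroLocus (I : Set R) :=
      (mem_zeroLocus _ _).2 (SetLike.coe_subset_coe.2 hp.1.2)
    rw [← hUU] at hPI
    have hPY : (⟨p, hpp⟩ : PrimeSpectrum R) ∈ Y := by
      rcases hPI with h | h
      · exact h
      · exfalso
        apply hwY'
        obtain ⟨J, rfl⟩ := (isClosed_iff_zeroLocus_ideal Y').1 hY'c
        rw [mem_zeroLocus] at h ⊢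
        exact h.trans (SetLike.coe_subset_coe.2 hpw)
    have hle : vanishingIdeal Y ≤ p := fun f hf => (mem_vanishingIdeal _ _).1 hf ⟨p, hpp⟩ hPY
    refine ⟨lt_of_le_of_lt hδle (lt_of_lt_of_le (hA p hp) (dq_mono hle)), fun htop => ?_⟩
    rw [htop] at hle
    exact hpp.ne_top (top_le_iff.1 hle)
  have hw₁Y₂ : w₁ ∉ Y₂ := by
    rintro (⟨-, h⟩ | h)
    · exact hempty ⟨w₁, hw₁W, hw₁C, h⟩
    · exact hw₁W.2 h
  have hw₂Y₁ : w₂ ∉ Y₁ := by
    rintro (⟨-, h⟩ | h)
    · exact hempty ⟨w₂, hw₂W, h, hw₂C⟩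
    · exact hw₂W.2 h
  obtain ⟨h1, ha'ne⟩ := hside w₁ hw₁W.1 Y₁ Y₂ hY₂c hU hw₁Y₂
  obtain ⟨h2, hb'ne⟩ := hside w₂ hw₂W.1 Y₂ Y₁ hY₁c (by rw [Set.union_comm]; exact hU) hw₂Y₁
  set a' := vanishingIdeal Y₁ with ha'
  set b' := vanishingIdeal Y₂ with hb'
  have hza : zeroLocus (a' : Set R) = Y₁ := by
    rw [ha', zeroLocus_vanishingIdeal_eq_closure, hY₁c.closure_eq]
  have hzb : zeroLocus (b' : Set R) = Y₂ := by
    rw [hb', zeroLocus_vanishingIdeal_eq_closure, hY₂c.closure_eq]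
  have hrad : (a' ⊓ b').radical = I.radical := by
    rw [ha', hb', ← vanishingIdeal_union, hU, vanishingIdeal_zeroLocus_eq_radical,
      Ideal.radical_idem]
  have hk : LocCoh.CdLE R (a' ⊓ b') e := cdLE_of_radical_eq hrad.symm he
  have hsup : ringKrullDim (R ⧸ (a' ⊔ b')) = δ := by
    rw [← topologicalKrullDim_zeroLocus, zeroLocus_sup, hza, hzb, hInt, hδ]
  have hmain := s11669_of_HL R hHL a' b' ha'ne hb'ne (by rw [hsup]; exact lt_min h1 h2) e hk
  rw [hsup] at hmain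
  rcases min_le_iff.1 hmain with hcase | hcase
  · have hge : δ + (e : WithBot ℕ∞) + 1 ≤ LocCoh.connDim (PrimeSpectrum R) := by
      unfold LocCoh.connDim
      exact le_iInf₂ fun Z' hZ' => add_one_le_of_lt' (hc Z' hZ'.1 hZ'.2)
    exact absurd (lt_of_lt_of_le (connDim_lt_add_one R) (hcase.trans hge)) (lt_irrefl _)
  · obtain ⟨p, hp, hle⟩ := exists_minimalPrime_dq_le_of_subdim_le R _ hcase
    have h3 := lt_of_lt_of_le (hdim p hp) hle
    push_cast at h3
    rw [add_assoc] at h3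
    exact lt_irrefl _ h3

end main

end Groth.Agent.Lib.Helper58.Conn
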