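import Groth.Agent.Lib.Helper58.MV3

/-!
# Mayer–Vietoris for local cohomology, part 4: exactness
-/

set_option autoImplicit false
universe u
open CategoryTheory CategoryTheory.Limits Opposite CategoryTheory.Abelian

namespace Groth.Agent.Lib.Helper58.MV
open Groth.Agent.Lib.Helper41.LC

variable {R : Type u} [CommRing R] (I J : Ideal R) {M : ModuleCat.{u} R} {i : ℕ}

lemma ιp_pb {m m' : ℕ} (h : m ≤ m') (e : Ext.{u} (Qi (Fp I J m)) M i) :
    ιp I J m' (pb (Fp_anti I J h) e) = ιp I J m e :=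
  ιF_pb (hap I J) (Fp_anti I J) h e

lemma ιm_pb {m m' : ℕ} (h : m ≤ m') (e : Ext.{u} (Qi (Fm I J m)) M i) :
    ιm I J m' (pb (Fm_anti I J h) e) = ιm I J m e :=
  ιF_pb (ham I J) (Fm_anti I J) h e

lemma exists_rep_p (x : (localCohomology (I ⊔ J) i).obj M) (m₀ : ℕ) :
    ∃ (m : ℕ) (_ : m₀ ≤ m) (e : Ext.{u} (Qi (Fp I J m)) M i), ιp I J m e = x :=
  exists_rep_F (hap I J) (Fp_anti I J) (hbp I J) x m₀

lemma ιp_eq_zero {m : ℕ} {e : Ext.{u} (Qi (Fp I J m)) M i} (h : ιp I J m e = 0) :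
    ∃ (m' : ℕ) (h' : m ≤ m'), pb (Fp_anti I J h') e = 0 :=
  ιF_eq_zero (hap I J) (Fp_anti I J) (hbp I J) h

variable [IsNoetherianRing R]

lemma exists_rep_m (x : (localCohomology (I ⊓ J) i).obj M) (m₀ : ℕ) :
    ∃ (m : ℕ) (_ : m₀ ≤ m) (e : Ext.{u} (Qi (Fm I J m)) M i), ιm I J m e = x :=
  exists_rep_F (ham I J) (Fm_anti I J) (hbm I J) x m₀

lemma ιm_eq_zero {m : ℕ} {e : Ext.{u} (Qi (Fm I J m)) M i} (h : ιm I J m e = 0) :
    ∃ (m' : ℕ) (h' : m ≤ m'), pb (Fm_anti I J h') e = 0 :=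
  ιF_eq_zero (ham I J) (Fm_anti I J) (hbm I J) h

variable (M i)

/-- The pair of comparison maps `H^i_{I+J}(M) → H^i_I(M) × H^i_J(M)`. -/
noncomputable def pairMap : (localCohomology (I ⊔ J) i).obj M →ₗ[R]
    (localCohomology I i).obj M × (localCohomology J i).obj M :=
  LinearMap.prod (cmpH (le_sup_left : I ≤ I ⊔ J) i M) (cmpH (le_sup_right : J ≤ I ⊔ J) i M)

/-- The difference of comparison maps `H^i_I(M) × H^i_J(M) → H^i_{I∩J}(M)`. -/
noncomputable def diffMap : ((localCohomology I i).obj M × (localCohomology J i).obj M) →ₗ[R]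
    (localCohomology (I ⊓ J) i).obj M :=
  cmpH (inf_le_left : I ⊓ J ≤ I) i M ∘ₗ LinearMap.fst R _ _ -
    cmpH (inf_le_right : I ⊓ J ≤ J) i M ∘ₗ LinearMap.snd R _ _

variable {M i}

omit [IsNoetherianRing R] in
lemma pairMap_apply (y : (localCohomology (I ⊔ J) i).obj M) :
    pairMap I J M i y = (cmpH (le_sup_left : I ≤ I ⊔ J) i M y, cmpH (le_sup_right : J ≤ I ⊔ J) i M y) :=
  rfl

omit [IsNoetherianRing R] in
lemma diffMap_apply (x : (localCohomology I i).obj M × (localCohomology J i).obj M) :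
    diffMap I J M i x = cmpH (inf_le_left : I ⊓ J ≤ I) i M x.1 -
      cmpH (inf_le_right : I ⊓ J ≤ J) i M x.2 := rfl

omit [IsNoetherianRing R] in
/-- Representing a pair at a common level. -/
lemma exists_rep_pair (x : (localCohomology I i).obj M × (localCohomology J i).obj M) :
    ∃ (n : ℕ) (e₁ : Ext.{u} (Q I n) M i) (e₂ : Ext.{u} (Q J n) M i),
      x = (ιH I i M n e₁, ιH J i M n e₂) := by
  obtain ⟨x₁, x₂⟩ := x
  obtain ⟨n₁, e₁, rfl⟩ := exists_rep x₁
  obtain ⟨n₂, e₂, rfl⟩ := exists_rep x₂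
  refine ⟨max n₁ n₂, (Ext.mk₀ (proj I (le_max_left n₁ n₂))).comp e₁ (zero_add i),
    (Ext.mk₀ (proj J (le_max_right n₁ n₂))).comp e₂ (zero_add i), ?_⟩
  rw [ιH_comp, ιH_comp]

lemma diffMap_pair (n : ℕ) (e₁ : Ext.{u} (Q I n) M i) (e₂ : Ext.{u} (Q J n) M i) :
    diffMap I J M i (ιH I i M n e₁, ιH J i M n e₂) =
      ιm I J n (pb (inf_le_left : Fm I J n ≤ I ^ n) e₁ - pb (inf_le_right : Fm I J n ≤ J ^ n) e₂) := by
  rw [diffMap_apply, cmp_inf_left_ιH, cmp_inf_right_ιH]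
  exact (ιF_sub _ _ _ _).symm

/-- (E0) -/
theorem pairMap_injective_zero : Function.Injective (pairMap I J M 0) := by
  intro x y hxy
  have := congrArg Prod.fst hxy
  exact cmpH_injective_zero _ M this

/-- (E1) -/
theorem ker_pairMap (j : ℕ) (hij : 1 + i = j) :
    LinearMap.ker (pairMap I J M j) = LinearMap.range (δmv I J M i j hij) := by
  apply le_antisymm
  · intro y hy
    rw [LinearMap.mem_ker, pairMap_apply, Prod.mk_eq_zero] at hy
    obtain ⟨h1, h2⟩ := hy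
    obtain ⟨m, _, e', rfl⟩ := exists_rep_p I J y 0
    rw [cmp_left_ιp, ιH_eq_zero_iff] at h1
    rw [cmp_right_ιp, ιH_eq_zero_iff] at h2
    obtain ⟨k, hk, h1⟩ := h1
    obtain ⟨k', hk', h2⟩ := h2
    change pb (Ideal.pow_le_pow_right hk) (pb le_sup_left e') = 0 at h1
    change pb (Ideal.pow_le_pow_right hk') (pb le_sup_right e') = 0 at h2
    have hmN : m ≤ max k k' := hk.trans (le_max_left k k')
    have hA : pb (le_sup_left : I ^ max k k' ≤ Fp I J (max k k')) (pb (Fp_anti I J hmN) e') = 0 := by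
      have := pb_pb (M := M) (i := j) (Ideal.pow_le_pow_right (le_max_left k k') : I ^ max k k' ≤ I ^ k)
        (Ideal.pow_le_pow_right hk) (pb le_sup_left e')
      rw [h1, pb_zero, pb_pb] at this
      rw [pb_pb]
      exact this.symm
    have hB : pb (le_sup_right : J ^ max k k' ≤ Fp I J (max k k')) (pb (Fp_anti I J hmN) e') = 0 := by
      have := pb_pb (M := M) (i := j) (Ideal.pow_le_pow_right (le_max_right k k') : J ^ max k k' ≤ J ^ k')
        (Ideal.pow_le_pow_right hk') (pb le_sup_right e')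
      rw [h2, pb_zero, pb_pb] at this
      rw [pb_pb]
      exact this.symm
    obtain ⟨e₁, he₁⟩ := exists_conn_eq hij _ hA hB
    refine ⟨ιm I J (max k k') e₁, ?_⟩
    rw [δmv_ιm, he₁]
    exact ιp_pb I J hmN e'
  · rintro _ ⟨x, rfl⟩
    obtain ⟨m, _, e, rfl⟩ := exists_rep_m I J x 0
    rw [LinearMap.mem_ker, pairMap_apply, δmv_ιm, cmp_left_ιp, cmp_right_ιp, pb_left_conn,
      pb_right_conn, map_zero, map_zero]
    rfl

/-- (E2) -/
theorem ker_diffMap :
    LinearMap.ker (diffMap I J M i) = LinearMap.range (pairMap I J M i) := by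
  apply le_antisymm
  · intro x hx
    rw [LinearMap.mem_ker] at hx
    obtain ⟨n, e₁, e₂, rfl⟩ := exists_rep_pair I J x
    rw [diffMap_pair] at hx
    obtain ⟨n', hn', h0⟩ := ιm_eq_zero I J hx
    rw [pb_sub, pb_pb, pb_pb] at h0
    have h0' : pb (inf_le_left : Fm I J n' ≤ I ^ n') (pb (Ideal.pow_le_pow_right hn') e₁) =
        pb (inf_le_right : Fm I J n' ≤ J ^ n') (pb (Ideal.pow_le_pow_right hn') e₂) := by
      rw [pb_pb, pb_pb]
      exact sub_eq_zero.1 h0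
    obtain ⟨e₃, h3, h3'⟩ := exists_pb_eq _ _ h0'
    refine ⟨ιp I J n' e₃, ?_⟩
    rw [pairMap_apply, cmp_left_ιp, cmp_right_ιp, h3, h3']
    congr 1
    · exact ιH_comp hn' e₁
    · exact ιH_comp hn' e₂
  · rintro _ ⟨y, rfl⟩
    obtain ⟨m, _, e, rfl⟩ := exists_rep_p I J y 0
    rw [LinearMap.mem_ker, pairMap_apply, cmp_left_ιp, cmp_right_ιp, diffMap_pair, pb_pb, pb_pb,
      sub_self]
    exact ιF_zero _ _

/-- (E3) -/
theorem ker_δmv (j : ℕ) (hij : 1 + i = j) :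
    LinearMap.ker (δmv I J M i j hij) = LinearMap.range (diffMap I J M i) := by
  apply le_antisymm
  · intro x hx
    rw [LinearMap.mem_ker] at hx
    obtain ⟨m, _, e, rfl⟩ := exists_rep_m I J x 0
    rw [δmv_ιm] at hx
    obtain ⟨m', hm', h0⟩ := ιp_eq_zero I J hx
    have h1 := conn_pb (M := M) (Ideal.pow_le_pow_right hm' : I ^ m' ≤ I ^ m)
      (Ideal.pow_le_pow_right hm' : J ^ m' ≤ J ^ m) hij e
    have h0' : pb (sup_le_sup (Ideal.pow_le_pow_right hm' : I ^ m' ≤ I ^ m)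
      (Ideal.pow_le_pow_right hm' : J ^ m' ≤ J ^ m)) (conn (I ^ m) (J ^ m) hij e) = 0 := h0
    rw [h0'] at h1
    obtain ⟨eA, eB, hAB⟩ := exists_of_conn_eq_zero hij _ h1
    refine ⟨(ιH I i M m' eA, ιH J i M m' eB), ?_⟩
    rw [diffMap_pair, ← hAB]
    exact ιm_pb I J hm' e
  · rintro _ ⟨x, rfl⟩
    obtain ⟨n, e₁, e₂, rfl⟩ := exists_rep_pair I J x
    rw [LinearMap.mem_ker, diffMap_pair, δmv_ιm, conn_pb_sub]
    exact ιF_zero _ _

end Groth.Agent.Lib.Helper58.MV
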