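import Groth.Agent.Lib.Helper58.Conn8
import Groth.Agent.Lib.Helper58.NV9
import Groth.Agent.S0379

/-!
# Connectedness of `V(I) ∖ Z` in a complete local ring via cohomological dimension (helper58)
-/

set_option autoImplicit false
universe u
open IsLocalRing Pointwise CategoryTheory TensorProduct

namespace Groth.Agent.Lib.Helper58.NV

open Groth.Agent.Lib.Helper41.LC Groth.Agent.Lib.Helper58.LCRep

variable {R : Type u} [CommRing R]

/-- `H^h_I(R) ≠ 0` for `h` the height of a minimal prime of `I`. -/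
theorem nontrivial_of_mem_minimalPrimes [IsNoetherianRing R] (I p : Ideal R) (hpmin : p ∈ I.minimalPrimes) (h : ℕ)
    (hph : p.height = h) :
    Nontrivial ((localCohomology I h).obj (ModuleCat.of R R)) := by
  haveI hpp : p.IsPrime := hpmin.1.1
  have hfh : p.FiniteHeight := ⟨Or.inr (by rw [hph]; exact ENat.coe_ne_top h)⟩
  by_contra hcon
  rw [not_nontrivial_iff_subsingleton] at hcon
  let A := Localization.AtPrime p
  have hdim : ringKrullDim A = h := by
    rw [IsLocalization.AtPrime.ringKrullDim_eq_height p A, hph]; rfl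
  have hrad := radical_map_localization_of_mem_minimalPrimes I p hpmin
  have hnt := nontrivial_top_of_radical A h hdim _ hrad
  obtain ⟨φ⟩ := Groth.Agent.Lib.Helper58.FlatBC4.nonempty_equiv (R := R) (R' := A) I h R
  have h1 : Subsingleton (A ⊗[R] ((localCohomology I h).obj (ModuleCat.of R R))) :=
    subsingleton_tensor_right _ _
  have h2 : Subsingleton ((localCohomology (I.map (algebraMap R A)) h).obj
      (ModuleCat.of A (A ⊗[R] R))) := φ.symm.toEquiv.subsingleton
  let ψ : (A ⊗[R] R) ≃ₗ[A] A := TensorProduct.AlgebraTensorModule.rid R A A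
  have h3 : Subsingleton ((localCohomology (I.map (algebraMap R A)) h).obj (ModuleCat.of A A)) :=
    (((localCohomology (I.map (algebraMap R A)) h).mapIso
      ψ.toModuleIso).toLinearEquiv.symm.toEquiv).subsingleton
  exact not_subsingleton _ h3

end Groth.Agent.Lib.Helper58.NV

namespace Groth.Agent.Lib.Helper58.Conn

open PrimeSpectrum

section

variable {R : Type u} [CommRing R] [IsNoetherianRing R] [IsLocalRing R]
  [IsAdicComplete (maximalIdeal R) R]

set_option maxHeartbeats 400000 in
/-- `dim R/q ≤ dim R/p + cd(I)` for `p` minimal over `I` and `q ⊆ p` prime. -/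
theorem dq_le_dq_add_of_cdLE {I : Ideal R} {e : ℕ} (he : LocCoh.CdLE R I e) {p q : Ideal R}
    (hp : p ∈ I.minimalPrimes) [hq : q.IsPrime] (hqp : q ≤ p) :
    ringKrullDim (R ⧸ q) ≤ ringKrullDim (R ⧸ p) + (e : WithBot ℕ∞) := by
  haveI hpp : p.IsPrime := hp.1.1
  obtain ⟨eq, heq⟩ := exists_nat_dq hq.ne_top
  obtain ⟨ep, hep⟩ := exists_nat_dq hpp.ne_top
  have hker : RingHom.ker (Ideal.Quotient.mk q) ≤ p := by rw [Ideal.mk_ker]; exact hqp
  haveI hp'p : (p.map (Ideal.Quotient.mk q)).IsPrime :=
    Ideal.map_isPrime_of_surjective Ideal.Quotient.mk_surjective hker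
  obtain ⟨k, hk⟩ := ENat.ne_top_iff_exists.1
    (Ideal.height_ne_top_of_isPrime (I := p.map (Ideal.Quotient.mk q)))
  have hdim := Groth.Agent.Lib.Helper2.HLVT.dim_quotient_eq_add_height_of_complete R q p hqp
    eq ep k heq hep hk.symm
  have hke : k ≤ e := by
    by_contra hlt
    push Not at hlt
    have hPsp : p ∈ (I ⊔ q).minimalPrimes := by
      refine ⟨⟨hpp, sup_le hp.1.2 hqp⟩, ?_⟩
      rintro Q ⟨hQ, hQle⟩ hQP
      exact hp.2 ⟨hQ, le_sup_left.trans hQle⟩ hQP
    have hmin : p.map (Ideal.Quotient.mk q) ∈ (I.map (Ideal.Quotient.mk q)).minimalPrimes := by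
      rw [Ideal.minimalPrimes_map_of_surjective Ideal.Quotient.mk_surjective, Ideal.mk_ker]
      exact ⟨p, hPsp, rfl⟩
    have hnt := NV.nontrivial_of_mem_minimalPrimes (I.map (Ideal.Quotient.mk q)) _ hmin k hk.symm
    have hcd := (Groth.Agent.S0379.result R (R ⧸ q) I e).1 he
    have hss : Subsingleton (LocCoh.H (I.map (Ideal.Quotient.mk q)) k (R ⧸ q)) :=
      hcd (R ⧸ q) k hlt
    exact not_subsingleton _ hss
  rw [heq, hep, hdim]
  have : ep + k ≤ ep + e := by omega
  exact_mod_cast this

end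

end Groth.Agent.Lib.Helper58.Conn
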