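import Groth.Agent.Lib.Helper58.SpectralLimit
import Groth.Agent.Lib.Helper58.Constructible

/-!
Subsets of spectral spaces which are closed for the constructible topology (helper58).
-/

set_option autoImplicit false
universe u

open Topology TopologicalSpace Set

namespace Groth.Agent.Lib.Helper58

variable {X : Type u} [TopologicalSpace X]

/-- Constructible sets of a compact space are clopen for the constructible topology. -/
theorem isClopen_constructibleTopology_of_isConstructible [CompactSpace X] {s : Set X}
    (hs : IsConstructible s) :
    IsClosed[constructibleTopology X] s ∧ IsOpen[constructibleTopology X] s := by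
  induction hs using IsConstructible.empty_union_induction with
  | open_retrocompact U hUo hUr =>
    exact ⟨isClosed_constructibleTopology_of_isCompact_isOpen hUo hUr.isCompact,
      hUr.isCompact.isOpen_constructibleTopology_of_isOpen hUo⟩
  | union s hs t ht hs' ht' =>
    exact ⟨@IsClosed.union _ _ _ (constructibleTopology X) hs'.1 ht'.1,
      @IsOpen.union _ _ _ (constructibleTopology X) hs'.2 ht'.2⟩
  | compl s hs hs' =>
    exact ⟨(@isClosed_compl_iff _ (constructibleTopology X) _).mpr hs'.2,
      (@isOpen_compl_iff _ _ (constructibleTopology X)).mpr hs'.1⟩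

/-- Subsets closed for the constructible topology of a spectral space are compact. -/
theorem isCompact_of_isClosed_constructibleTopology [SpectralSpace X] {s : Set X}
    (hs : IsClosed[constructibleTopology X] s) : IsCompact s :=
  isCompact_of_le constructibleTopology_le
    (@IsClosed.isCompact _ (constructibleTopology X) _ compactSpace_constructibleTopology hs)

/-- Stacks 0902: a subset of a spectral space which is closed for the constructible topology is
a spectral space for the induced topology. -/
theorem spectralSpace_of_isClosed_constructibleTopology [SpectralSpace X] {E : Set X}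
    (hE : IsClosed[constructibleTopology X] E) : SpectralSpace E := by
  have hEU : ∀ U : Set X, IsOpen U → IsCompact U → IsCompact (E ∩ U) := fun U hUo hUc =>
    isCompact_of_isClosed_constructibleTopology
      (@IsClosed.inter _ _ _ (constructibleTopology X) hE
        (isClosed_constructibleTopology_of_isCompact_isOpen hUo hUc))
  have hspec : IsSpectralMap (Subtype.val : E → X) :=
    ⟨continuous_subtype_val, fun U hUo hUc => by
      rw [IsEmbedding.subtypeVal.isCompact_iff, image_preimage_eq_inter_range,
        Subtype.range_coe, inter_comm]
      exact hEU U hUo hUc⟩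
  have hpre : PrespectralSpace E := PrespectralSpace.of_isInducing _ IsInducing.subtypeVal hspec
  have hcomp : CompactSpace E :=
    isCompact_iff_compactSpace.mp (isCompact_of_isClosed_constructibleTopology hE)
  have hqs : QuasiSeparatedSpace E := ⟨fun U V hUo hUc hVo hVc => by
    obtain ⟨U', hU'o, hU'c, rfl⟩ := exists_compact_open_preimage_eq E U hUo hUc
    obtain ⟨V', hV'o, hV'c, rfl⟩ := exists_compact_open_preimage_eq E V hVo hVc
    rw [← preimage_inter]
    exact hspec.isCompact_preimage_of_isOpen (hU'o.inter hV'o)
      (QuasiSeparatedSpace.inter_isCompact _ _ hU'o hU'c hV'o hV'c)⟩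
  have hsober : QuasiSober E := by
    refine ⟨fun {Z} hZirr hZcl => ?_⟩
    have hirr : IsIrreducible (closure ((Subtype.val : E → X) '' Z)) :=
      (hZirr.image _ continuous_subtype_val.continuousOn).closure
    have hη : IsGenericPoint hirr.genericPoint (closure ((Subtype.val : E → X) '' Z)) :=
      hirr.isGenericPoint_genericPoint isClosed_closure
    have hηE : hirr.genericPoint ∈ E := by
      have hcomp' : @CompactSpace X (constructibleTopology X) :=
        compactSpace_constructibleTopology
      have := @IsCompact.inter_iInter_nonempty X (constructibleTopology X) univ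
        {U : Set X // IsOpen U ∧ IsCompact U ∧ hirr.genericPoint ∈ U}
        (@isCompact_univ _ (constructibleTopology X) hcomp')
        (fun U => E ∩ closure ((Subtype.val : E → X) '' Z) ∩ U.1)
        (fun U => @IsClosed.inter _ _ _ (constructibleTopology X)
          (@IsClosed.inter _ _ _ (constructibleTopology X) hE
            (isClosed_constructibleTopology_of_isClosed isClosed_closure))
          (isClosed_constructibleTopology_of_isCompact_isOpen U.2.1 U.2.2.1))
        (by
          intro u
          have hV₀o : IsOpen (⋂ U ∈ u, (U : Set X)) :=
            isOpen_biInter_finset fun U _ => U.2.1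
          have hηV₀ : hirr.genericPoint ∈ ⋂ U ∈ u, (U : Set X) := by
            simp only [mem_iInter]
            exact fun U _ => U.2.2.2
          obtain ⟨z, hzV₀, ⟨z', hz'Z, rfl⟩⟩ := mem_closure_iff.mp hη.mem _ hV₀o hηV₀
          refine ⟨z'.1, trivial, ?_⟩
          simp only [mem_iInter] at hzV₀ ⊢
          exact fun U hU => ⟨⟨z'.2, subset_closure ⟨z', hz'Z, rfl⟩⟩, hzV₀ U hU⟩)
      obtain ⟨z, -, hz⟩ := this
      rw [mem_iInter] at hz
      have hz0 := hz ⟨univ, isOpen_univ, isCompact_univ, trivial⟩
      have h1 : hirr.genericPoint ⤳ z := hη.specializes hz0.1.2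
      have h2 : z ⤳ hirr.genericPoint := by
        rw [specializes_iff_forall_open]
        intro V hVo hηV
        obtain ⟨B, ⟨hBo, hBc⟩, hηB, hBV⟩ :=
          PrespectralSpace.isTopologicalBasis.exists_subset_of_mem_open hηV hVo
        exact hBV (hz ⟨B, hBo, hBc, hηB⟩).2
      have hzη : z = hirr.genericPoint := (h2.antisymm h1).eq
      rw [← hzη]
      exact hz0.1.1
    refine ⟨⟨hirr.genericPoint, hηE⟩, ?_⟩
    show closure {(⟨hirr.genericPoint, hηE⟩ : E)} = Z
    rw [IsInducing.subtypeVal.closure_eq_preimage_closure_image, image_singleton, hη.def,
      ← IsInducing.subtypeVal.closure_eq_preimage_closure_image, hZcl.closure_eq]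
  exact { (inferInstance : T0Space E), hcomp, hsober, hqs, hpre with }

/-- In a prespectral space, the set of generalizations of points of a compact set `E` is the
intersection of the compact opens containing `E`. -/
theorem generalizations_eq_sInter [PrespectralSpace X] {E : Set X} (hE : IsCompact E) :
    {x : X | ∃ e ∈ E, x ⤳ e} = ⋂₀ {U : Set X | IsOpen U ∧ IsCompact U ∧ E ⊆ U} := by
  ext x
  simp only [mem_ofPred_eq, mem_sInter]
  constructor
  · rintro ⟨e, he, hxe⟩ U ⟨hUo, -, hEU⟩
    exact hxe.mem_open hUo (hEU he)
  · intro hx
    by_contra hcon
    push Not at hcon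
    have : ∀ e ∈ E, ∃ U : Set X, (IsOpen U ∧ IsCompact U) ∧ e ∈ U ∧ x ∉ U := by
      intro e he
      have := hcon e he
      rw [specializes_iff_forall_open] at this
      push Not at this
      obtain ⟨V, hVo, heV, hxV⟩ := this
      obtain ⟨B, hB, heB, hBV⟩ :=
        PrespectralSpace.isTopologicalBasis.exists_subset_of_mem_open heV hVo
      exact ⟨B, hB, heB, fun h => hxV (hBV h)⟩
    choose! U hU heU hxU using this
    obtain ⟨t, htE, htfin, ht⟩ := hE.elim_finite_subcover_image (b := E) (c := U)
      (fun e he => (hU e he).1) (fun e he => mem_biUnion he (heU e he))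
    have hxmem := hx (⋃ e ∈ t, U e)
      ⟨isOpen_biUnion fun e he => (hU e (htE he)).1,
        htfin.isCompact_biUnion fun e he => (hU e (htE he)).2, ht⟩
    obtain ⟨e, het, hxe⟩ := mem_iUnion₂.mp hxmem
    exact hxU e (htE het) hxe

/-- In a spectral space, the set of generalizations of points of a compact set is closed for the
constructible topology. -/
theorem isClosed_constructibleTopology_generalizations [PrespectralSpace X] {E : Set X}
    (hE : IsCompact E) : IsClosed[constructibleTopology X] {x : X | ∃ e ∈ E, x ⤳ e} := by
  rw [generalizations_eq_sInter hE]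
  exact @isClosed_sInter _ (constructibleTopology X) _ fun U hU =>
    isClosed_constructibleTopology_of_isCompact_isOpen hU.1 hU.2.1

end Groth.Agent.Lib.Helper58
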