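import Groth.Agent.Lib.Helper58.DTLib
import Mathlib.RingTheory.Filtration

/-!
# Ideal transforms: maps with torsion kernel and cokernel induce bijections (Noetherian case)
-/

set_option autoImplicit false
universe u
open CategoryTheory CategoryTheory.Limits Opposite
open LocCoh

namespace Groth.Agent.Lib.Helper58.DTLib

variable {R : Type u} [CommRing R] (I : Ideal R)

/-- A finitely generated submodule consisting of `I`-power torsion elements is killed by a
single power of `I`. -/
theorem exists_pow_smul_eq_zero_of_fg' {N : Type*} [AddCommGroup N] [Module R N]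
    (S : Submodule R N) (hS : S.FG)
    (hN : ∀ y ∈ S, ∃ n : ℕ, ∀ a ∈ I ^ n, a • y = 0) :
    ∃ k : ℕ, ∀ a ∈ I ^ k, ∀ y ∈ S, a • y = 0 := by
  have hpt : IsPowerTorsion I S := fun y => by
    obtain ⟨n, hn⟩ := hN y.1 y.2
    exact ⟨n, fun a ha => Subtype.ext (by simpa using hn a ha)⟩
  obtain ⟨k, hk⟩ := exists_pow_smul_eq_zero_of_fg I hpt ⊤ (by
    rw [← Module.finite_def]; exact Module.Finite.iff_fg.mpr hS)
  exact ⟨k, fun a ha y hy => by simpa using congrArg Subtype.val (hk a ha ⟨y, hy⟩ trivial)⟩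

variable {M M' : Type u} [AddCommGroup M] [Module R M] [AddCommGroup M'] [Module R M']

/-- Key lifting lemma (uses Artin–Rees). -/
theorem exists_lift_of_torsion_ker [IsNoetherianRing R] (e : M →ₗ[R] M')
    (hker : LinearMap.ker e ≤ DRing.torsionSub I M) (n : ℕ) (g : ↥(I ^ n) →ₗ[R] M')
    (hg : LinearMap.range g ≤ LinearMap.range e) :
    ∃ (m : ℕ) (h : n ≤ m) (f : ↥(I ^ m) →ₗ[R] M),
      e ∘ₗ f = g ∘ₗ Submodule.inclusion (Ideal.pow_le_pow_right h) := by
  classical
  obtain ⟨r, p, hp⟩ := Module.Finite.exists_fin' R ↥(I ^ n)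
  -- choose lifts of the generators
  have hch : ∀ i : Fin r, ∃ mi : M, e mi = g (p (Pi.single i 1)) := fun i =>
    hg (LinearMap.mem_range_self g _)
  choose mi hmi using hch
  let φ : (Fin r → R) →ₗ[R] M := (Pi.basisFun R (Fin r)).constr R mi
  have hφ : e ∘ₗ φ = g ∘ₗ p := by
    apply (Pi.basisFun R (Fin r)).ext
    intro i
    simp only [LinearMap.comp_apply, φ]
    rw [Module.Basis.constr_basis]
    rw [Pi.basisFun_apply]
    exact hmi i
  set K := LinearMap.ker p with hK
  -- φ(K) is fg torsion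
  have hKfg : (Submodule.map φ K).FG := Submodule.FG.map φ (IsNoetherian.noetherian K)
  obtain ⟨k, hk⟩ := exists_pow_smul_eq_zero_of_fg' I (Submodule.map φ K) hKfg (by
    rintro y ⟨x, hx, rfl⟩
    apply hker
    rw [LinearMap.mem_ker, ← LinearMap.comp_apply, hφ, LinearMap.comp_apply]
    rw [show p x = 0 from hx, map_zero])
  obtain ⟨c, hc⟩ := Ideal.exists_pow_inf_eq_pow_smul I K
  set S : Submodule R (Fin r → R) := I ^ (k + c) • ⊤ with hS
  have hSK : ∀ x ∈ S ⊓ K, φ x = 0 := by
    intro x hx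
    have h1 := hc (k + c) (Nat.le_add_left c k)
    rw [Nat.add_sub_cancel] at h1
    rw [h1] at hx
    refine Submodule.smul_induction_on hx ?_ ?_
    · intro a ha y hy
      rw [map_smul]
      exact hk a ha _ ⟨y, hy.2, rfl⟩
    · intro x y hx hy
      rw [map_add, hx, hy, add_zero]
  -- the map q : S → I^(k+c+n)
  have hqmem : ∀ s ∈ S, ((p s : ↥(I ^ n)) : R) ∈ I ^ (k + c + n) := by
    intro s hs
    refine Submodule.smul_induction_on hs ?_ ?_
    · intro a ha y _
      rw [map_smul, pow_add]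
      exact Ideal.mul_mem_mul ha (p y).2
    · intro x y hx hy
      rw [map_add]
      exact Ideal.add_mem _ hx hy
  let q : ↥S →ₗ[R] ↥(I ^ (k + c + n)) :=
    LinearMap.codRestrict (I ^ (k + c + n)) ((I ^ n).subtype ∘ₗ p ∘ₗ S.subtype) (fun s => hqmem s.1 s.2)
  have hqsurj : Function.Surjective q := by
    rintro ⟨x, hx⟩
    rw [pow_add] at hx
    have : ∃ s : ↥S, ((p s.1 : ↥(I ^ n)) : R) = x := by
      refine Submodule.mul_induction_on hx ?_ ?_
      · intro a ha b hb
        obtain ⟨y, hy⟩ := hp ⟨b, hb⟩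
        refine ⟨⟨a • y, Submodule.smul_mem_smul ha Submodule.mem_top⟩, ?_⟩
        simp [hy]
      · rintro x y ⟨s, hs⟩ ⟨t, ht⟩
        exact ⟨s + t, by simp [hs, ht]⟩
    obtain ⟨s, hs⟩ := this
    exact ⟨s, Subtype.ext hs⟩
  have hqker : LinearMap.ker q ≤ LinearMap.ker (φ ∘ₗ S.subtype) := by
    intro s hs
    rw [LinearMap.mem_ker] at hs ⊢
    apply hSK
    refine ⟨s.2, ?_⟩
    rw [hK]
    change p s.1 = 0
    have := congrArg Subtype.val hs
    exact Subtype.ext (by simpa [q] using this)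
  let f : ↥(I ^ (k + c + n)) →ₗ[R] M :=
    ((LinearMap.ker q).liftQ (φ ∘ₗ S.subtype) hqker) ∘ₗ
      (q.quotKerEquivOfSurjective hqsurj).symm.toLinearMap
  have hfq : ∀ s : ↥S, f (q s) = φ s.1 := by
    intro s
    simp only [f, LinearMap.comp_apply, LinearEquiv.coe_coe]
    have : (q.quotKerEquivOfSurjective hqsurj).symm (q s) = Submodule.Quotient.mk s := by
      rw [LinearEquiv.symm_apply_eq]
      rfl
    rw [this]
    rfl
  refine ⟨k + c + n, Nat.le_add_left n (k + c), f, ?_⟩
  ext x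
  obtain ⟨s, rfl⟩ := hqsurj x
  simp only [LinearMap.comp_apply]
  rw [hfq, ← LinearMap.comp_apply, hφ]
  simp only [LinearMap.comp_apply]
  congr 1

/-- If `g : I^n → M'` and `I^k` carries the range of `g` into a submodule `P`, then
`g` restricted to `I^(k+n)` has range in `P`. -/
theorem range_comp_inclusion_le (n k : ℕ) (g : ↥(I ^ n) →ₗ[R] M') (P : Submodule R M')
    (h : ∀ a ∈ I ^ k, ∀ b : ↥(I ^ n), a • g b ∈ P) :
    LinearMap.range (g ∘ₗ Submodule.inclusion (Ideal.pow_le_pow_right (Nat.le_add_left n k))) ≤ P := by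
  have key : I ^ k * I ^ n ≤ Submodule.map (I ^ n).subtype (Submodule.comap g P) := by
    rw [Ideal.mul_le]
    intro a ha b hb
    refine ⟨a • ⟨b, hb⟩, ?_, rfl⟩
    rw [SetLike.mem_coe, Submodule.mem_comap, map_smul]
    exact h a ha ⟨b, hb⟩
  rintro _ ⟨⟨x, hx⟩, rfl⟩
  have hx' := hx
  rw [pow_add] at hx'
  obtain ⟨y, hy, hyx⟩ := key hx'
  have : (Submodule.inclusion (Ideal.pow_le_pow_right (Nat.le_add_left n k)) ⟨x, hx⟩ : ↥(I ^ n)) = y :=
    Subtype.ext hyx.symm
  rw [LinearMap.comp_apply, this]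
  exact hy

/-- **Main theorem**: a linear map with `I`-power-torsion kernel and cokernel induces a bijection
on ideal transforms (Noetherian ring). -/
theorem map_bijective_of_torsion [IsNoetherianRing R] (e : M →ₗ[R] M')
    (hker : LinearMap.ker e ≤ DRing.torsionSub I M)
    (hcoker : IsPowerTorsion I (M' ⧸ LinearMap.range e)) :
    Function.Bijective ((idealTransform I).map (ModuleCat.ofHom e)).hom := by
  constructor
  · rw [← LinearMap.ker_eq_bot, Submodule.eq_bot_iff]
    intro x hx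
    obtain ⟨n, f, rfl⟩ := exists_rep I M x
    rw [LinearMap.mem_ker, map_ιDT, ιDT_eq_zero_iff] at hx
    obtain ⟨m, hnm, hm⟩ := hx
    rw [← ιDT_comp_inclusion I M hnm f]
    set f' := f ∘ₗ Submodule.inclusion (Ideal.pow_le_pow_right hnm) with hf'
    have hfg : (LinearMap.range f').FG := by
      rw [LinearMap.range_eq_map]
      exact Submodule.FG.map f' (Module.Finite.fg_top)
    obtain ⟨k, hk⟩ := exists_pow_smul_eq_zero_of_fg' I _ hfg (by
      rintro y ⟨x, rfl⟩
      apply hker
      rw [LinearMap.mem_ker, ← LinearMap.comp_apply, hf', ← LinearMap.comp_assoc, hm]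
      rfl)
    exact ιDT_eq_zero_of_mul_le I M m k f' (fun a ha b => hk a ha _ (LinearMap.mem_range_self f' b))
  · intro y
    obtain ⟨n, g, rfl⟩ := exists_rep I M' y
    -- the image of range g in the cokernel is fg torsion
    have hfg : (Submodule.map (LinearMap.range e).mkQ (LinearMap.range g)).FG := by
      apply Submodule.FG.map
      rw [LinearMap.range_eq_map]
      exact Submodule.FG.map g (Module.Finite.fg_top)
    obtain ⟨k, hk⟩ := exists_pow_smul_eq_zero_of_fg I hcoker _ hfg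
    have hk' : ∀ a ∈ I ^ k, ∀ b : ↥(I ^ n), a • g b ∈ LinearMap.range e := by
      intro a ha b
      have := hk a ha _ ⟨g b, LinearMap.mem_range_self g b, rfl⟩
      rw [← map_smul] at this
      exact (Submodule.Quotient.mk_eq_zero _).mp this
    have hle := range_comp_inclusion_le I n k g _ hk'
    obtain ⟨m, hm, f, hf⟩ := exists_lift_of_torsion_ker I e hker (k + n) _ hle
    refine ⟨ιDT I M m f, ?_⟩
    rw [map_ιDT, hf, ιDT_comp_inclusion I M' hm, ιDT_comp_inclusion I M' (Nat.le_add_left n k)]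

theorem ker_toDT (M : Type u) [AddCommGroup M] [Module R M] :
    LinearMap.ker (toDT I M) = DRing.torsionSub I M := by
  ext m
  rw [LinearMap.mem_ker, toDT_eq, ιDT_eq_zero_iff]
  constructor
  · rintro ⟨k, hk, h⟩
    refine ⟨k, fun a ha => ?_⟩
    have := LinearMap.congr_fun h ⟨a, ha⟩
    simpa using this
  · rintro ⟨k, hk⟩
    refine ⟨k, Nat.zero_le k, ?_⟩
    ext ⟨a, ha⟩
    simpa using hk a ha

/-- `D_I(M)` has no `I`-power torsion (Noetherian ring). -/
theorem torsionSub_DT_eq_bot [IsNoetherianRing R] (M : Type u) [AddCommGroup M] [Module R M] :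
    DRing.torsionSub I (DT I M) = ⊥ := by
  rw [Submodule.eq_bot_iff]
  rintro x ⟨k, hk⟩
  obtain ⟨n, f, rfl⟩ := exists_rep I M x
  rw [← ιDT_comp_inclusion I M (le_max_right k n) f]
  set f' := f ∘ₗ Submodule.inclusion (Ideal.pow_le_pow_right (le_max_right k n)) with hf'
  have hx : ∀ a ∈ I ^ (max k n), a • ιDT I M (max k n) f' = 0 := by
    intro a ha
    rw [hf', ιDT_comp_inclusion I M (le_max_right k n)]
    exact hk a (Ideal.pow_le_pow_right (le_max_left k n) ha)
  have hfg : (LinearMap.range f').FG := by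
    rw [LinearMap.range_eq_map]
    exact Submodule.FG.map f' (Module.Finite.fg_top)
  obtain ⟨j, hj⟩ := exists_pow_smul_eq_zero_of_fg' I _ hfg (by
    rintro y ⟨⟨a, ha⟩, rfl⟩
    have h1 := hx a ha
    rw [smul_ιDT I M _ f' a ha, ← LinearMap.mem_ker, ker_toDT] at h1
    exact h1)
  exact ιDT_eq_zero_of_mul_le I M _ j f' (fun a ha b => hj a ha _ (LinearMap.mem_range_self f' b))

/-- The cokernel of `toDT` is `I`-power torsion. -/
theorem isPowerTorsion_coker_toDT (M : Type u) [AddCommGroup M] [Module R M] :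
    IsPowerTorsion I (DT I M ⧸ LinearMap.range (toDT I M)) := by
  intro y
  obtain ⟨x, rfl⟩ := Submodule.Quotient.mk_surjective _ y
  obtain ⟨n, f, rfl⟩ := exists_rep I M x
  refine ⟨n, fun a ha => ?_⟩
  rw [← Submodule.Quotient.mk_smul, Submodule.Quotient.mk_eq_zero, smul_ιDT I M n f a ha]
  exact LinearMap.mem_range_self _ _

end Groth.Agent.Lib.Helper58.DTLib
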