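import Groth.Agent.Lib.Helper58.DTLib3

/-!
# Ideal transforms: `η_{D_I M}`, comparison maps `D_J → D_I` for `I ≤ J`
-/

set_option autoImplicit false
universe u
open CategoryTheory CategoryTheory.Limits Opposite
open LocCoh

namespace Groth.Agent.Lib.Helper58.DTLib

variable {R : Type u} [CommRing R] (I : Ideal R)
variable (M : Type u) [AddCommGroup M] [Module R M]

/-- `η_{D_I(M)} = D_I(η_M)`. -/
theorem toDT_DT_eq (w : DT I M) :
    toDT I (DT I M) w = ((idealTransform I).map (ModuleCat.ofHom (toDT I M))).hom w := by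
  obtain ⟨n, f, rfl⟩ := exists_rep I M w
  rw [map_ιDT, toDT_eq, ← ιDT_comp_inclusion I _ (Nat.zero_le n)]
  congr 1
  ext ⟨a, ha⟩
  simp only [LinearMap.comp_apply, LinearMap.flip_apply, LinearMap.domRestrict_apply,
    LinearMap.lsmul_apply]
  exact smul_ιDT I M n f a ha

theorem toDT_DT_bijective [IsNoetherianRing R] : Function.Bijective (toDT I (DT I M)) := by
  have h : (toDT I (DT I M) : DT I M → DT I (DT I M)) =
      ((idealTransform I).map (ModuleCat.ofHom (toDT I M))).hom := funext (toDT_DT_eq I M)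
  rw [h]
  apply map_bijective_of_torsion I
  · rw [ker_toDT]
  · exact isPowerTorsion_coker_toDT I M

variable {I} in
theorem DTmapOfLE_ιDT {I' : Ideal R} (h : I' ≤ I) (n : ℕ) (f : ↥(I ^ n) →ₗ[R] M) :
    ((DTmapOfLE h).app (ModuleCat.of R M)).hom (ιDT I M n f) =
      ιDT I' M n (f ∘ₗ Submodule.inclusion (Ideal.pow_right_mono h n)) := by
  have h1 := ι_colimMap (Functor.whiskerRight (NatTrans.op (Functor.whiskerRight (powLE h) idealModFunctor))
    (linearCoyoneda R (ModuleCat.{u} R))) (op (op n))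
  have h2 := congrArg (fun t => t.app (ModuleCat.of R M)) h1
  have h3 := ConcreteCategory.congr_hom h2
    ((ModuleCat.homLinearEquiv (S := R) (M := ModuleCat.of R ↥(I ^ n)) (N := ModuleCat.of R M)).symm f)
  exact h3

theorem toDT_injective_of_torsionSub_eq_bot (h : DRing.torsionSub I M = ⊥) :
    Function.Injective (toDT I M) := by
  rw [← LinearMap.ker_eq_bot, ker_toDT, h]

/-- Two maps out of `(I*J)^n` that agree on products `a*b`, `a ∈ I^n`, `b ∈ J^n`, agree. -/
theorem ext_mul_pow {N : Type*} [AddCommGroup N] [Module R N] (J : Ideal R) (n : ℕ)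
    (f g : ↥((I * J) ^ n) →ₗ[R] N)
    (h : ∀ (a : R) (ha : a ∈ I ^ n) (b : R) (hb : b ∈ J ^ n),
      f ⟨a * b, by rw [mul_pow]; exact Ideal.mul_mem_mul ha hb⟩ =
        g ⟨a * b, by rw [mul_pow]; exact Ideal.mul_mem_mul ha hb⟩) : f = g := by
  have key : I ^ n * J ^ n ≤ Submodule.map ((I * J) ^ n).subtype (LinearMap.eqLocus f g) := by
    rw [Ideal.mul_le]
    intro a ha b hb
    exact ⟨⟨a * b, by rw [mul_pow]; exact Ideal.mul_mem_mul ha hb⟩, h a ha b hb, rfl⟩
  ext ⟨x, hx⟩
  have hx' := hx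
  rw [mul_pow] at hx'
  obtain ⟨y, hy, hyx⟩ := key hx'
  have : (⟨x, hx⟩ : ↥((I * J) ^ n)) = y := Subtype.ext hyx.symm
  rw [this]
  exact hy

/-- If `N` is `J`-torsion-free and `η^J_N` is surjective, then restriction
`D_I(N) → D_{IJ}(N)` is bijective. -/
theorem DTmapOfLE_mul_bijective (J : Ideal R) (N : Type u) [AddCommGroup N] [Module R N]
    (hN1 : DRing.torsionSub J N = ⊥) (hN2 : Function.Surjective (toDT J N)) :
    Function.Bijective ((DTmapOfLE (Ideal.mul_le_left : I * J ≤ I)).app (ModuleCat.of R N)).hom := by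
  have hinj := toDT_injective_of_torsionSub_eq_bot J N hN1
  constructor
  · rw [← LinearMap.ker_eq_bot, Submodule.eq_bot_iff]
    intro x hx
    obtain ⟨n, f, rfl⟩ := exists_rep I N x
    rw [LinearMap.mem_ker, DTmapOfLE_ιDT, ιDT_eq_zero_iff] at hx
    obtain ⟨m, hnm, hm⟩ := hx
    rw [ιDT_eq_zero_iff]
    refine ⟨m, hnm, ?_⟩
    ext ⟨a, ha⟩
    have hmem : f (Submodule.inclusion (Ideal.pow_le_pow_right hnm) ⟨a, ha⟩) ∈ DRing.torsionSub J N := by
      refine ⟨m, fun b hb => ?_⟩
      rw [← map_smul]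
      have hab : b * a ∈ (I * J) ^ m := by
        rw [mul_pow, mul_comm b a]; exact Ideal.mul_mem_mul ha hb
      have := LinearMap.congr_fun hm ⟨b * a, hab⟩
      simp only [LinearMap.comp_apply, LinearMap.zero_apply] at this
      rw [← this]
      congr 1
    rw [hN1] at hmem
    exact (Submodule.mem_bot R).mp hmem
  · intro z
    obtain ⟨n, g, rfl⟩ := exists_rep (I * J) N z
    let G : ↥(I ^ n) →ₗ[R] (↥(J ^ n) →ₗ[R] N) :=
      LinearMap.mk₂ R (fun a b => g ⟨a.1 * b.1, by rw [mul_pow]; exact Ideal.mul_mem_mul a.2 b.2⟩)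
        (fun a a' b => by
          rw [← map_add]; congr 1; exact Subtype.ext (by simp [add_mul]))
        (fun c a b => by
          rw [← map_smul]; congr 1; exact Subtype.ext (by simp [mul_assoc]))
        (fun a b b' => by
          rw [← map_add]; congr 1; exact Subtype.ext (by simp [mul_add]))
        (fun c a b => by
          rw [← map_smul]; congr 1; exact Subtype.ext (by simp [mul_left_comm]))
    let E := LinearEquiv.ofBijective (toDT J N) ⟨hinj, hN2⟩
    let F : ↥(I ^ n) →ₗ[R] N := E.symm.toLinearMap ∘ₗ ιDT J N n ∘ₗ G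
    refine ⟨ιDT I N n F, ?_⟩
    rw [DTmapOfLE_ιDT]
    congr 1
    apply ext_mul_pow
    intro a ha b hb
    apply hinj
    simp only [LinearMap.comp_apply]
    have h1 : (Submodule.inclusion (Ideal.pow_right_mono (Ideal.mul_le_left : I * J ≤ I) n)
        ⟨a * b, by rw [mul_pow]; exact Ideal.mul_mem_mul ha hb⟩ : ↥(I ^ n)) = b • ⟨a, ha⟩ :=
      Subtype.ext (by simp [mul_comm])
    rw [h1, map_smul, map_smul]
    simp only [F, LinearMap.comp_apply, LinearEquiv.coe_coe]
    have h2 : toDT J N (E.symm (ιDT J N n (G ⟨a, ha⟩))) = ιDT J N n (G ⟨a, ha⟩) :=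
      E.apply_symm_apply _
    rw [h2, smul_ιDT J N n _ b hb]
    rfl

theorem DTmapOfLE_mul_DT_bijective [IsNoetherianRing R] (J : Ideal R) :
    Function.Bijective ((DTmapOfLE (Ideal.mul_le_left : I * J ≤ I)).app (ModuleCat.of R (DT J M))).hom :=
  DTmapOfLE_mul_bijective I J (DT J M) (torsionSub_DT_eq_bot J M) (toDT_DT_bijective J M).2

end Groth.Agent.Lib.Helper58.DTLib
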