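import Mathlib

/-!
# Unique extension of derivations along formally étale ring maps
-/

set_option autoImplicit false
universe u

namespace Groth.Agent.Lib.Helper58.DerEt

section Uniq

variable {A B C : Type u} [CommRing A] [CommRing B] [CommRing C]

/-- two `ρ`-derivations `B → C` which agree on the image of a formally unramified `A → B`
are equal. -/
theorem deriv_unique (φ : A →+* B) (hφ : φ.FormallyUnramified) (ρ : B →+* C) (d1 d2 : B →+ C)
    (h1 : ∀ x y, d1 (x * y) = ρ x * d1 y + ρ y * d1 x)
    (h2 : ∀ x y, d2 (x * y) = ρ x * d2 y + ρ y * d2 x)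
    (h : ∀ a, d1 (φ a) = d2 (φ a)) : d1 = d2 := by
  letI := φ.toAlgebra
  letI := ρ.toAlgebra
  letI : Algebra A C := (ρ.comp φ).toAlgebra
  haveI : IsScalarTower A B C := IsScalarTower.of_algebraMap_eq (fun _ => rfl)
  haveI : Algebra.FormallyUnramified A B := hφ
  have hone1 : d1 1 = 0 := by
    have := h1 1 1
    rw [mul_one, ρ.map_one, one_mul] at this
    exact left_eq_add.mp this
  have hone2 : d2 1 = 0 := by
    have := h2 1 1
    rw [mul_one, ρ.map_one, one_mul] at this
    exact left_eq_add.mp this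
  let δ : Derivation A B C :=
    { toFun := fun b => d1 b - d2 b
      map_add' := fun x y => by
        change d1 (x + y) - d2 (x + y) = (d1 x - d2 x) + (d1 y - d2 y)
        rw [map_add, map_add]; abel
      map_smul' := fun a b => by
        change d1 (φ a * b) - d2 (φ a * b) = ρ (φ a) * (d1 b - d2 b)
        rw [h1, h2, h a]
        ring
      map_one_eq_zero' := by
        change d1 1 - d2 1 = 0
        rw [hone1, hone2, sub_zero]
      leibniz' := fun x y => by
        change d1 (x * y) - d2 (x * y) = ρ x * (d1 y - d2 y) + ρ y * (d1 x - d2 x)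
        rw [h1, h2]
        ring }
  have hδ : ∀ b, δ b = 0 := fun b => by
    rw [← Derivation.liftKaehlerDifferential_comp_D δ b,
      Subsingleton.elim (KaehlerDifferential.D A B b) 0, map_zero]
  ext b
  have := hδ b
  change d1 b - d2 b = 0 at this
  exact sub_eq_zero.mp this

end Uniq

section Exist

variable {A B : Type u} [CommRing A] [CommRing B]

/-- the twisted structure map `a ↦ φ a + ε φ (θ a)` -/
noncomputable def rho (φ : A →+* B) (θ : Derivation ℤ A A) : A →+* TrivSqZeroExt B B where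
  toFun a := TrivSqZeroExt.inl (φ a) + TrivSqZeroExt.inr (φ (θ a))
  map_one' := by
    rw [Derivation.map_one_eq_zero, map_one, map_zero, TrivSqZeroExt.inr_zero, add_zero]
    rfl
  map_mul' a b := by
    apply TrivSqZeroExt.ext
    · simp
    · simp only [Derivation.leibniz, smul_eq_mul, map_add, map_mul, TrivSqZeroExt.snd_add,
        TrivSqZeroExt.snd_inl, TrivSqZeroExt.snd_inr, zero_add, TrivSqZeroExt.snd_mul,
        TrivSqZeroExt.fst_add, TrivSqZeroExt.fst_inl, TrivSqZeroExt.fst_inr, add_zero,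
        MulOpposite.smul_eq_mul_unop, MulOpposite.unop_op]
      ring
  map_zero' := by
    rw [map_zero, map_zero, map_zero, TrivSqZeroExt.inl_zero, TrivSqZeroExt.inr_zero, add_zero]
  map_add' a b := by
    rw [map_add, map_add, map_add, TrivSqZeroExt.inl_add, TrivSqZeroExt.inr_add]
    abel

theorem rho_fst (φ : A →+* B) (θ : Derivation ℤ A A) (a : A) : (rho φ θ a).fst = φ a := by
  change (TrivSqZeroExt.inl (φ a) + TrivSqZeroExt.inr (φ (θ a)) : TrivSqZeroExt B B).fst = φ a
  simp

theorem rho_snd (φ : A →+* B) (θ : Derivation ℤ A A) (a : A) : (rho φ θ a).snd = φ (θ a) := by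
  change (TrivSqZeroExt.inl (φ a) + TrivSqZeroExt.inr (φ (θ a)) : TrivSqZeroExt B B).snd = _
  simp

theorem exists_deriv (φ : A →+* B) (hφ : φ.FormallySmooth) (θ : Derivation ℤ A A) :
    ∃ D : B →+ B, (∀ x y, D (x * y) = x * D y + y * D x) ∧ ∀ a, D (φ a) = φ (θ a) := by
  letI := φ.toAlgebra
  letI twAlg : Algebra A (TrivSqZeroExt B B) := (rho φ θ).toAlgebra
  haveI : Algebra.FormallySmooth A B := hφ
  let g : @AlgHom A (TrivSqZeroExt B B) B _ _ _ twAlg _ :=
    @AlgHom.mk A (TrivSqZeroExt B B) B _ _ _ twAlg _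
      (TrivSqZeroExt.fstHom B B B : TrivSqZeroExt B B →+* B) (fun a => rho_fst φ θ a)
  have hg : Function.Surjective g := fun b => ⟨(TrivSqZeroExt.inl b : TrivSqZeroExt B B), TrivSqZeroExt.fst_inl B b⟩
  have hg' : IsNilpotent (RingHom.ker (g : TrivSqZeroExt B B →+* B)) := by
    suffices h2 : RingHom.ker (g : TrivSqZeroExt B B →+* B) ^ 2 = ⊥ from ⟨2, h2⟩
    rw [eq_bot_iff, sq, Ideal.mul_le]
    intro x hx y hy
    rw [RingHom.mem_ker] at hx hy
    change x.fst = 0 at hx
    change y.fst = 0 at hy
    rw [Ideal.mem_bot]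
    apply TrivSqZeroExt.ext
    · rw [TrivSqZeroExt.fst_mul, hx, zero_mul, TrivSqZeroExt.fst_zero]
    · rw [TrivSqZeroExt.snd_mul, hx, hy, zero_smul, MulOpposite.op_zero, zero_smul, add_zero,
        TrivSqZeroExt.snd_zero]
  let σ : @AlgHom A B (TrivSqZeroExt B B) _ _ _ _ twAlg :=
    Algebra.FormallySmooth.liftOfSurjective (AlgHom.id A B) g hg hg'
  have hσ : ∀ b, (σ b).fst = b := fun b =>
    Algebra.FormallySmooth.liftOfSurjective_apply (AlgHom.id A B) g hg hg' b
  refine ⟨{ toFun := fun b => (σ b).snd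
            map_zero' := by rw [map_zero]; rfl
            map_add' := fun x y => by rw [map_add]; exact TrivSqZeroExt.snd_add _ _ }, ?_, ?_⟩
  · intro x y
    change (σ (x * y)).snd = x * (σ y).snd + y * (σ x).snd
    rw [map_mul, TrivSqZeroExt.snd_mul, hσ, hσ, smul_eq_mul, MulOpposite.smul_eq_mul_unop,
      MulOpposite.unop_op, mul_comm (σ x).snd]
  · intro a
    change (σ (algebraMap A B a)).snd = _
    rw [AlgHom.commutes]
    exact rho_snd φ θ a

end Exist

end Groth.Agent.Lib.Helper58.DerEt
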