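import Groth.Agent.Lib.Helper58.DerEt1
import Groth.Prelude.Def_Coh

/-!
# A derivation of `A` acts on the abelian sheaf `O_V` for `V` étale over `Spec A`
-/

set_option autoImplicit false
universe u

namespace Groth.Agent.Lib.Helper58.DerEt

open CategoryTheory AlgebraicGeometry Opposite TopologicalSpace

variable {A : Type u} [CommRing A] {V : Scheme.{u}} (f : V ⟶ Spec (CommRingCat.of A))

/-- the structure map `A → Γ(V, U)` -/
noncomputable def phi (U : V.Opens) : A →+* Γ(V, U) :=
  (V.presheaf.map (homOfLE (le_top : U ≤ ⊤)).op).hom.comp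
    ((f.appTop).hom.comp (Scheme.ΓSpecIso (CommRingCat.of A)).inv.hom)

theorem phi_res {U U' : V.Opens} (h : U' ≤ U) (a : A) :
    (V.presheaf.map (homOfLE h).op).hom (phi f U a) = phi f U' a := by
  unfold phi
  simp only [RingHom.comp_apply]
  rw [← CommRingCat.comp_apply, ← Functor.map_comp]
  rfl

theorem phi_eq_appLE (U : V.Opens) :
    phi f U = (f.appLE ⊤ U (by simp)).hom.comp (Scheme.ΓSpecIso (CommRingCat.of A)).inv.hom := by
  unfold phi
  rw [← RingHom.comp_assoc]
  congr 1

theorem phi_etale [Etale f] (U : V.Opens) (hU : IsAffineOpen U) : (phi f U).Etale := by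
  rw [phi_eq_appLE]
  refine RingHom.Etale.stableUnderComposition _ _ ?_ ?_
  · exact RingHom.Etale.of_bijective
      (ConcreteCategory.bijective_of_isIso (Scheme.ΓSpecIso (CommRingCat.of A)).inv)
  · exact Etale.etale_appLE f (isAffineOpen_top _) hU _

variable [Etale f] (θ : Derivation ℤ A A)

theorem phi_smooth (U : V.Opens) (hU : IsAffineOpen U) : (phi f U).FormallySmooth := by
  have h := ((RingHom.etale_iff_formallyUnramified_and_smooth _).mp (phi_etale f U hU)).2
  letI := (phi f U).toAlgebra
  haveI : Algebra.Smooth A Γ(V, U) := h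
  exact (inferInstance : Algebra.FormallySmooth A Γ(V, U))

theorem phi_unram (U : V.Opens) (hU : IsAffineOpen U) : (phi f U).FormallyUnramified :=
  (phi_etale f U hU).formallyUnramified

/-- the extension of `θ` to the sections over an affine open -/
noncomputable def DU (U : V.Opens) (hU : IsAffineOpen U) : Γ(V, U) →+ Γ(V, U) :=
  (exists_deriv (phi f U) (phi_smooth f U hU) θ).choose

theorem DU_mul (U : V.Opens) (hU : IsAffineOpen U) (x y : Γ(V, U)) :
    DU f θ U hU (x * y) = x * DU f θ U hU y + y * DU f θ U hU x :=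
  (exists_deriv (phi f U) (phi_smooth f U hU) θ).choose_spec.1 x y

theorem DU_phi (U : V.Opens) (hU : IsAffineOpen U) (a : A) :
    DU f θ U hU (phi f U a) = phi f U (θ a) :=
  (exists_deriv (phi f U) (phi_smooth f U hU) θ).choose_spec.2 a

theorem DU_res {U U' : V.Opens} (hU : IsAffineOpen U) (hU' : IsAffineOpen U') (h : U' ≤ U)
    (x : Γ(V, U)) :
    (V.presheaf.map (homOfLE h).op).hom (DU f θ U hU x) =
      DU f θ U' hU' ((V.presheaf.map (homOfLE h).op).hom x) := by
  have := deriv_unique (phi f U) (phi_unram f U hU) (V.presheaf.map (homOfLE h).op).hom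
    ((V.presheaf.map (homOfLE h).op).hom.toAddMonoidHom.comp (DU f θ U hU))
    ((DU f θ U' hU').comp (V.presheaf.map (homOfLE h).op).hom.toAddMonoidHom)
    (fun x y => by
      change (V.presheaf.map (homOfLE h).op).hom (DU f θ U hU (x * y)) = _
      rw [DU_mul, map_add, map_mul, map_mul]
      rfl)
    (fun x y => by
      change DU f θ U' hU' ((V.presheaf.map (homOfLE h).op).hom (x * y)) = _
      rw [map_mul, DU_mul]
      rfl)
    (fun a => by
      change (V.presheaf.map (homOfLE h).op).hom (DU f θ U hU (phi f U a)) =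
        DU f θ U' hU' ((V.presheaf.map (homOfLE h).op).hom (phi f U a))
      rw [DU_phi, phi_res, phi_res, DU_phi])
  exact congrArg (fun d => d x) this

/-- the abelian sheaf underlying `O_V` -/
noncomputable abbrev OAb (V : Scheme.{u}) : Sheaf (Opens.grothendieckTopology V) AddCommGrpCat.{u} :=
  Coh.toAb (Coh.structureModule V)

/-- the derivations over the affine opens as a natural transformation -/
noncomputable def DUnt :
    (Scheme.AffineZariskiSite.toOpensFunctor V).op ⋙ (OAb V).obj ⟶
      (Scheme.AffineZariskiSite.toOpensFunctor V).op ⋙ (OAb V).obj where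
  app U := AddCommGrpCat.ofHom (DU f θ U.unop.1 U.unop.2)
  naturality U W i := by
    ext x
    exact (DU_res f θ U.unop.2 W.unop.2 (Scheme.AffineZariskiSite.toOpens_mono i.unop.le) x).symm

/-- the underlying morphism of abelian presheaves -/
noncomputable def Dpre : (OAb V).obj ⟶ (OAb V).obj :=
  Functor.IsCoverDense.restrictHomEquivHom (G := Scheme.AffineZariskiSite.toOpensFunctor V)
    (K := Opens.grothendieckTopology V) (ℱ := (OAb V).obj) (ℱ' := OAb V) (DUnt f θ)

theorem Dpre_app (U : V.Opens) (hU : IsAffineOpen U) (x : Γ(V, U)) :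
    (Dpre f θ).app (op U) x = DU f θ U hU x := by
  have h := NatTrans.congr_app
    ((Functor.IsCoverDense.restrictHomEquivHom
      (G := Scheme.AffineZariskiSite.toOpensFunctor V)
      (K := Opens.grothendieckTopology V) (ℱ := (OAb V).obj)
      (ℱ' := OAb V)).symm_apply_apply (DUnt f θ))
    (op (⟨U, hU⟩ : V.AffineZariskiSite))
  exact congrArg (fun g => g x) h

/-- the derivation of the abelian sheaf `O_V` extending `θ` -/
noncomputable def Dsh : OAb V ⟶ OAb V := ⟨Dpre f θ⟩

omit [Etale f] in
theorem presheaf_hom_ext {α β : (OAb V).obj ⟶ (OAb V).obj}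
    (h : ∀ (U : V.Opens) (_ : IsAffineOpen U), α.app (op U) = β.app (op U)) : α = β := by
  apply (Functor.IsCoverDense.restrictHomEquivHom (G := Scheme.AffineZariskiSite.toOpensFunctor V)
      (K := Opens.grothendieckTopology V) (ℱ := (OAb V).obj) (ℱ' := OAb V)).symm.injective
  ext U : 2
  exact h U.unop.1 U.unop.2

theorem Dsh_leibniz (a : A) :
    Coh.smulAb (Coh.structureModule V) (Coh.toGlobal f a) ≫ Dsh f θ =
      Coh.smulAb (Coh.structureModule V) (Coh.toGlobal f (θ a)) +
        Dsh f θ ≫ Coh.smulAb (Coh.structureModule V) (Coh.toGlobal f a) := by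
  apply Sheaf.hom_ext
  apply presheaf_hom_ext
  intro U hU
  ext m0
  obtain ⟨m, rfl⟩ : ∃ m : Γ(V, U), m = m0 := ⟨m0, rfl⟩
  change (Dpre f θ).app (op U) ((Coh.smulAb (Coh.structureModule V) (Coh.toGlobal f a)).hom.app
      (op U) m) =
    (Coh.smulAb (Coh.structureModule V) (Coh.toGlobal f (θ a))).hom.app (op U) m +
      (Coh.smulAb (Coh.structureModule V) (Coh.toGlobal f a)).hom.app (op U)
        ((Dpre f θ).app (op U) m)
  rw [Coh.smulAb_app, Coh.smulAb_app, Coh.smulAb_app]
  have key : ∀ (g : Γ(V, U) → Γ(V, U)) (_ : ∀ x, g x = DU f θ U hU x),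
      g (phi f U a * m) = phi f U (θ a) * m + phi f U a * g m := by
    intro g hg
    rw [hg, hg, DU_mul, DU_phi]
    ring
  exact key (fun x => (Dpre f θ).app (op U) x) (fun x => Dpre_app f θ U hU x)

end Groth.Agent.Lib.Helper58.DerEt
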