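import Mathlib.RingTheory.Derivation.Basic
import Mathlib.Algebra.Module.LocalizedModule.Basic
import Mathlib.Algebra.Module.LocalizedModule.Exact

/-!
# Modules with a connection along a derivation `θ : A → A`, and their localisations

`Conn θ X` is an additive operator `D` on the `A`-module `X` with `D (a • x) = θ a • x + a • D x`.
Such an operator is the same as an `A`-linear section of the first projection of the twisted module
`Tw θ X = X × X`, `a ⋆ (x, y) = (a x, a y + θ(a) x)`; this is used to extend `D` to localisations.
-/

set_option autoImplicit false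
universe u v w

namespace Groth.Agent.Lib.Helper58.DerLC

variable {A : Type u} [CommRing A] (θ : Derivation ℤ A A)

/-- The twisted square of a module: `X × X` with `a ⋆ (x, y) = (a x, a y + θ(a) x)`. -/
def Tw (_θ : Derivation ℤ A A) (X : Type v) : Type v := X × X

namespace Tw

variable (X : Type v) [AddCommGroup X] [Module A X] (Y : Type w) [AddCommGroup Y] [Module A Y]

instance : AddCommGroup (Tw θ X) := inferInstanceAs (AddCommGroup (X × X))

variable {X} in
/-- constructor -/
def mk (x y : X) : Tw θ X := ((x, y) : X × X)

variable {X} in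
/-- first component -/
def fst (p : Tw θ X) : X := (show X × X from p).1

variable {X} in
/-- second component -/
def snd (p : Tw θ X) : X := (show X × X from p).2

variable {θ X}

@[ext] theorem ext {p q : Tw θ X} (h1 : fst θ p = fst θ q) (h2 : snd θ p = snd θ q) : p = q :=
  show (show X × X from p) = (show X × X from q) from Prod.ext h1 h2

@[simp] theorem fst_mk (x y : X) : fst θ (mk θ x y) = x := rfl
@[simp] theorem snd_mk (x y : X) : snd θ (mk θ x y) = y := rfl
@[simp] theorem fst_add (p q : Tw θ X) : fst θ (p + q) = fst θ p + fst θ q := rfl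
@[simp] theorem snd_add (p q : Tw θ X) : snd θ (p + q) = snd θ p + snd θ q := rfl
@[simp] theorem fst_zero : fst θ (0 : Tw θ X) = 0 := rfl
@[simp] theorem snd_zero : snd θ (0 : Tw θ X) = 0 := rfl

instance : SMul A (Tw θ X) := ⟨fun a p => mk θ (a • fst θ p) (a • snd θ p + θ a • fst θ p)⟩

@[simp] theorem fst_smul (a : A) (p : Tw θ X) : fst θ (a • p) = a • fst θ p := rfl
@[simp] theorem snd_smul (a : A) (p : Tw θ X) :
    snd θ (a • p) = a • snd θ p + θ a • fst θ p := rfl

instance : Module A (Tw θ X) where
  one_smul p := by
    ext
    · simp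
    · simp [Derivation.map_one_eq_zero]
  mul_smul a b p := by
    ext
    · simp [mul_smul]
    · simp only [snd_smul, fst_smul, Derivation.leibniz, smul_eq_mul, smul_add, add_smul, mul_smul]
      rw [smul_comm (θ a) b]
      abel
  smul_zero a := by
    ext <;> simp
  smul_add a p q := by
    ext
    · simp
    · simp only [snd_smul, snd_add, fst_add, smul_add]
      abel
  add_smul a b p := by
    ext
    · simp [add_smul]
    · simp only [snd_smul, snd_add, map_add, add_smul]
      abel
  zero_smul p := by
    ext <;> simp

variable (θ X)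

/-- first projection, linear -/
def fstₗ : Tw θ X →ₗ[A] X where
  toFun := fst θ
  map_add' _ _ := rfl
  map_smul' _ _ := rfl

/-- second projection, additive -/
def sndAdd : Tw θ X →+ X where
  toFun := snd θ
  map_zero' := rfl
  map_add' _ _ := rfl

variable {X Y}

/-- functoriality of the twisted square -/
def map (g : X →ₗ[A] Y) : Tw θ X →ₗ[A] Tw θ Y where
  toFun p := mk θ (g (fst θ p)) (g (snd θ p))
  map_add' p q := by
    ext <;> simp
  map_smul' a p := by
    ext <;> simp

@[simp] theorem fst_map (g : X →ₗ[A] Y) (p : Tw θ X) : fst θ (map θ g p) = g (fst θ p) := rfl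
@[simp] theorem snd_map (g : X →ₗ[A] Y) (p : Tw θ X) : snd θ (map θ g p) = g (snd θ p) := rfl
@[simp] theorem fstₗ_apply (p : Tw θ X) : fstₗ θ X p = fst θ p := rfl

theorem isUnit_algebraMap (a : A) (h : IsUnit (algebraMap A (Module.End A X) a)) :
    IsUnit (algebraMap A (Module.End A (Tw θ X)) a) := by
  rw [Module.End.isUnit_iff] at h ⊢
  have hinj : ∀ x y : X, a • x = a • y → x = y := fun x y hxy => h.1 (by simpa using hxy)
  have hsurj : ∀ y : X, ∃ x : X, a • x = y := fun y => by
    obtain ⟨x, hx⟩ := h.2 y
    exact ⟨x, by simpa using hx⟩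
  constructor
  · intro p q hpq
    have hpq' : a • p = a • q := by simpa using hpq
    have h1 : fst θ p = fst θ q := hinj _ _ (by simpa using congrArg (fst θ) hpq')
    have h2 := congrArg (snd θ) hpq'
    rw [snd_smul, snd_smul, h1, add_left_inj] at h2
    exact ext h1 (hinj _ _ h2)
  · intro p
    obtain ⟨x, hx⟩ := hsurj (fst θ p)
    obtain ⟨y, hy⟩ := hsurj (snd θ p - θ a • x)
    refine ⟨mk θ x y, ?_⟩
    show a • mk θ x y = p
    ext
    · simpa using hx
    · simp [hy]

end Tw

/-- An additive operator on `X` satisfying the Leibniz rule with respect to `θ`. -/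
structure Conn (θ : Derivation ℤ A A) (X : Type v) [AddCommGroup X] [Module A X] where
  /-- the operator -/
  D : X →+ X
  leib : ∀ (a : A) (x : X), D (a • x) = θ a • x + a • D x

namespace Conn

variable {θ}
variable {X : Type v} [AddCommGroup X] [Module A X] {Y : Type w} [AddCommGroup Y] [Module A Y]

/-- the graph `x ↦ (x, D x)` as a linear map into the twisted square -/
def graph (c : Conn θ X) : X →ₗ[A] Tw θ X where
  toFun x := Tw.mk θ x (c.D x)
  map_add' x y := by
    ext <;> simp
  map_smul' a x := by
    ext
    · simp
    · simp [c.leib, add_comm]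

@[simp] theorem fst_graph (c : Conn θ X) (x : X) : Tw.fst θ (c.graph x) = x := rfl
@[simp] theorem snd_graph (c : Conn θ X) (x : X) : Tw.snd θ (c.graph x) = c.D x := rfl

/-- a linear section of the first projection gives a connection -/
def ofSection (s : X →ₗ[A] Tw θ X) (hs : ∀ x, Tw.fst θ (s x) = x) : Conn θ X where
  D := (Tw.sndAdd θ X).comp s.toAddMonoidHom
  leib a x := by
    show Tw.snd θ (s (a • x)) = _
    rw [map_smul, Tw.snd_smul, hs, add_comm]
    rfl

@[simp] theorem ofSection_D (s : X →ₗ[A] Tw θ X) (hs : ∀ x, Tw.fst θ (s x) = x) (x : X) :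
    (ofSection s hs).D x = Tw.snd θ (s x) := rfl

/-- transport along a linear equivalence -/
def transport (c : Conn θ X) (e : X ≃ₗ[A] Y) : Conn θ Y where
  D := (e.toLinearMap.toAddMonoidHom.comp c.D).comp e.symm.toLinearMap.toAddMonoidHom
  leib a y := by
    show e (c.D (e.symm (a • y))) = θ a • y + a • e (c.D (e.symm y))
    rw [map_smul, c.leib, map_add, map_smul, map_smul, e.apply_symm_apply]

@[simp] theorem transport_D (c : Conn θ X) (e : X ≃ₗ[A] Y) (y : Y) :
    (c.transport e).D y = e (c.D (e.symm y)) := rfl

/-- the connection given by the derivation on the ring itself -/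
def self (θ : Derivation ℤ A A) : Conn θ A where
  D := (θ : A →ₗ[ℤ] A).toAddMonoidHom
  leib a x := by
    show θ (a • x) = θ a • x + a • θ x
    rw [smul_eq_mul, Derivation.leibniz, add_comm]
    simp [mul_comm]

/-- the zero connection on a subsingleton module -/
def ofSubsingleton [Subsingleton X] : Conn θ X where
  D := 0
  leib _ _ := Subsingleton.elim _ _

section Loc

variable (S : Submonoid A)

/-- the section defining the localised connection -/
noncomputable def locSection (c : Conn θ X) :
    LocalizedModule S X →ₗ[A] Tw θ (LocalizedModule S X) :=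
  IsLocalizedModule.lift S (LocalizedModule.mkLinearMap S X)
    ((Tw.map θ (LocalizedModule.mkLinearMap S X)).comp c.graph)
    (fun s => Tw.isUnit_algebraMap θ _
      (IsLocalizedModule.map_units (LocalizedModule.mkLinearMap S X) s))

theorem locSection_mk (c : Conn θ X) (x : X) :
    c.locSection S (LocalizedModule.mkLinearMap S X x) =
      Tw.map θ (LocalizedModule.mkLinearMap S X) (c.graph x) :=
  IsLocalizedModule.lift_apply S (LocalizedModule.mkLinearMap S X) _ _ x

theorem fst_locSection (c : Conn θ X) (z : LocalizedModule S X) :
    Tw.fst θ (c.locSection S z) = z := by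
  have : (Tw.fstₗ θ _).comp (c.locSection S) = LinearMap.id := by
    apply IsLocalizedModule.ext S (LocalizedModule.mkLinearMap S X)
      (IsLocalizedModule.map_units (LocalizedModule.mkLinearMap S X))
    ext x
    show Tw.fst θ (c.locSection S (LocalizedModule.mkLinearMap S X x)) =
      LocalizedModule.mkLinearMap S X x
    rw [locSection_mk]
    rfl
  exact LinearMap.congr_fun this z

/-- the connection on the localisation -/
noncomputable def loc (c : Conn θ X) : Conn θ (LocalizedModule S X) :=
  ofSection (c.locSection S) (c.fst_locSection S)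

theorem loc_mk (c : Conn θ X) (x : X) :
    (c.loc S).D (LocalizedModule.mkLinearMap S X x) = LocalizedModule.mkLinearMap S X (c.D x) := by
  show Tw.snd θ (c.locSection S (LocalizedModule.mkLinearMap S X x)) = _
  rw [locSection_mk]
  rfl

theorem loc_map (cX : Conn θ X) (cY : Conn θ Y) (g : X →ₗ[A] Y)
    (hg : ∀ x, cY.D (g x) = g (cX.D x)) (z : LocalizedModule S X) :
    (cY.loc S).D (IsLocalizedModule.map S (LocalizedModule.mkLinearMap S X)
        (LocalizedModule.mkLinearMap S Y) g z) =
      IsLocalizedModule.map S (LocalizedModule.mkLinearMap S X)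
        (LocalizedModule.mkLinearMap S Y) g ((cX.loc S).D z) := by
  have : (cY.locSection S).comp (IsLocalizedModule.map S (LocalizedModule.mkLinearMap S X)
        (LocalizedModule.mkLinearMap S Y) g) =
      (Tw.map θ (IsLocalizedModule.map S (LocalizedModule.mkLinearMap S X)
        (LocalizedModule.mkLinearMap S Y) g)).comp (cX.locSection S) := by
    apply IsLocalizedModule.ext S (LocalizedModule.mkLinearMap S X)
      (fun s => Tw.isUnit_algebraMap θ _
        (IsLocalizedModule.map_units (LocalizedModule.mkLinearMap S Y) s))
    refine LinearMap.ext fun x => ?_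
    show cY.locSection S (IsLocalizedModule.map S (LocalizedModule.mkLinearMap S X)
        (LocalizedModule.mkLinearMap S Y) g (LocalizedModule.mkLinearMap S X x)) =
      Tw.map θ (IsLocalizedModule.map S (LocalizedModule.mkLinearMap S X)
        (LocalizedModule.mkLinearMap S Y) g) (cX.locSection S (LocalizedModule.mkLinearMap S X x))
    rw [IsLocalizedModule.map_apply, locSection_mk, locSection_mk]
    ext
    · show LocalizedModule.mkLinearMap S Y (g x) =
        IsLocalizedModule.map S (LocalizedModule.mkLinearMap S X)
          (LocalizedModule.mkLinearMap S Y) g (LocalizedModule.mkLinearMap S X x)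
      rw [IsLocalizedModule.map_apply]
    · show LocalizedModule.mkLinearMap S Y (cY.D (g x)) =
        IsLocalizedModule.map S (LocalizedModule.mkLinearMap S X)
          (LocalizedModule.mkLinearMap S Y) g (LocalizedModule.mkLinearMap S X (cX.D x))
      rw [IsLocalizedModule.map_apply, hg]
  exact congrArg (Tw.snd θ) (LinearMap.congr_fun this z)

end Loc

end Conn

end Groth.Agent.Lib.Helper58.DerLC
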