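import Groth.Agent.Lib.Helper58.DerLC1
import Groth.Agent.Lib.Helper58.Cech5
import Mathlib.Algebra.Homology.ShortComplex.ModuleCat
import Mathlib.Algebra.Homology.Single

/-!
# Complexes with a connection along a derivation: localisation, cones, shifts, homology
-/

set_option autoImplicit false
universe u
open CategoryTheory CategoryTheory.Limits CochainComplex HomologicalComplex

namespace Groth.Agent.Lib.Helper58.DerLC

variable {A : Type u} [CommRing A] (θ : Derivation ℤ A A)

namespace Conn

variable {θ}
variable {X : Type u} [AddCommGroup X] [Module A X]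

/-- restriction of a connection to a stable submodule -/
def restrict (c : Conn θ X) (Z : Submodule A X) (hZ : ∀ x ∈ Z, c.D x ∈ Z) : Conn θ Z where
  D :=
    { toFun := fun z => ⟨c.D z.1, hZ z.1 z.2⟩
      map_zero' := by
        apply Subtype.ext
        simp
      map_add' := fun z w => by
        apply Subtype.ext
        simp }
  leib a z := by
    apply Subtype.ext
    show c.D (a • z.1) = θ a • z.1 + a • c.D z.1
    exact c.leib a z.1

@[simp] theorem restrict_D_coe (c : Conn θ X) (Z : Submodule A X) (hZ : ∀ x ∈ Z, c.D x ∈ Z)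
    (z : Z) : ((c.restrict Z hZ).D z : X) = c.D z.1 := rfl

/-- the induced operator on the quotient by a stable submodule -/
def quotientD (c : Conn θ X) (B : Submodule A X) (hB : ∀ x ∈ B, c.D x ∈ B) : (X ⧸ B) →+ (X ⧸ B) :=
  ((Submodule.Quotient.restrictScalarsEquiv ℤ B).toLinearMap.comp
      (((B.restrictScalars ℤ).mapQ (B.restrictScalars ℤ) c.D.toIntLinearMap
        (fun x hx => hB x hx)).comp
        (Submodule.Quotient.restrictScalarsEquiv ℤ B).symm.toLinearMap)).toAddMonoidHom

theorem quotientD_mk (c : Conn θ X) (B : Submodule A X) (hB : ∀ x ∈ B, c.D x ∈ B) (x : X) :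
    quotientD c B hB (Submodule.Quotient.mk x) = Submodule.Quotient.mk (c.D x) := by
  have hB' : B.restrictScalars ℤ ≤ (B.restrictScalars ℤ).comap c.D.toIntLinearMap :=
    fun x hx => hB x hx
  show (Submodule.Quotient.restrictScalarsEquiv ℤ B)
      (((B.restrictScalars ℤ).mapQ (B.restrictScalars ℤ) c.D.toIntLinearMap hB')
        ((Submodule.Quotient.restrictScalarsEquiv ℤ B).symm (Submodule.Quotient.mk x))) = _
  rw [Submodule.Quotient.restrictScalarsEquiv_symm_mk, Submodule.mapQ_apply,
    Submodule.Quotient.restrictScalarsEquiv_mk]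
  rfl

/-- the induced connection on the quotient by a stable submodule -/
def quotient (c : Conn θ X) (B : Submodule A X) (hB : ∀ x ∈ B, c.D x ∈ B) : Conn θ (X ⧸ B) where
  D := quotientD c B hB
  leib a ξ := by
    obtain ⟨x, rfl⟩ := Submodule.mkQ_surjective B ξ
    show quotientD c B hB (a • Submodule.Quotient.mk x) =
      θ a • Submodule.Quotient.mk x + a • quotientD c B hB (Submodule.Quotient.mk x)
    rw [← Submodule.Quotient.mk_smul, quotientD_mk, quotientD_mk, c.leib, Submodule.Quotient.mk_add,
      Submodule.Quotient.mk_smul, Submodule.Quotient.mk_smul]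

theorem nonempty_iff_exists :
    Nonempty (Conn θ X) ↔ ∃ D : X →+ X, ∀ (a : A) (x : X), D (a • x) = θ a • x + a • D x :=
  ⟨fun ⟨c⟩ => ⟨c.D, c.leib⟩, fun ⟨D, h⟩ => ⟨⟨D, h⟩⟩⟩

end Conn

/-- A connection on every term of a cochain complex, commuting with the differential. -/
structure CxConn (K : CochainComplex (ModuleCat.{u} A) ℤ) where
  /-- the connection in each degree -/
  c : ∀ n : ℤ, Conn θ (K.X n)
  comm : ∀ (n : ℤ) (x : K.X n),
    (c (n + 1)).D ((K.d n (n + 1)).hom x) = (K.d n (n + 1)).hom ((c n).D x)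

namespace CxConn

variable {θ}
variable {K L : CochainComplex (ModuleCat.{u} A) ℤ}

theorem comm' (cK : CxConn θ K) (n m : ℤ) (x : K.X n) :
    (cK.c m).D ((K.d n m).hom x) = (K.d n m).hom ((cK.c n).D x) := by
  by_cases h : n + 1 = m
  · subst h
    exact cK.comm n x
  · rw [K.shape n m h]
    simp

/-- compatibility of a morphism of complexes with connections -/
def Horiz (cK : CxConn θ K) (cL : CxConn θ L) (φ : K ⟶ L) : Prop :=
  ∀ (n : ℤ) (x : K.X n), (cL.c n).D ((φ.f n).hom x) = (φ.f n).hom ((cK.c n).D x)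

section Loc

variable (S : Submonoid A)

/-- the connection on the termwise localisation -/
noncomputable def loc (cK : CxConn θ K) : CxConn θ ((DerCA.locCx S).obj K) where
  c n := (cK.c n).loc S
  comm n x := Conn.loc_map S (cK.c n) (cK.c (n + 1)) (K.d n (n + 1)).hom (fun x => cK.comm n x) x

theorem horiz_locCxUnit (cK : CxConn θ K) : Horiz cK (cK.loc S) (DerCA.locCxUnit S K) :=
  fun n x => Conn.loc_mk S (cK.c n) x

end Loc

section Cone

variable (cK : CxConn θ K) (cL : CxConn θ L) (φ : K ⟶ L)

/-- the operator on the mapping cone -/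
noncomputable def coneD (n : ℤ) : (mappingCone φ).X n →+ (mappingCone φ).X n :=
  ((mappingCone.inl φ).v (n + 1) n (by omega)).hom.toAddMonoidHom.comp
      ((cK.c (n + 1)).D.comp ((mappingCone.fst φ).1.v n (n + 1) rfl).hom.toAddMonoidHom) +
    ((mappingCone.inr φ).f n).hom.toAddMonoidHom.comp
      ((cL.c n).D.comp ((mappingCone.snd φ).v n n (add_zero n)).hom.toAddMonoidHom)

theorem coneD_apply (n : ℤ) (x : (mappingCone φ).X n) :
    coneD cK cL φ n x =
      ((mappingCone.inl φ).v (n + 1) n (by omega)).hom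
          ((cK.c (n + 1)).D (((mappingCone.fst φ).1.v n (n + 1) rfl).hom x)) +
        ((mappingCone.inr φ).f n).hom
          ((cL.c n).D (((mappingCone.snd φ).v n n (add_zero n)).hom x)) := rfl

theorem fst_inl (p q : ℤ) (hpq : q + 1 = p) (x : K.X p) :
    ((mappingCone.fst φ).1.v q p hpq).hom
      (((mappingCone.inl φ).v p q (by omega)).hom x) = x :=
  congrArg (fun f => f.hom x) (mappingCone.inl_v_fst_v φ p q hpq)

theorem snd_inl (p q : ℤ) (hpq : p + (-1) = q) (x : K.X p) :
    ((mappingCone.snd φ).v q q (add_zero q)).hom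
      (((mappingCone.inl φ).v p q hpq).hom x) = 0 :=
  congrArg (fun f => f.hom x) (mappingCone.inl_v_snd_v φ p q hpq)

theorem fst_inr (p q : ℤ) (hpq : p + 1 = q) (x : L.X p) :
    ((mappingCone.fst φ).1.v p q hpq).hom (((mappingCone.inr φ).f p).hom x) = 0 :=
  congrArg (fun f => f.hom x) (mappingCone.inr_f_fst_v φ p q hpq)

theorem snd_inr (p : ℤ) (x : L.X p) :
    ((mappingCone.snd φ).v p p (add_zero p)).hom (((mappingCone.inr φ).f p).hom x) = x :=
  congrArg (fun f => f.hom x) (mappingCone.inr_f_snd_v φ p)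

theorem fst_d (i j k : ℤ) (hij : i + 1 = j) (hjk : j + 1 = k) (x : (mappingCone φ).X i) :
    ((mappingCone.fst φ).1.v j k hjk).hom (((mappingCone φ).d i j).hom x) =
      -(K.d j k).hom (((mappingCone.fst φ).1.v i j hij).hom x) :=
  congrArg (fun f => f.hom x) (mappingCone.d_fst_v φ i j k hij hjk)

theorem snd_d (i j : ℤ) (hij : i + 1 = j) (x : (mappingCone φ).X i) :
    ((mappingCone.snd φ).v j j (add_zero j)).hom (((mappingCone φ).d i j).hom x) =
      (φ.f j).hom (((mappingCone.fst φ).1.v i j hij).hom x) +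
        (L.d i j).hom (((mappingCone.snd φ).v i i (add_zero i)).hom x) :=
  congrArg (fun f => f.hom x) (mappingCone.d_snd_v φ i j hij)

theorem cone_ext (p q : ℤ) (hpq : p + 1 = q) (x y : (mappingCone φ).X p)
    (h1 : ((mappingCone.fst φ).1.v p q hpq).hom x = ((mappingCone.fst φ).1.v p q hpq).hom y)
    (h2 : ((mappingCone.snd φ).v p p (add_zero p)).hom x =
      ((mappingCone.snd φ).v p p (add_zero p)).hom y) : x = y := by
  rw [Cech.cone_decomp φ p q hpq x, Cech.cone_decomp φ p q hpq y, h1, h2]

theorem fst_coneD (n : ℤ) (x : (mappingCone φ).X n) :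
    ((mappingCone.fst φ).1.v n (n + 1) rfl).hom (coneD cK cL φ n x) =
      (cK.c (n + 1)).D (((mappingCone.fst φ).1.v n (n + 1) rfl).hom x) := by
  rw [coneD_apply, map_add, fst_inl, fst_inr, add_zero]

theorem snd_coneD (n : ℤ) (x : (mappingCone φ).X n) :
    ((mappingCone.snd φ).v n n (add_zero n)).hom (coneD cK cL φ n x) =
      (cL.c n).D (((mappingCone.snd φ).v n n (add_zero n)).hom x) := by
  rw [coneD_apply, map_add, snd_inl, snd_inr, zero_add]

/-- the connection on the mapping cone of a horizontal morphism -/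
noncomputable def cone (hφ : Horiz cK cL φ) : CxConn θ (mappingCone φ) where
  c n :=
    { D := coneD cK cL φ n
      leib := fun a x => by
        have e1 : ((mappingCone.fst φ).1.v n (n + 1) rfl).hom (a • x) =
            a • ((mappingCone.fst φ).1.v n (n + 1) rfl).hom x := LinearMap.map_smul _ _ _
        have e2 : ((mappingCone.snd φ).v n n (add_zero n)).hom (a • x) =
            a • ((mappingCone.snd φ).v n n (add_zero n)).hom x := LinearMap.map_smul _ _ _
        have key : θ a • x =
            θ a • ((mappingCone.inl φ).v (n + 1) n (by omega)).hom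
                (((mappingCone.fst φ).1.v n (n + 1) rfl).hom x) +
              θ a • ((mappingCone.inr φ).f n).hom
                (((mappingCone.snd φ).v n n (add_zero n)).hom x) := by
          rw [← smul_add]
          exact congrArg (θ a • ·) (Cech.cone_decomp φ n (n + 1) rfl x)
        rw [coneD_apply, coneD_apply, e1, e2, (cK.c (n + 1)).leib, (cL.c n).leib, key]
        simp only [map_add, map_smul, smul_add]
        abel }
  comm n x := by
    apply cone_ext φ (n + 1) (n + 1 + 1) rfl
    · show ((mappingCone.fst φ).1.v (n + 1) (n + 1 + 1) rfl).hom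
          (coneD cK cL φ (n + 1) (((mappingCone φ).d n (n + 1)).hom x)) =
        ((mappingCone.fst φ).1.v (n + 1) (n + 1 + 1) rfl).hom
          (((mappingCone φ).d n (n + 1)).hom (coneD cK cL φ n x))
      rw [fst_coneD, fst_d φ n (n + 1) (n + 1 + 1) rfl rfl, fst_d φ n (n + 1) (n + 1 + 1) rfl rfl,
        fst_coneD, map_neg, cK.comm' (n + 1) (n + 1 + 1)]
    · show ((mappingCone.snd φ).v (n + 1) (n + 1) (add_zero _)).hom
          (coneD cK cL φ (n + 1) (((mappingCone φ).d n (n + 1)).hom x)) =
        ((mappingCone.snd φ).v (n + 1) (n + 1) (add_zero _)).hom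
          (((mappingCone φ).d n (n + 1)).hom (coneD cK cL φ n x))
      rw [snd_coneD, snd_d φ n (n + 1) rfl, snd_d φ n (n + 1) rfl, fst_coneD, snd_coneD, map_add,
        hφ (n + 1), cL.comm' n (n + 1)]

end Cone

section Shift

/-- the connection on a shifted complex -/
noncomputable def shift (cK : CxConn θ K) (a : ℤ) :
    CxConn θ ((CategoryTheory.shiftFunctor (CochainComplex (ModuleCat.{u} A) ℤ) a).obj K) where
  c n := (cK.c (n + a) : Conn θ (K.X (n + a)))
  comm n x := by
    show (cK.c (n + 1 + a)).D ((a.negOnePow • K.d (n + a) (n + 1 + a)).hom x) =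
      (a.negOnePow • K.d (n + a) (n + 1 + a)).hom ((cK.c (n + a)).D x)
    rw [Units.smul_def, ModuleCat.hom_zsmul, LinearMap.smul_apply, LinearMap.smul_apply, map_zsmul,
      cK.comm' (n + a) (n + 1 + a)]

/-- the connection on the mapping cocone of a horizontal morphism -/
noncomputable def cocone (cK : CxConn θ K) (cL : CxConn θ L) (φ : K ⟶ L) (hφ : Horiz cK cL φ) :
    CxConn θ (mappingCocone φ) :=
  (cone cK cL φ hφ).shift (-1)

end Shift

section Single

theorem nonempty_single (M : ModuleCat.{u} A) (cM : Conn θ M) :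
    Nonempty (CxConn θ ((HomologicalComplex.single (ModuleCat.{u} A) (ComplexShape.up ℤ) 0).obj M)) := by
  have h : ∀ n : ℤ, Nonempty (Conn θ
      (((HomologicalComplex.single (ModuleCat.{u} A) (ComplexShape.up ℤ) 0).obj M).X n)) := by
    intro n
    by_cases hn : n = 0
    · subst hn
      exact ⟨cM.transport
        (HomologicalComplex.singleObjXSelf (ComplexShape.up ℤ) 0 M).symm.toLinearEquiv⟩
    · have : Subsingleton
          (((HomologicalComplex.single (ModuleCat.{u} A) (ComplexShape.up ℤ) 0).obj M).X n) :=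
        ModuleCat.subsingleton_of_isZero
          (HomologicalComplex.isZero_single_obj_X (ComplexShape.up ℤ) 0 M n hn)
      exact ⟨Conn.ofSubsingleton⟩
  exact ⟨{ c := fun n => (h n).some, comm := fun n x => by simp }⟩

end Single

section Homology

theorem nonempty_homology (cK : CxConn θ K) (q : ℤ) : Nonempty (Conn θ (K.homology q)) := by
  have hZ : ∀ x ∈ LinearMap.ker (K.sc q).g.hom, (cK.c q).D x ∈ LinearMap.ker (K.sc q).g.hom := by
    intro x hx
    have this := cK.comm' q ((ComplexShape.up ℤ).next q) x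
    have hx' : (K.d q ((ComplexShape.up ℤ).next q)).hom x = 0 := hx
    show (K.d q ((ComplexShape.up ℤ).next q)).hom ((cK.c q).D x) = 0
    rw [← this, hx', map_zero]
  let cZ : Conn θ (LinearMap.ker (K.sc q).g.hom) := (cK.c q).restrict _ hZ
  have hB : ∀ z ∈ LinearMap.range (K.sc q).moduleCatToCycles,
      cZ.D z ∈ LinearMap.range (K.sc q).moduleCatToCycles := by
    rintro _ ⟨w, rfl⟩
    refine ⟨(cK.c ((ComplexShape.up ℤ).prev q)).D w, ?_⟩
    apply Subtype.ext
    exact (cK.comm' ((ComplexShape.up ℤ).prev q) q w).symm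
  exact ⟨(cZ.quotient _ hB).transport (K.sc q).moduleCatHomologyIso.symm.toLinearEquiv⟩

end Homology

end CxConn

end Groth.Agent.Lib.Helper58.DerLC
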