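import Groth.Agent.Lib.Helper58.DerLC2
import Groth.Agent.S11623

/-!
# A derivation of a Noetherian ring acts on its local cohomology
-/

set_option autoImplicit false
universe u
open CategoryTheory CategoryTheory.Limits CochainComplex HomologicalComplex
attribute [local instance] HasDerivedCategory.standard

namespace Groth.Agent.Lib.Helper58.DerLC

variable {A : Type u} [CommRing A] (θ : Derivation ℤ A A)

theorem nonempty_extCech (fs : List A) :
    Nonempty (CxConn θ (DerCA.extCech (ModuleCat.of A A) fs)) := by
  induction fs with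
  | nil => exact CxConn.nonempty_single (ModuleCat.of A A) (Conn.self θ)
  | cons f fs ih =>
    obtain ⟨c⟩ := ih
    exact ⟨CxConn.cocone c (c.loc (Submonoid.powers f))
      (DerCA.locCxUnit (Submonoid.powers f) (DerCA.extCech (ModuleCat.of A A) fs))
      (c.horiz_locCxUnit (Submonoid.powers f))⟩

theorem nonempty_conn_localCohomology [IsNoetherianRing A] (I : Ideal A) (i : ℕ) :
    Nonempty (Conn θ ((localCohomology I i).obj (ModuleCat.of A A))) := by
  obtain ⟨s, hs⟩ := (isNoetherianRing_iff_ideal_fg A).mp inferInstance I
  have hspan : Ideal.span {x | x ∈ (0 :: s.toList)} = I := by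
    have : {x | x ∈ (0 :: s.toList)} = insert (0 : A) (s : Set A) := by
      ext x
      simp
    rw [this, Ideal.span_insert_zero, ← hs]
  obtain ⟨cK⟩ := nonempty_extCech θ (0 :: s.toList)
  obtain ⟨cH⟩ := cK.nonempty_homology (i : ℤ)
  obtain ⟨e⟩ := Groth.Agent.S11623.result A (0 :: s.toList) (by simp) A i
  rw [hspan] at e
  exact ⟨cH.transport e.toLinearEquiv⟩

end Groth.Agent.Lib.Helper58.DerLC
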