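import Mathlib

/-!
# Flat descent of submodules (helper58)
-/

set_option autoImplicit false
universe u

open scoped TensorProduct

namespace Groth.Agent.Lib.Helper58.DescSub

variable {A B M : Type u} [CommRing A] [CommRing B] [Algebra A B] [AddCommGroup M] [Module A M]
  (N' : Submodule B (B ⊗[A] M))

/-- the quotient map, as an `A`-linear map -/
noncomputable def piA : B ⊗[A] M →ₗ[A] (B ⊗[A] M) ⧸ N' := N'.mkQ.restrictScalars A

/-- `m ↦ [1 ⊗ m]` -/
noncomputable def phi : M →ₗ[A] (B ⊗[A] M) ⧸ N' := piA N' ∘ₗ TensorProduct.mk A B M 1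

noncomputable def r₁ : B ⊗[A] M →ₗ[A] (B ⊗[A] B) ⊗[A] M :=
  (Algebra.TensorProduct.includeLeft : B →ₐ[A] B ⊗[A] B).toLinearMap.rTensor M

noncomputable def r₂ : B ⊗[A] M →ₗ[A] (B ⊗[A] B) ⊗[A] M :=
  (Algebra.TensorProduct.includeRight : B →ₐ[A] B ⊗[A] B).toLinearMap.rTensor M

noncomputable def psi : (B ⊗[A] B) ⊗[A] M →ₗ[A] B ⊗[A] ((B ⊗[A] M) ⧸ N') :=
  (LinearMap.lTensor B (piA N')) ∘ₗ (TensorProduct.assoc A B B M).toLinearMap

theorem psi_tmul (b₁ b₂ : B) (m : M) :
    psi N' ((b₁ ⊗ₜ[A] b₂) ⊗ₜ[A] m) = b₁ ⊗ₜ[A] N'.mkQ (b₂ ⊗ₜ[A] m) := by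
  simp [psi, piA]

theorem psi_comp_r₁ : psi N' ∘ₗ r₁ = LinearMap.lTensor B (phi N') := by
  apply TensorProduct.ext'
  intro b m
  simp [psi, r₁, phi, piA]

theorem psi_comp_r₂ : psi N' ∘ₗ r₂ = TensorProduct.mk A B _ 1 ∘ₗ piA N' := by
  apply TensorProduct.ext'
  intro b m
  simp [psi, r₂, piA]

noncomputable def T (c₁ c₂ : B) :
    B ⊗[A] ((B ⊗[A] M) ⧸ N') →ₗ[A] B ⊗[A] ((B ⊗[A] M) ⧸ N') :=
  TensorProduct.map (LinearMap.mulLeft A c₁)
    ((LinearMap.lsmul B ((B ⊗[A] M) ⧸ N') c₂).restrictScalars A)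

theorem psi_smul (c₁ c₂ : B) (y : (B ⊗[A] B) ⊗[A] M) :
    psi N' ((c₁ ⊗ₜ[A] c₂) • y) = T N' c₁ c₂ (psi N' y) := by
  have key : psi N' ∘ₗ ((LinearMap.lsmul (B ⊗[A] B) ((B ⊗[A] B) ⊗[A] M)
      (c₁ ⊗ₜ[A] c₂)).restrictScalars A) = T N' c₁ c₂ ∘ₗ psi N' := by
    apply TensorProduct.ext_threefold
    intro b₁ b₂ m
    simp only [LinearMap.comp_apply, LinearMap.restrictScalars_apply, LinearMap.lsmul_apply,
      TensorProduct.smul_tmul', smul_eq_mul, Algebra.TensorProduct.tmul_mul_tmul, psi_tmul, T,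
      TensorProduct.map_tmul, LinearMap.mulLeft_apply]
    congr 1
  exact LinearMap.congr_fun key y

theorem psi_eq_zero_of_mem (y : (B ⊗[A] B) ⊗[A] M)
    (hy2 : y ∈ Submodule.span (B ⊗[A] B)
      ((N'.restrictScalars A).map (r₂ (A := A) (B := B) (M := M)) : Set ((B ⊗[A] B) ⊗[A] M))) :
    psi N' y = 0 := by
  induction hy2 using Submodule.span_induction with
  | mem y hy =>
    obtain ⟨n', hn', rfl⟩ := hy
    have := LinearMap.congr_fun (psi_comp_r₂ N') n'
    simp only [LinearMap.comp_apply] at this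
    rw [this]
    have h0 : piA N' n' = 0 := (Submodule.Quotient.mk_eq_zero N').2 hn'
    rw [h0, map_zero]
  | zero => exact map_zero _
  | add y z _ _ hy hz => rw [map_add, hy, hz, add_zero]
  | smul c y _ hy =>
    induction c using TensorProduct.induction_on with
    | zero => rw [zero_smul, map_zero]
    | tmul c₁ c₂ => rw [psi_smul, hy, map_zero]
    | add c c' hc hc' => rw [add_smul, map_add, hc, hc', add_zero]

theorem main [Module.Flat A B]
    (h : Submodule.span (B ⊗[A] B)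
          ((N'.restrictScalars A).map
            ((Algebra.TensorProduct.includeLeft : B →ₐ[A] B ⊗[A] B).toLinearMap.rTensor M) :
              Set ((B ⊗[A] B) ⊗[A] M)) =
        Submodule.span (B ⊗[A] B)
          ((N'.restrictScalars A).map
            ((Algebra.TensorProduct.includeRight : B →ₐ[A] B ⊗[A] B).toLinearMap.rTensor M) :
              Set ((B ⊗[A] B) ⊗[A] M))) :
    ((N'.restrictScalars A).comap (TensorProduct.mk A B M 1)).baseChange B = N' := by
  have hN : (N'.restrictScalars A).comap (TensorProduct.mk A B M 1) = LinearMap.ker (phi N') := by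
    ext m
    simp only [Submodule.mem_comap, Submodule.restrictScalars_mem, LinearMap.mem_ker, phi, piA,
      LinearMap.comp_apply, LinearMap.restrictScalars_apply, Submodule.mkQ_apply,
      Submodule.Quotient.mk_eq_zero]
  apply le_antisymm
  · rw [Submodule.baseChange_eq_span, Submodule.span_le]
    rintro _ ⟨m, hm, rfl⟩
    exact hm
  · intro x hx
    have h1 : psi N' (r₁ x) = 0 := by
      apply psi_eq_zero_of_mem N'
      have hx1 : r₁ x ∈ Submodule.span (B ⊗[A] B)
          ((N'.restrictScalars A).map (r₁ (A := A) (B := B) (M := M)) :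
            Set ((B ⊗[A] B) ⊗[A] M)) := Submodule.subset_span ⟨x, hx, rfl⟩
      exact h ▸ hx1
    have h2 : LinearMap.lTensor B (phi N') x = 0 := by
      rw [← psi_comp_r₁]; exact h1
    have h3 : x ∈ LinearMap.ker (TensorProduct.AlgebraTensorModule.lTensor B B (phi N')) := h2
    rw [Module.Flat.ker_lTensor_eq] at h3
    rw [hN]
    exact h3

end Groth.Agent.Lib.Helper58.DescSub
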