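import Groth.Agent.Lib.Helper44.ARSysBasic
import Groth.Prelude.Def_DerCA
import Mathlib.RingTheory.Artinian.Module
import Mathlib.Algebra.Category.ModuleCat.Basic

/-!
# Inverse systems of Artinian modules with Artinian limit are essentially constant
-/

set_option autoImplicit false
universe u
open CategoryTheory CategoryTheory.Limits Opposite

namespace Groth.Agent.Lib.Helper58.EssConst

variable {A : Type u} [CommRing A] (X : ℕᵒᵖ ⥤ ModuleCat.{u} A) {H : ModuleCat.{u} A}
  (c : (Functor.const ℕᵒᵖ).obj H ⟶ X)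

/-- transition maps, as linear maps -/
noncomputable def t {n m : ℕ} (h : n ≤ m) : X.obj (op m) →ₗ[A] X.obj (op n) :=
  (ARSys.tr X h).hom

lemma t_comp {n m k : ℕ} (h : n ≤ m) (h' : m ≤ k) (z : X.obj (op k)) :
    t X h (t X h' z) = t X (h.trans h') z :=
  congrArg (fun f => f.hom z) (Groth.Agent.Lib.Helper44.tr_comp X h h')

lemma t_refl (n : ℕ) (z : X.obj (op n)) : t X (le_refl n) z = z :=
  congrArg (fun f => f.hom z) (Groth.Agent.Lib.Helper44.tr_refl X n)

/-- the cone maps, as linear maps -/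
noncomputable def cc (n : ℕ) : H →ₗ[A] X.obj (op n) := (c.app (op n)).hom

lemma t_cc {n m : ℕ} (h : n ≤ m) (x : H) : t X h (cc X c m x) = cc X c n x := by
  have := c.naturality (homOfLE h).op
  have h2 : c.app (op m) ≫ X.map (homOfLE h).op = c.app (op n) := by
    rw [← this]
    exact Category.id_comp _
  exact congrArg (fun f => f.hom x) h2

variable (hArt : ∀ n : ℕ, IsArtinian A (X.obj (op n)))

include hArt in
lemma exists_stable (n : ℕ) : ∃ r : ℕ, ∀ k : ℕ, n + r ≤ k → ∀ h : n ≤ k,
    LinearMap.range (t X h) = LinearMap.range (t X (Nat.le_add_right n r)) := by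
  have := hArt n
  let a : ℕ →o (Submodule A (X.obj (op n)))ᵒᵈ :=
    ⟨fun s => OrderDual.toDual (LinearMap.range (t X (Nat.le_add_right n s))), by
      intro s s' hss'
      change LinearMap.range (t X (Nat.le_add_right n s')) ≤ LinearMap.range (t X (Nat.le_add_right n s))
      rintro _ ⟨z, rfl⟩
      exact ⟨t X (Nat.add_le_add_left hss' n) z, t_comp X _ _ z⟩⟩
  obtain ⟨r, hr⟩ := IsArtinian.monotone_stabilizes a
  refine ⟨r, fun k hk h => ?_⟩
  obtain ⟨s, rfl⟩ : ∃ s, k = n + s := ⟨k - n, by omega⟩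
  exact (congrArg OrderDual.ofDual (hr s (by omega))).symm

/-- an index from which the images in `X_n` are stable -/
noncomputable def N (n : ℕ) : ℕ := n + Classical.choose (exists_stable X hArt n)

lemma le_N (n : ℕ) : n ≤ N X hArt n := Nat.le_add_right _ _

/-- the stable image in `X_n` -/
noncomputable def S (n : ℕ) : Submodule A (X.obj (op n)) := LinearMap.range (t X (le_N X hArt n))

lemma range_eq (n k : ℕ) (hk : N X hArt n ≤ k) (h : n ≤ k) : LinearMap.range (t X h) = S X hArt n :=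
  Classical.choose_spec (exists_stable X hArt n) k hk h

lemma surj_step (n : ℕ) (y : X.obj (op n)) (hy : y ∈ S X hArt n) :
    ∃ y' : X.obj (op (n + 1)), y' ∈ S X hArt (n + 1) ∧ t X (Nat.le_succ n) y' = y := by
  set k := max (N X hArt n) (N X hArt (n + 1)) with hk
  have h1 : n + 1 ≤ k := (le_N X hArt (n + 1)).trans (le_max_right _ _)
  have h0 : n ≤ k := (Nat.le_succ n).trans h1
  rw [← range_eq X hArt n k (le_max_left _ _) h0] at hy
  obtain ⟨z, rfl⟩ := hy
  refine ⟨t X h1 z, ?_, t_comp X _ _ z⟩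
  rw [← range_eq X hArt (n + 1) k (le_max_right _ _) h1]
  exact ⟨z, rfl⟩

/-- a compatible sequence of lifts in the stable images -/
noncomputable def w (n : ℕ) (y : X.obj (op n)) (hy : y ∈ S X hArt n) :
    ∀ j : ℕ, {z : X.obj (op (n + j)) // z ∈ S X hArt (n + j)}
  | 0 => ⟨y, hy⟩
  | (j + 1) => ⟨Classical.choose (surj_step X hArt (n + j) (w n y hy j).1 (w n y hy j).2),
      (Classical.choose_spec (surj_step X hArt (n + j) (w n y hy j).1 (w n y hy j).2)).1⟩

lemma w_step (n : ℕ) (y : X.obj (op n)) (hy : y ∈ S X hArt n) (j : ℕ) :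
    t X (Nat.le_succ (n + j)) (w X hArt n y hy (j + 1)).1 = (w X hArt n y hy j).1 :=
  (Classical.choose_spec (surj_step X hArt (n + j) (w X hArt n y hy j).1 (w X hArt n y hy j).2)).2

lemma w_compat (n : ℕ) (y : X.obj (op n)) (hy : y ∈ S X hArt n) (j j' : ℕ) (h : j ≤ j') :
    t X (Nat.add_le_add_left h n) (w X hArt n y hy j').1 = (w X hArt n y hy j).1 := by
  induction j', h using Nat.le_induction with
  | base => exact t_refl X _ _
  | succ j' h ih =>
    rw [← ih, ← w_step X hArt n y hy j', t_comp]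

include hArt in
lemma exists_family (n : ℕ) (y : X.obj (op n)) (hy : y ∈ S X hArt n) :
    ∃ Y : ∀ k : ℕ, X.obj (op k), (∀ (k k' : ℕ) (h : k ≤ k'), t X h (Y k') = Y k) ∧ Y n = y := by
  refine ⟨fun k => t X (Nat.le_add_left k n) (w X hArt n y hy k).1, ?_, ?_⟩
  · intro k k' h
    change t X h (t X (Nat.le_add_left k' n) (w X hArt n y hy k').1) =
      t X (Nat.le_add_left k n) (w X hArt n y hy k).1
    rw [← w_compat X hArt n y hy k k' h, t_comp, t_comp]
  · have := w_compat X hArt n y hy 0 n (Nat.zero_le n)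
    exact this

variable (hArtH : IsArtinian A H)
  (hinj : ∀ x : H, (∀ n : ℕ, cc X c n x = 0) → x = 0)
  (hsurj : ∀ Y : ∀ k : ℕ, X.obj (op k), (∀ (k k' : ℕ) (h : k ≤ k'), t X h (Y k') = Y k) →
    ∃ x : H, ∀ k : ℕ, cc X c k x = Y k)

include hArt hsurj in
lemma range_cc (n : ℕ) : LinearMap.range (cc X c n) = S X hArt n := by
  apply le_antisymm
  · rintro _ ⟨x, rfl⟩
    exact ⟨cc X c (N X hArt n) x, t_cc X c _ x⟩
  · intro y hy
    obtain ⟨Y, hY, hYn⟩ := exists_family X hArt n y hy
    obtain ⟨x, hx⟩ := hsurj Y hY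
    exact ⟨x, (hx n).trans hYn⟩

include hArtH hinj in
lemma exists_injective : ∃ i₀ : ℕ, Function.Injective (cc X c i₀) := by
  let a : ℕ →o (Submodule A H)ᵒᵈ :=
    ⟨fun n => OrderDual.toDual (LinearMap.ker (cc X c n)), by
      intro n n' hnn'
      change LinearMap.ker (cc X c n') ≤ LinearMap.ker (cc X c n)
      intro x hx
      rw [LinearMap.mem_ker] at hx ⊢
      rw [← t_cc X c hnn', hx, map_zero]⟩
  obtain ⟨i₀, hi₀⟩ := IsArtinian.monotone_stabilizes a
  refine ⟨i₀, ?_⟩
  rw [← LinearMap.ker_eq_bot, eq_bot_iff]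
  intro x hx
  rw [Submodule.mem_bot]
  apply hinj
  intro n
  by_cases hn : i₀ ≤ n
  · have : LinearMap.ker (cc X c i₀) = LinearMap.ker (cc X c n) :=
      congrArg OrderDual.ofDual (hi₀ n hn)
    rw [this] at hx
    exact hx
  · rw [← t_cc X c (le_of_not_ge hn), LinearMap.mem_ker.1 hx, map_zero]

include hArt hArtH hinj hsurj in
theorem isEssConstant : DerCA.IsEssConstant X H c := by
  obtain ⟨i₀, hi₀⟩ := exists_injective X c hArtH hinj
  set i := N X hArt i₀ with hi
  have hi₀i : i₀ ≤ i := le_N X hArt i₀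
  have hmem : ∀ (k : ℕ) (h : i₀ ≤ k) (z : X.obj (op k)), N X hArt i₀ ≤ k →
      t X h z ∈ LinearMap.range (cc X c i₀) := by
    intro k h z hk
    rw [range_cc X c hArt hsurj, ← range_eq X hArt i₀ k hk h]
    exact ⟨z, rfl⟩
  let e := LinearEquiv.ofInjective (cc X c i₀) hi₀
  let s : X.obj (op i) →ₗ[A] H :=
    e.symm.toLinearMap ∘ₗ (LinearMap.codRestrict (LinearMap.range (cc X c i₀)) (t X hi₀i)
      (fun z => hmem i hi₀i z le_rfl))
  have hs : ∀ z : X.obj (op i), cc X c i₀ (s z) = t X hi₀i z := by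
    intro z
    have : e (s z) = LinearMap.codRestrict (LinearMap.range (cc X c i₀)) (t X hi₀i)
        (fun z => hmem i hi₀i z le_rfl) z := e.apply_symm_apply _
    exact congrArg Subtype.val this
  refine ⟨i, ModuleCat.ofHom s, ?_, ?_⟩
  · apply ModuleCat.hom_ext
    apply LinearMap.ext
    intro x
    apply hi₀
    change cc X c i₀ (s (cc X c i x)) = cc X c i₀ x
    rw [hs, t_cc]
  · intro j
    set k := max i (N X hArt j) with hk
    have hik : i ≤ k := le_max_left _ _
    have hjk : j ≤ k := (le_N X hArt j).trans (le_max_right _ _)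
    refine ⟨k, hik, hjk, ?_⟩
    apply ModuleCat.hom_ext
    apply LinearMap.ext
    intro z
    change t X hjk z = cc X c j (s (t X hik z))
    have hx' : cc X c i₀ (s (t X hik z)) = t X (hi₀i.trans hik) z := by
      rw [hs, t_comp]
    by_cases hj : j ≤ i₀
    · rw [← t_cc X c hj, hx', t_comp]
    · have hj' : i₀ ≤ j := le_of_not_ge hj
      have hz : t X hjk z ∈ LinearMap.range (cc X c j) := by
        rw [range_cc X c hArt hsurj, ← range_eq X hArt j k (le_max_right _ _) hjk]
        exact ⟨z, rfl⟩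
      obtain ⟨x'', hx''⟩ := hz
      have : x'' = s (t X hik z) := by
        apply hi₀
        rw [hx', ← t_cc X c hj', hx'', t_comp]
      rw [← this, hx'']

end Groth.Agent.Lib.Helper58.EssConst
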