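import Groth.Agent.Lib.Helper41.LCCompare
import Groth.Agent.Lib.Helper58.LCX
import Mathlib.Algebra.Homology.DerivedCategory.Ext.Linear

/-!
# `Ext^n(F, G) ≃ Hom(F, H^n_J(G))` for finite `J`-power-torsion `F`, part 1

Pull-back of `Ext` classes along maps, as a bilinear map; the maps `φ_f : A/J^k → F`.
-/

set_option autoImplicit false
universe u
open CategoryTheory CategoryTheory.Limits Opposite CategoryTheory.Abelian

namespace Groth.Agent.Lib.Helper58.ExtRep

open Groth.Agent.Lib.Helper41.LC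

variable {A : Type u} [CommRing A] (J : Ideal A) (G : ModuleCat.{u} A) (n : ℕ)

/-- Pull-back of `Ext` classes, bilinear in the map and the class. -/
noncomputable def pb (X Y : ModuleCat.{u} A) :
    (X ⟶ Y) →ₗ[A] Ext.{u} Y G n →ₗ[A] Ext.{u} X G n :=
  (Ext.bilinearCompOfLinear A X Y G 0 n n (zero_add n)).comp
    (Ext.linearEquiv₀ (R := A) (X := X) (Y := Y)).symm.toLinearMap

lemma pb_apply {X Y : ModuleCat.{u} A} (u : X ⟶ Y) (e : Ext.{u} Y G n) :
    pb G n X Y u e = (Ext.mk₀ u).comp e (zero_add n) := rfl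

lemma pb_comp {X Y Z : ModuleCat.{u} A} (u : X ⟶ Y) (v : Y ⟶ Z) (e : Ext.{u} Z G n) :
    pb G n X Z (u ≫ v) e = pb G n X Y u (pb G n Y Z v e) := by
  rw [pb_apply, pb_apply, pb_apply, Ext.mk₀_comp_mk₀_assoc]

lemma pb_id {X : ModuleCat.{u} A} (e : Ext.{u} X G n) : pb G n X X (𝟙 X) e = e := by
  rw [pb_apply, Ext.mk₀_id_comp]

variable {J}

/-- `F` is killed by `J^k`. -/
def KilledBy (J : Ideal A) (k : ℕ) (F : ModuleCat.{u} A) : Prop := ∀ r ∈ J ^ k, ∀ f : F, r • f = 0

variable {k : ℕ} {F : ModuleCat.{u} A}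

/-- The map `A/J^k → F`, `1 ↦ f`, linear in `f`. -/
noncomputable def phiL (hF : KilledBy J k F) : F →ₗ[A] (Q J k ⟶ F) where
  toFun f := ModuleCat.ofHom (Submodule.liftQ (J ^ k) (LinearMap.toSpanSingleton A F f) (by
    intro r hr
    rw [LinearMap.mem_ker, LinearMap.toSpanSingleton_apply]
    exact hF r hr f))
  map_add' f f' := by
    apply ModuleCat.hom_ext
    apply LinearMap.ext
    intro y
    obtain ⟨c, rfl⟩ := Submodule.Quotient.mk_surjective _ y
    change c • (f + f') = c • f + c • f'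
    rw [smul_add]
  map_smul' r f := by
    apply ModuleCat.hom_ext
    apply LinearMap.ext
    intro y
    obtain ⟨c, rfl⟩ := Submodule.Quotient.mk_surjective _ y
    change c • (r • f) = r • (c • f)
    rw [smul_comm]

lemma phiL_mk (hF : KilledBy J k F) (f : F) (c : A) :
    (phiL hF f).hom (Submodule.Quotient.mk c) = c • f := rfl

lemma phiL_comp {F' : ModuleCat.{u} A} (hF : KilledBy J k F) (hF' : KilledBy J k F') (u : F ⟶ F')
    (f : F) : phiL hF f ≫ u = phiL hF' (u.hom f) := by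
  apply ModuleCat.hom_ext
  apply LinearMap.ext
  intro y
  obtain ⟨c, rfl⟩ := Submodule.Quotient.mk_surjective _ y
  change u.hom (c • f) = c • u.hom f
  rw [map_smul]

lemma killedBy_Q (J : Ideal A) (k : ℕ) : KilledBy J k (Q J k) := by
  intro r hr y
  obtain ⟨c, rfl⟩ := Submodule.Quotient.mk_surjective _ y
  change r • (Submodule.Quotient.mk c : A ⧸ J ^ k) = 0
  rw [← Submodule.Quotient.mk_smul, Submodule.Quotient.mk_eq_zero, smul_eq_mul]
  exact (J ^ k).mul_mem_right c hr

lemma phiL_Q_mk (c : A) :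
    phiL (killedBy_Q J k) (Submodule.Quotient.mk c : A ⧸ J ^ k) = c • 𝟙 (Q J k) := by
  apply ModuleCat.hom_ext
  apply LinearMap.ext
  intro y
  obtain ⟨d, rfl⟩ := Submodule.Quotient.mk_surjective _ y
  change d • (Submodule.Quotient.mk c : A ⧸ J ^ k) = c • (Submodule.Quotient.mk d : A ⧸ J ^ k)
  rw [← Submodule.Quotient.mk_smul, ← Submodule.Quotient.mk_smul, smul_eq_mul, smul_eq_mul, mul_comm]

/-- The comparison map `Ext^n(F, G) → Hom(F, H^n_J(G))`, `e ↦ (f ↦ [φ_f^* e])`. -/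
noncomputable def Phi (hF : KilledBy J k F) :
    Ext.{u} F G n →ₗ[A] (F →ₗ[A] (localCohomology J n).obj G) :=
  LinearMap.flip (((LinearMap.llcomp A (Ext.{u} F G n) (Ext.{u} (Q J k) G n)
    ((localCohomology J n).obj G) (ιH J n G k)).comp (pb G n (Q J k) F)).comp (phiL hF))

lemma Phi_apply (hF : KilledBy J k F) (e : Ext.{u} F G n) (f : F) :
    Phi G n hF e f = ιH J n G k (pb G n (Q J k) F (phiL hF f) e) := rfl

lemma Phi_pb {F' : ModuleCat.{u} A} (hF : KilledBy J k F) (hF' : KilledBy J k F') (u : F ⟶ F')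
    (e : Ext.{u} F' G n) (f : F) :
    Phi G n hF (pb G n F F' u e) f = Phi G n hF' e (u.hom f) := by
  rw [Phi_apply, Phi_apply, ← pb_comp, phiL_comp hF hF']

end Groth.Agent.Lib.Helper58.ExtRep
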