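import Groth.Agent.Lib.Helper58.ExtRep1

/-!
# `Ext^n(F, G) ≃ Hom(F, H^n_J(G))` for finite `J`-power-torsion `F`, part 2
-/

set_option autoImplicit false
universe u
open CategoryTheory CategoryTheory.Limits Opposite CategoryTheory.Abelian

namespace Groth.Agent.Lib.Helper58.ExtRep

open Groth.Agent.Lib.Helper41.LC Groth.Agent.Lib.Helper58.LCX

variable {A : Type u} [CommRing A] (J : Ideal A) (G : ModuleCat.{u} A) (n : ℕ)

/-- The class of finite modules killed by a power of `J`. -/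
def InC (F : ModuleCat.{u} A) : Prop := Module.Finite A F ∧ ∃ k, KilledBy J k F

/-- The vanishing hypothesis: `Ext^{n-1}(F', G) = 0` for all finite `J`-power-torsion `F'`. -/
def Van : Prop :=
  ∀ F' : ModuleCat.{u} A, InC J F' → ∀ i : ℕ, i + 1 = n → Subsingleton (Ext.{u} F' G i)

variable {J G n}

theorem pb_g_injective (hv : Van J G n) {S : ShortComplex (ModuleCat.{u} A)} (hS : S.ShortExact)
    (h1 : InC J S.X₁) (y : Ext.{u} S.X₃ G n) (hy : pb G n S.X₂ S.X₃ S.g y = 0) : y = 0 := by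
  cases n with
  | zero =>
    have := hS.epi_g
    apply Ext.precomp_mk₀_injective_of_epi G S.g
    exact hy.trans (map_zero _).symm
  | succ m =>
    obtain ⟨x₁, hx₁⟩ := Ext.contravariant_sequence_exact₃ hS G y hy (by omega : 1 + m = m + 1)
    have := hv S.X₁ h1 m rfl
    rw [← hx₁, Subsingleton.elim x₁ 0, Ext.comp_zero]

theorem exists_pb_g_eq {S : ShortComplex (ModuleCat.{u} A)} (hS : S.ShortExact)
    (x : Ext.{u} S.X₂ G n) (hx : pb G n S.X₁ S.X₂ S.f x = 0) :
    ∃ y : Ext.{u} S.X₃ G n, pb G n S.X₂ S.X₃ S.g y = x :=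
  Ext.contravariant_sequence_exact₂ hS G x hx

section Free

variable (J) (k r : ℕ)

/-- `(A/J^k)^r`. -/
abbrev Qr : ModuleCat.{u} A := ModuleCat.of A (Fin r → (A ⧸ J ^ k))

/-- The `j`-th inclusion. -/
noncomputable def inj (j : Fin r) : Q J k ⟶ Qr J k r :=
  ModuleCat.ofHom (LinearMap.single A (fun _ : Fin r => A ⧸ J ^ k) j)

/-- The `j`-th projection. -/
noncomputable def prj (j : Fin r) : Qr J k r ⟶ Q J k :=
  ModuleCat.ofHom (LinearMap.proj (R := A) (φ := fun _ : Fin r => A ⧸ J ^ k) j)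

lemma inj_prj_same (j : Fin r) : inj J k r j ≫ prj J k r j = 𝟙 _ := by
  apply ModuleCat.hom_ext
  exact LinearMap.proj_comp_single_same A (fun _ : Fin r => A ⧸ J ^ k) j

lemma inj_prj_ne (i j : Fin r) (h : i ≠ j) : inj J k r i ≫ prj J k r j = 0 := by
  apply ModuleCat.hom_ext
  exact LinearMap.proj_comp_single_ne A (fun _ : Fin r => A ⧸ J ^ k) j i h.symm

lemma sum_prj_inj : ∑ j, prj J k r j ≫ inj J k r j = 𝟙 (Qr J k r) := by
  apply ModuleCat.hom_ext
  rw [ModuleCat.hom_sum]
  apply LinearMap.ext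
  intro v
  rw [LinearMap.sum_apply]
  change ∑ j, Pi.single j (v j) = v
  exact Finset.univ_sum_single v

lemma killedBy_Qr : KilledBy J k (Qr J k r) := by
  intro c hc v
  funext j
  exact killedBy_Q J k c hc (v j)

variable {J k r}

theorem eq_zero_of_inj (e' : Ext.{u} (Qr J k r) G n)
    (h : ∀ j, pb G n _ _ (inj J k r j) e' = 0) : e' = 0 := by
  calc e' = pb G n _ _ (𝟙 (Qr J k r)) e' := (pb_id G n e').symm
    _ = pb G n _ _ (∑ j, prj J k r j ≫ inj J k r j) e' := by rw [sum_prj_inj]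
    _ = ∑ j, pb G n _ _ (prj J k r j ≫ inj J k r j) e' := by rw [map_sum, LinearMap.sum_apply]
    _ = 0 := Finset.sum_eq_zero (fun j _ => by rw [pb_comp, h j, map_zero])

theorem exists_with_inj (es : Fin r → Ext.{u} (Q J k) G n) :
    ∃ e' : Ext.{u} (Qr J k r) G n, ∀ i, pb G n _ _ (inj J k r i) e' = es i := by
  refine ⟨∑ j, pb G n _ _ (prj J k r j) (es j), fun i => ?_⟩
  rw [map_sum]
  rw [Finset.sum_eq_single i]
  · rw [← pb_comp, inj_prj_same, pb_id]
  · intro j _ hj
    rw [← pb_comp, inj_prj_ne J k r i j (Ne.symm hj), map_zero, LinearMap.zero_apply]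
  · intro hi
    exact absurd (Finset.mem_univ i) hi

variable {F : ModuleCat.{u} A}

/-- The map `(A/J^k)^r → F` given by `r` elements of `F`. -/
noncomputable def piQ (hF : KilledBy J k F) (gen : Fin r → F) : Qr J k r ⟶ F :=
  ∑ j, prj J k r j ≫ phiL hF (gen j)

lemma inj_piQ (hF : KilledBy J k F) (gen : Fin r → F) (i : Fin r) :
    inj J k r i ≫ piQ hF gen = phiL hF (gen i) := by
  rw [piQ, Preadditive.comp_sum, Finset.sum_eq_single i]
  · rw [← Category.assoc, inj_prj_same, Category.id_comp]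
  · intro j _ hj
    rw [← Category.assoc, inj_prj_ne J k r i j (Ne.symm hj), zero_comp]
  · intro hi
    exact absurd (Finset.mem_univ i) hi

lemma piQ_apply (hF : KilledBy J k F) (gen : Fin r → F) (c : Fin r → A) :
    (piQ hF gen).hom (fun j => (Submodule.Quotient.mk (c j) : A ⧸ J ^ k)) = ∑ j, c j • gen j := by
  rw [piQ, ModuleCat.hom_sum, LinearMap.sum_apply]
  rfl

lemma piQ_surjective (hF : KilledBy J k F) (gen : Fin r → F)
    (hgen : Submodule.span A (Set.range gen) = ⊤) : Function.Surjective (piQ hF gen).hom := by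
  intro f
  have hf : f ∈ Submodule.span A (Set.range gen) := by rw [hgen]; trivial
  obtain ⟨c, hc⟩ := (Submodule.mem_span_range_iff_exists_fun A).1 hf
  exact ⟨fun j => Submodule.Quotient.mk (c j), (piQ_apply hF gen c).trans hc⟩

end Free

end Groth.Agent.Lib.Helper58.ExtRep
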