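import Groth.Agent.Lib.Helper58.ExtRep2

/-!
# `Ext^n(F, G) ≃ Hom(F, H^n_J(G))` for finite `J`-power-torsion `F`, part 3
-/

set_option autoImplicit false
universe u
open CategoryTheory CategoryTheory.Limits Opposite CategoryTheory.Abelian

namespace Groth.Agent.Lib.Helper58.ExtRep

open Groth.Agent.Lib.Helper41.LC Groth.Agent.Lib.Helper58.LCX

variable {A : Type u} [CommRing A] [IsNoetherianRing A] {J : Ideal A} {G : ModuleCat.{u} A} {n : ℕ}

/-- A submodule of a finite module killed by `J^k` is in the class. -/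
lemma inC_ker {X Z : Type u} [AddCommGroup X] [Module A X] [AddCommGroup Z] [Module A Z]
    [Module.Finite A X] (g : X →ₗ[A] Z) (k : ℕ) (hX : ∀ c ∈ J ^ k, ∀ x : X, c • x = 0) :
    InC J (kerSC g).X₁ := by
  refine ⟨?_, k, ?_⟩
  · have : IsNoetherian A X := isNoetherian_of_isNoetherianRing_of_finite A X
    exact (inferInstance : Module.Finite A (LinearMap.ker g))
  · rintro c hc ⟨x, hx⟩
    exact Subtype.ext (hX c hc x)

lemma proj_surjective {k m : ℕ} (h : k ≤ m) : Function.Surjective (proj J h).hom := by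
  intro y
  obtain ⟨c, rfl⟩ := Submodule.Quotient.mk_surjective _ y
  exact ⟨Submodule.Quotient.mk c, rfl⟩

instance (k : ℕ) : Module.Finite A (A ⧸ J ^ k) := Module.Finite.quotient A _

/-- The structure maps `Ext^n(A/J^k, G) → H^n_J(G)` are injective under the vanishing hypothesis. -/
theorem ιH_injective (hv : Van J G n) (k : ℕ) : Function.Injective (ιH J n G k) := by
  rw [injective_iff_map_eq_zero]
  intro e he
  obtain ⟨m, hkm, h0⟩ := (ιH_eq_zero_iff k e).1 he
  have hS := kerSC_shortExact (proj J hkm).hom (proj_surjective hkm)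
  have hC : InC J (kerSC (proj J hkm).hom).X₁ :=
    inC_ker (X := A ⧸ J ^ m) (proj J hkm).hom m (killedBy_Q J m)
  exact pb_g_injective hv hS hC e h0

variable {k : ℕ} {F : ModuleCat.{u} A}

/-- A class all of whose pull-backs to `A/J^k` vanish is zero. -/
theorem eq_zero_of_forall_pb (hv : Van J G n) (hfin : Module.Finite A F) (hF : KilledBy J k F)
    (e : Ext.{u} F G n) (h : ∀ f, pb G n (Q J k) F (phiL hF f) e = 0) : e = 0 := by
  obtain ⟨r, gen, hgen⟩ := Module.Finite.exists_fin (R := A) (M := F)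
  have hsurj := piQ_surjective hF gen hgen
  have hS := kerSC_shortExact (piQ hF gen).hom hsurj
  have hC : InC J (kerSC (piQ hF gen).hom).X₁ :=
    inC_ker (X := Fin r → A ⧸ J ^ k) (piQ hF gen).hom k (killedBy_Qr J k r)
  have h1 : pb G n (Qr J k r) F (piQ hF gen) e = 0 := by
    apply eq_zero_of_inj
    intro j
    rw [← pb_comp, inj_piQ]
    exact h (gen j)
  exact pb_g_injective hv hS hC (e : Ext.{u} (kerSC (piQ hF gen).hom).X₃ G n) h1

/-- `J^k`-torsion classes of `H^n_J(G)` come from `Ext^n(A/J^k, G)`. -/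
theorem exists_ιH_eq (hv : Van J G n) (k : ℕ) (x : (localCohomology J n).obj G)
    (hx : ∀ c ∈ J ^ k, c • x = 0) : ∃ e : Ext.{u} (Q J k) G n, ιH J n G k e = x := by
  obtain ⟨m₀, e₀, rfl⟩ := exists_rep x
  -- wlog the level is `≥ k`
  set m := max m₀ k with hm
  have hm₀ : m₀ ≤ m := le_max_left _ _
  have hkm : k ≤ m := le_max_right _ _
  set e₁ : Ext.{u} (Q J m) G n := (Ext.mk₀ (proj J hm₀)).comp e₀ (zero_add n) with he₁
  have hx₁ : ιH J n G m e₁ = ιH J n G m₀ e₀ := ιH_comp hm₀ e₀
  rw [← hx₁] at hx ⊢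
  have h1 : ∀ c ∈ J ^ k, c • e₁ = 0 := by
    intro c hc
    apply ιH_injective hv m
    rw [map_smul, hx c hc, map_zero]
  have hS := kerSC_shortExact (proj J hkm).hom (proj_surjective hkm)
  have hC : InC J (kerSC (proj J hkm).hom).X₁ :=
    inC_ker (X := A ⧸ J ^ m) (proj J hkm).hom m (killedBy_Q J m)
  have hK : KilledBy J m (kerSC (proj J hkm).hom).X₁ := by
    rintro c hc ⟨y, hy⟩
    exact Subtype.ext (killedBy_Q J m c hc y)
  have h2 : pb G n _ _ (kerSC (proj J hkm).hom).f (e₁ : Ext.{u} (kerSC (proj J hkm).hom).X₂ G n) = 0 := by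
    apply eq_zero_of_forall_pb hv hC.1 hK
    intro κ
    have hX₂ : KilledBy J m (kerSC (proj J hkm).hom).X₂ := killedBy_Q J m
    rw [← pb_comp, phiL_comp hK hX₂ (kerSC (proj J hkm).hom).f κ]
    obtain ⟨y, hy⟩ := κ
    obtain ⟨c, rfl⟩ := Submodule.Quotient.mk_surjective _ y
    have hc : c ∈ J ^ k := by
      have h3 : (proj J hkm).hom (Submodule.Quotient.mk c) = 0 := hy
      change (Submodule.Quotient.mk c : A ⧸ J ^ k) = 0 at h3
      exact (Submodule.Quotient.mk_eq_zero _).1 h3
    change pb G n _ _ (phiL (killedBy_Q J m) (Submodule.Quotient.mk c : A ⧸ J ^ m)) e₁ = 0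
    rw [phiL_Q_mk, map_smul, LinearMap.smul_apply, pb_id]
    exact h1 c hc
  obtain ⟨e, he⟩ := exists_pb_g_eq hS _ h2
  refine ⟨e, ?_⟩
  have h4 : (Ext.mk₀ (proj J hkm)).comp e (zero_add n) = e₁ := he
  rw [← h4]
  exact (ιH_comp hkm e).symm

/-- The comparison map `Ext^n(F, G) → Hom(F, H^n_J(G))` is bijective. -/
theorem Phi_bijective (hv : Van J G n) (hfin : Module.Finite A F) (hF : KilledBy J k F) :
    Function.Bijective (Phi G n hF) := by
  constructor
  · rw [injective_iff_map_eq_zero]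
    intro e he
    apply eq_zero_of_forall_pb hv hfin hF
    intro f
    apply ιH_injective hv k
    rw [map_zero, ← Phi_apply, he, LinearMap.zero_apply]
  · intro h
    obtain ⟨r, gen, hgen⟩ := Module.Finite.exists_fin (R := A) (M := F)
    have hsurj := piQ_surjective hF gen hgen
    have hS := kerSC_shortExact (piQ hF gen).hom hsurj
    have hC : InC J (kerSC (piQ hF gen).hom).X₁ :=
      inC_ker (X := Fin r → A ⧸ J ^ k) (piQ hF gen).hom k (killedBy_Qr J k r)
    have hK : KilledBy J k (kerSC (piQ hF gen).hom).X₁ := by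
      rintro c hc ⟨y, hy⟩
      exact Subtype.ext (killedBy_Qr J k r c hc y)
    -- classes `e_j` with `[e_j] = h (gen j)`
    have hes : ∀ j, ∃ e : Ext.{u} (Q J k) G n, ιH J n G k e = h (gen j) := by
      intro j
      apply exists_ιH_eq hv k
      intro c hc
      rw [← map_smul, hF c hc, map_zero]
    choose es hes using hes
    obtain ⟨e', he'⟩ := exists_with_inj (G := G) (n := n) es
    -- `Φ(e') = h ∘ π`
    have h1 : Phi G n (killedBy_Qr J k r) e' = h ∘ₗ (piQ hF gen).hom := by
      apply LinearMap.pi_ext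
      intro j y
      obtain ⟨c, rfl⟩ := Submodule.Quotient.mk_surjective _ y
      have h2 : (Pi.single j (Submodule.Quotient.mk c : A ⧸ J ^ k) : Fin r → A ⧸ J ^ k) =
          (inj J k r j).hom (Submodule.Quotient.mk c) := rfl
      rw [h2, ← Phi_pb G n (killedBy_Q J k) (killedBy_Qr J k r), he' j, Phi_apply, phiL_Q_mk, map_smul,
        LinearMap.smul_apply, pb_id, map_smul, hes j, LinearMap.comp_apply]
      have h3 : (piQ hF gen).hom ((inj J k r j).hom (Submodule.Quotient.mk c)) = c • gen j := by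
        have h4 := congrArg (fun t => t.hom (Submodule.Quotient.mk c : A ⧸ J ^ k)) (inj_piQ hF gen j)
        exact h4
      rw [h3, map_smul]
    -- `e'` restricted to the kernel vanishes
    have h5 : pb G n _ _ (kerSC (piQ hF gen).hom).f
        (e' : Ext.{u} (kerSC (piQ hF gen).hom).X₂ G n) = 0 := by
      apply eq_zero_of_forall_pb hv hC.1 hK
      intro κ
      apply ιH_injective hv k
      have hX₂ : KilledBy J k (kerSC (piQ hF gen).hom).X₂ := killedBy_Qr J k r
      have h1' : Phi G n hX₂ (e' : Ext.{u} (kerSC (piQ hF gen).hom).X₂ G n) =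
          h ∘ₗ (piQ hF gen).hom := h1
      rw [map_zero, ← Phi_apply, Phi_pb G n hK hX₂ (kerSC (piQ hF gen).hom).f _ κ, h1']
      obtain ⟨y, hy⟩ := κ
      have h6 : (piQ hF gen).hom y = 0 := hy
      change h ((piQ hF gen).hom y) = 0
      rw [h6, map_zero]
    obtain ⟨e, he⟩ := exists_pb_g_eq hS _ h5
    refine ⟨(e : Ext.{u} F G n), ?_⟩
    apply LinearMap.ext
    intro f
    obtain ⟨v, rfl⟩ := hsurj f
    have h7 : pb G n (Qr J k r) F (piQ hF gen) (e : Ext.{u} F G n) = e' := he
    rw [← Phi_pb G n (killedBy_Qr J k r) hF, h7, h1, LinearMap.comp_apply]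

end Groth.Agent.Lib.Helper58.ExtRep
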