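import Groth.Agent.Lib.Helper58.ExtRep3
import Mathlib.RingTheory.Support

/-!
# `Ext^n(F, G) ≃ Hom(F, H^n_J(G))`, part 4: support conditions and the final statement.
-/

set_option autoImplicit false
universe u
open CategoryTheory CategoryTheory.Limits Opposite CategoryTheory.Abelian

namespace Groth.Agent.Lib.Helper58.ExtRep

open Groth.Agent.Lib.Helper41.LC Groth.Agent.Lib.Helper41.OldExt

variable {A : Type u} [CommRing A] [IsNoetherianRing A] (J : Ideal A)

/-- A finite module supported in `V(J)` is killed by a power of `J`. -/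
theorem exists_killedBy_of_support (F : Type u) [AddCommGroup F] [Module A F] [Module.Finite A F]
    (hF : Module.support A F ⊆ PrimeSpectrum.zeroLocus (J : Set A)) :
    ∃ k, KilledBy J k (ModuleCat.of A F) := by
  rw [Module.support_eq_zeroLocus, PrimeSpectrum.zeroLocus_subset_zeroLocus_iff] at hF
  have h1 : J ≤ (Module.annihilator A F).radical := hF
  obtain ⟨k, hk⟩ := Ideal.exists_pow_le_of_le_radical_of_fg h1 (IsNoetherian.noetherian J)
  exact ⟨k, fun r hr f => Module.mem_annihilator.1 (hk hr) f⟩

/-- A finite module killed by a power of `J` is supported in `V(J)`. -/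
theorem support_subset_of_killedBy (F : Type u) [AddCommGroup F] [Module A F] [Module.Finite A F]
    (k : ℕ) (hF : KilledBy J k (ModuleCat.of A F)) :
    Module.support A F ⊆ PrimeSpectrum.zeroLocus (J : Set A) := by
  intro p hp
  rw [Module.mem_support_iff_of_finite] at hp
  have h1 : J ^ k ≤ Module.annihilator A F := fun r hr => Module.mem_annihilator.2 (hF r hr)
  exact Ideal.IsPrime.le_of_pow_le (h1.trans hp)

/-- The vanishing hypothesis in its "support" form implies `Van`. -/
theorem van_of_support (G : Type u) [AddCommGroup G] [Module A G] (n : ℕ)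
    (hvan : ∀ (F' : Type u) [AddCommGroup F'] [Module A F'], Module.Finite A F' →
      Module.support A F' ⊆ PrimeSpectrum.zeroLocus (J : Set A) → ∀ i : ℕ, i + 1 = n →
        Subsingleton (Ext.{u} (ModuleCat.of A F') (ModuleCat.of A G) i)) :
    Van J (ModuleCat.of A G) n := by
  rintro F' ⟨hfin, k, hk⟩ i hi
  exact hvan F' hfin (support_subset_of_killedBy J F' k hk) i hi

/-- Main theorem: `Ext^n(F, G) ≃ Hom(F, H^n_J(G))`. -/
theorem nonempty_ext_equiv (G : Type u) [AddCommGroup G] [Module A G] (n : ℕ)
    (hv : Van J (ModuleCat.of A G) n)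
    (F : Type u) [AddCommGroup F] [Module A F] [Module.Finite A F]
    (hF : Module.support A F ⊆ PrimeSpectrum.zeroLocus (J : Set A)) :
    Nonempty (Ext.{u} (ModuleCat.of A F) (ModuleCat.of A G) n ≃ₗ[A]
      (F →ₗ[A] (localCohomology J n).obj (ModuleCat.of A G))) := by
  obtain ⟨k, hk⟩ := exists_killedBy_of_support J F hF
  exact ⟨LinearEquiv.ofBijective (Phi (ModuleCat.of A G) n hk)
    (Phi_bijective hv (inferInstance : Module.Finite A F) hk)⟩

end Groth.Agent.Lib.Helper58.ExtRep
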