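import Groth.Agent.Lib.Helper41.LCTopSupp
import Mathlib.RingTheory.Ideal.AssociatedPrime.Basic

/-!
# `Hom(P, H) = 0` and `Supp H ⊆ Supp P` imply `H = 0`
-/

set_option autoImplicit false
universe u

namespace Groth.Agent.Lib.Helper58.SuppHom

open Groth.Agent.Lib.Helper41.LC

theorem subsingleton_of_hom_subsingleton (A : Type u) [CommRing A] [IsNoetherianRing A] (P H : Type u)
    [AddCommGroup P] [Module A P] [Module.Finite A P] [AddCommGroup H] [Module A H]
    (hsupp : Module.support A H ⊆ Module.support A P) (hhom : Subsingleton (P →ₗ[A] H)) :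
    Subsingleton H := by
  by_contra hH
  rw [not_subsingleton_iff_nontrivial] at hH
  obtain ⟨p, hp⟩ := associatedPrimes.nonempty A H
  obtain ⟨hprime, f, hf⟩ := (isAssociatedPrime_iff_exists_injective_linearMap p H).1 hp
  let P' : PrimeSpectrum A := ⟨p, hprime⟩
  have hpH : P' ∈ Module.support A H := by
    rw [Module.mem_support_iff_exists_annihilator]
    refine ⟨f 1, fun r hr => ?_⟩
    rw [Submodule.mem_annihilator_span_singleton] at hr
    have h1 : f (r • (1 : A ⧸ p)) = 0 := by rw [map_smul, hr]
    have h2 : r • (1 : A ⧸ p) = 0 := hf (h1.trans (map_zero f).symm)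
    have h3 : (Ideal.Quotient.mk p r) = 0 := by
      rw [← h2, Algebra.smul_def, mul_one]
      rfl
    exact Ideal.Quotient.eq_zero_iff_mem.1 h3
  obtain ⟨φ, hφ⟩ := exists_linearMap_quotient_ne_zero P P' (hsupp hpH)
  apply hφ
  have h0 : f ∘ₗ φ = 0 := Subsingleton.elim _ _
  apply LinearMap.ext
  intro x
  apply hf
  have := LinearMap.congr_fun h0 x
  rw [LinearMap.comp_apply, LinearMap.zero_apply] at this
  rw [this, LinearMap.zero_apply, map_zero]

end Groth.Agent.Lib.Helper58.SuppHom
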