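import Groth.Agent.Lib.Helper58.ExtRep4
import Groth.Agent.Lib.Helper58.SuppHom
import Groth.Agent.Lib.Helper41.LCFaltings

/-!
# Vanishing of `H^i_J(G)` for `i < n` versus vanishing of `Ext^i(F, G)` for `i < n`
-/

set_option autoImplicit false
universe u
open CategoryTheory CategoryTheory.Limits Opposite CategoryTheory.Abelian

namespace Groth.Agent.Lib.Helper58.ExtRep

open Groth.Agent.Lib.Helper41.LC

variable {A : Type u} [CommRing A] [IsNoetherianRing A] (J : Ideal A)
  (G : Type u) [AddCommGroup G] [Module A G]

theorem ext_subsingleton_of_H (n : ℕ)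
    (hH : ∀ i : ℕ, i < n → Subsingleton ((localCohomology J i).obj (ModuleCat.of A G))) :
    ∀ i : ℕ, i < n → ∀ (F : Type u) [AddCommGroup F] [Module A F], Module.Finite A F →
      Module.support A F ⊆ PrimeSpectrum.zeroLocus (J : Set A) →
        Subsingleton (Ext.{u} (ModuleCat.of A F) (ModuleCat.of A G) i) := by
  intro i
  induction i using Nat.strong_induction_on with
  | _ i ih =>
    intro hi F _ _ hfin hsupp
    have hv : Van J (ModuleCat.of A G) i := by
      apply van_of_support
      intro F' _ _ hfin' hsupp' j hj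
      exact ih j (by omega) (by omega) F' hfin' hsupp'
    obtain ⟨e⟩ := nonempty_ext_equiv J G i hv F hsupp
    have := hH i hi
    have h1 : Subsingleton (F →ₗ[A] (localCohomology J i).obj (ModuleCat.of A G)) :=
      ⟨fun f g => LinearMap.ext fun x => Subsingleton.elim _ _⟩
    exact e.toEquiv.subsingleton

theorem H_subsingleton_of_ext (n : ℕ)
    (hExt : ∀ (F : Type u) [AddCommGroup F] [Module A F], Module.Finite A F →
      Module.support A F ⊆ PrimeSpectrum.zeroLocus (J : Set A) → ∀ i : ℕ, i < n →
        Subsingleton (Ext.{u} (ModuleCat.of A F) (ModuleCat.of A G) i)) :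
    ∀ i : ℕ, i < n → Subsingleton ((localCohomology J i).obj (ModuleCat.of A G)) := by
  intro i hi
  have key : ∀ x : (localCohomology J i).obj (ModuleCat.of A G), x = 0 := by
    intro x
    obtain ⟨k, e, rfl⟩ := exists_rep x
    have := hExt (A ⧸ J ^ k) inferInstance
      (support_subset_of_killedBy J (A ⧸ J ^ k) k (killedBy_Q J k)) i hi
    rw [Subsingleton.elim e 0, map_zero]
  exact ⟨fun x y => by rw [key x, key y]⟩

theorem support_H_subset (i : ℕ) :
    Module.support A ((localCohomology J i).obj (ModuleCat.of A G)) ⊆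
      PrimeSpectrum.zeroLocus (J : Set A) := by
  intro p hp
  rw [Module.mem_support_iff_exists_annihilator] at hp
  obtain ⟨m, hm⟩ := hp
  obtain ⟨k, hk⟩ := isTorsion_H J i (ModuleCat.of A G) m
  have h1 : J ^ k ≤ (Submodule.span A {m}).annihilator := by
    intro r hr
    rw [Submodule.mem_annihilator_span_singleton]
    exact hk r hr
  exact Ideal.IsPrime.le_of_pow_le (h1.trans hm)

theorem support_quotient_eq : Module.support A (A ⧸ J) = PrimeSpectrum.zeroLocus (J : Set A) := by
  rw [Module.support_eq_zeroLocus, Ideal.annihilator_quotient]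

theorem H_subsingleton_of_ext_one (n : ℕ) (F : Type u) [AddCommGroup F] [Module A F]
    [Module.Finite A F] (hsupp : Module.support A F = PrimeSpectrum.zeroLocus (J : Set A))
    (hExt : ∀ i : ℕ, i < n → Subsingleton (Ext.{u} (ModuleCat.of A F) (ModuleCat.of A G) i)) :
    ∀ i : ℕ, i < n → Subsingleton ((localCohomology J i).obj (ModuleCat.of A G)) := by
  intro i
  induction i using Nat.strong_induction_on with
  | _ i ih =>
    intro hi
    have h1 := ext_subsingleton_of_H J G i (fun j hj => ih j hj (by omega))
    have hv : Van J (ModuleCat.of A G) i := by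
      apply van_of_support
      intro F' _ _ hfin' hsupp' j hj
      exact h1 j (by omega) F' hfin' hsupp'
    obtain ⟨e⟩ := nonempty_ext_equiv J G i hv F hsupp.le
    have := hExt i hi
    have h2 : Subsingleton (F →ₗ[A] (localCohomology J i).obj (ModuleCat.of A G)) :=
      e.symm.toEquiv.subsingleton
    apply Groth.Agent.Lib.Helper58.SuppHom.subsingleton_of_hom_subsingleton A F _ _ h2
    rw [hsupp]
    exact support_H_subset J G i

end Groth.Agent.Lib.Helper58.ExtRep
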