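import Groth.Agent.Lib.Helper41.LC0
import Groth.Agent.Lib.Helper41.LCTorsion
import Mathlib.Algebra.Homology.DerivedCategory.Ext.ExactSequences
import Mathlib.Algebra.Homology.DerivedCategory.Ext.EnoughProjectives
import Mathlib.Algebra.Homology.DerivedCategory.Ext.EnoughInjectives
import Groth.Prelude.Def_Wider

/-!
# Universal `Ext` classes and uniform vanishing of transition maps above the cohomological dimension
-/

set_option autoImplicit false
universe u
open CategoryTheory CategoryTheory.Limits CategoryTheory.Abelian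

namespace Groth.Agent.Lib.Helper58.ExtUniv

open Groth.Agent.Lib.Helper41.LC

variable {A : Type u} [CommRing A]

/-- Every module `X` and degree `k` admit a universal class `Ξ ∈ Ext^k(X, Z)`: every class in
`Ext^k(X, N)` is the push-forward of `Ξ` along some map `Z ⟶ N`. -/
theorem exists_universal (k : ℕ) : ∀ X : ModuleCat.{u} A,
    ∃ (Z : ModuleCat.{u} A) (Ξ : Ext.{u} X Z k), ∀ (N : ModuleCat.{u} A) (φ : Ext.{u} X N k),
      ∃ g : Z ⟶ N, φ = Ξ.comp (Ext.mk₀ g) (add_zero k) := by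
  induction k with
  | zero =>
    intro X
    refine ⟨X, Ext.mk₀ (𝟙 X), fun N φ => ⟨Ext.homEquiv₀ φ, ?_⟩⟩
    rw [Ext.mk₀_comp_mk₀, Category.id_comp, Ext.mk₀_homEquiv₀_apply]
  | succ k ih =>
    intro X
    let π := Projective.π X
    let S : ShortComplex (ModuleCat.{u} A) := ShortComplex.mk (kernel.ι π) π (kernel.condition π)
    have hS : S.ShortExact :=
      { exact := ShortComplex.exact_of_f_is_kernel _ (kernelIsKernel π)
        mono_f := inferInstanceAs (Mono (kernel.ι π))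
        epi_g := inferInstanceAs (Epi (Projective.π X)) }
    have hP : Projective S.X₂ := inferInstanceAs (Projective (Projective.over X))
    obtain ⟨Z, Ξ', hΞ'⟩ := ih S.X₁
    refine ⟨Z, hS.extClass.comp Ξ' (by omega : 1 + k = k + 1), fun N φ => ?_⟩
    have h0 : (Ext.mk₀ S.g).comp φ (zero_add (k + 1)) = 0 := Ext.eq_zero_of_projective _
    obtain ⟨x, hx⟩ := Ext.contravariant_sequence_exact₃ hS N φ h0 (by omega : 1 + k = k + 1)
    obtain ⟨g, hg⟩ := hΞ' N x
    refine ⟨g, ?_⟩
    rw [← hx, hg, Ext.comp_assoc_of_third_deg_zero]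

variable [IsNoetherianRing A] (I : Ideal A)

/-- If `cd(A, I) ≤ e`, then for every `n` there is `m > n` such that `A/I^m → A/I^n` kills
`Ext^i(A/I^n, N)` for all `N` and all `i > e`. -/
theorem exists_uniform (e : ℕ) (he : LocCoh.CdLE A I e) (n : ℕ) :
    ∃ (m : ℕ) (hm : n < m), ∀ (N : ModuleCat.{u} A) (i : ℕ), e < i → ∀ φ : Ext.{u} (Q I n) N i,
      (Ext.mk₀ (proj I (Nat.le_of_lt hm))).comp φ (zero_add i) = 0 := by
  obtain ⟨Z, Ξ, hΞ⟩ := exists_universal (A := A) (e + 1) (Q I n)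
  have hsub : Subsingleton ((localCohomology I (e + 1)).obj Z) := he Z (e + 1) (Nat.lt_succ_self e)
  have h0 : ιH I (e + 1) Z n Ξ = 0 := Subsingleton.elim _ _
  rw [ιH_eq_zero_iff] at h0
  obtain ⟨m₀, hm₀, hz⟩ := h0
  have hm : n < m₀ + 1 := Nat.lt_succ_of_le hm₀
  have hΞ0 : (Ext.mk₀ (proj I (Nat.le_of_lt hm))).comp Ξ (zero_add (e + 1)) = 0 := by
    rw [← proj_comp I hm₀ (Nat.le_succ m₀), ← Ext.mk₀_comp_mk₀_assoc, hz, Ext.comp_zero]
  refine ⟨m₀ + 1, hm, ?_⟩
  intro N i hi
  have hle : e + 1 ≤ i := hi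
  revert N
  induction i, hle using Nat.le_induction with
  | base =>
    intro N φ
    obtain ⟨g, rfl⟩ := hΞ N φ
    have := Ext.comp_assoc (Ext.mk₀ (proj I (Nat.le_of_lt hm))) Ξ (Ext.mk₀ g) (zero_add (e + 1))
      (add_zero (e + 1)) (by omega : 0 + (e + 1) + 0 = e + 1)
    rw [← this, hΞ0, Ext.zero_comp]
  | succ i hle ih =>
    intro N φ
    let S : ShortComplex (ModuleCat.{u} A) :=
      ShortComplex.mk (Injective.ι N) (cokernel.π (Injective.ι N)) (cokernel.condition _)
    have hS : S.ShortExact := shortExact_of_mono (Injective.ι N)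
    have hE : Injective S.X₂ := inferInstanceAs (Injective (Injective.under N))
    have h1 : φ.comp (Ext.mk₀ S.f) (add_zero (i + 1)) = 0 := Ext.eq_zero_of_injective _
    obtain ⟨ψ, hψ⟩ := Ext.covariant_sequence_exact₁ _ hS φ h1 (rfl : i + 1 = i + 1)
    have := Ext.comp_assoc (Ext.mk₀ (proj I (Nat.le_of_lt hm))) ψ hS.extClass (zero_add i)
      (rfl : i + 1 = i + 1) (by omega : 0 + i + 1 = i + 1)
    rw [← hψ, ← this, ih (Nat.lt_of_succ_le hle) S.X₃ ψ, Ext.zero_comp]

end Groth.Agent.Lib.Helper58.ExtUniv
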