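import Mathlib

/-!
# Counit mono for fully faithful exact functors preserving simples (helper58)
-/

set_option autoImplicit false
universe v u v' u'

open CategoryTheory CategoryTheory.Limits

namespace Groth.Agent.Lib.Helper58.FinLenMono

variable {A : Type u} [Category.{v} A] [Abelian A] {B : Type u'} [Category.{v'} B] [Abelian B]
  (u : A ⥤ B) [u.Full] [u.Faithful] [PreservesFiniteLimits u] [PreservesFiniteColimits u]

/-- If `z ≫ u(π_s) = 0`, then `z` factors through `u(s)`. -/
theorem exists_lift_of_comp_cokernel {C S : A} (s : S ⟶ C) [Mono s] {Z : B} (z : Z ⟶ u.obj C)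
    (hz : z ≫ u.map (cokernel.π s) = 0) : ∃ w : Z ⟶ u.obj S, w ≫ u.map s = z := by
  have hlim := Abelian.monoIsKernelOfCokernel _ (colimit.isColimit (parallelPair s 0))
  have hlim' := KernelFork.mapIsLimit _ hlim u
  obtain ⟨w, hw⟩ := KernelFork.IsLimit.lift' hlim' z hz
  exact ⟨w, hw⟩

theorem key
    (hlen : ∀ X : A, IsArtinianObject X ∧ IsNoetherianObject X)
    (hsimple : ∀ X : A, Simple X → Simple (u.obj X))
    {X : A} {K : B} (k : K ⟶ u.obj X) [Mono k]
    (hK : ∀ (T : A) (j : u.obj T ⟶ K), j = 0) : k = 0 := by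
  by_contra hk
  haveI := (hlen X).2
  let 𝒮 : Set (Subobject X) := {T | ∃ (C : A) (p : X ⟶ C), Epi p ∧ kernelSubobject p = T ∧
    Mono (k ≫ u.map p)}
  have hne : 𝒮.Nonempty := ⟨kernelSubobject (𝟙 X), X, 𝟙 X, inferInstance, rfl, by
    rw [u.map_id, Category.comp_id]; infer_instance⟩
  obtain ⟨T, ⟨C, p, hp, rfl, hmono⟩, hmax⟩ :=
    WellFounded.has_min (wellFounded_gt : WellFounded ((· > ·) : Subobject X → _ → Prop)) 𝒮 hne
  -- `C` is not zero
  have hC : ¬ IsZero C := by
    intro hC
    apply hk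
    have h0 : k ≫ u.map p = 0 := (u.map_isZero hC).eq_of_tgt _ _
    have h1 : (𝟙 K) = 0 :=
      (cancel_mono (k ≫ u.map p)).1 (by rw [Category.id_comp, h0, zero_comp])
    rw [← Category.id_comp k, h1, zero_comp]
  haveI := (hlen C).1
  obtain ⟨S, hS⟩ := exists_simple_subobject hC
  haveI := hS
  haveI : Simple (u.obj (S : A)) := hsimple _ hS
  let s : (S : A) ⟶ C := S.arrow
  have hs0 : s ≠ 0 := fun h0 => id_nonzero (S : A) ((cancel_mono s).1 (by rw [h0, comp_zero, zero_comp]))
  let π₁ := pullback.fst (k ≫ u.map p) (u.map s)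
  let π₂ := pullback.snd (k ≫ u.map p) (u.map s)
  have hcond : π₁ ≫ (k ≫ u.map p) = π₂ ≫ u.map s := pullback.condition
  haveI : Mono π₂ := inferInstance
  by_cases h2 : π₂ = 0
  · -- then `k ≫ u(p ≫ π_s)` is mono, contradicting maximality
    have hmono' : Mono (k ≫ u.map (p ≫ cokernel.π s)) := by
      apply Preadditive.mono_of_cancel_zero
      intro Z z hz
      rw [u.map_comp, ← Category.assoc, ← Category.assoc] at hz
      obtain ⟨w, hw⟩ := exists_lift_of_comp_cokernel u s (z ≫ k ≫ u.map p) (by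
        rw [Category.assoc, Category.assoc] at hz ⊢; exact hz)
      have h3 : pullback.lift z w (by rw [hw]) ≫ π₂ = w := pullback.lift_snd _ _ _
      have h4 : pullback.lift z w (by rw [hw]) ≫ π₁ = z := pullback.lift_fst _ _ _
      have hw0 : w = 0 := by rw [← h3, h2, comp_zero]
      have : z ≫ (k ≫ u.map p) = 0 := by rw [← hw, hw0, zero_comp]
      exact (cancel_mono (k ≫ u.map p)).1 (by rw [this, zero_comp])
    have hmem : kernelSubobject (p ≫ cokernel.π s) ∈ 𝒮 :=
      ⟨_, p ≫ cokernel.π s, epi_comp _ _, rfl, hmono'⟩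
    apply hmax _ hmem
    refine lt_of_le_of_ne (kernelSubobject_comp_le p (cokernel.π s)) ?_
    intro heq
    -- pull back `s` along `p`
    let f₁ := pullback.fst p s
    let f₂ := pullback.snd p s
    have hf : f₁ ≫ p = f₂ ≫ s := pullback.condition
    haveI : Epi f₂ := Abelian.epi_pullback_of_epi_f p s
    have h5 : f₁ ≫ (p ≫ cokernel.π s) = 0 := by
      rw [← Category.assoc, hf, Category.assoc, cokernel.condition, comp_zero]
    have h6 : (kernelSubobject (p ≫ cokernel.π s)).Factors f₁ := kernelSubobject_factors _ _ h5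
    rw [← heq] at h6
    have h7 : f₁ ≫ p = 0 := (kernelSubobject_factors_iff _ _).1 h6
    have h8 : f₂ = 0 := (cancel_mono s).1 (by rw [← hf, h7, zero_comp])
    exact id_nonzero (S : A) ((cancel_epi f₂).1 (by rw [h8, zero_comp, zero_comp]))
  · haveI : IsIso π₂ := (Simple.mono_isIso_iff_nonzero π₂).2 h2
    have hj := hK (S : A) (inv π₂ ≫ π₁)
    have h9 : u.map s = 0 := by
      have : (inv π₂ ≫ π₁) ≫ (k ≫ u.map p) = u.map s := by
        rw [Category.assoc, hcond, IsIso.inv_hom_id_assoc]
      rw [← this, hj, zero_comp]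
    exact hs0 (u.map_injective (by rw [h9, u.map_zero]))

theorem main (uStar : B ⥤ A) (adj : u ⊣ uStar)
    (hlen : ∀ X : A, IsArtinianObject X ∧ IsNoetherianObject X)
    (hsimple : ∀ X : A, Simple X → Simple (u.obj X)) (Y : B) :
    Mono (adj.counit.app Y) := by
  haveI : uStar.IsRightAdjoint := adj.isRightAdjoint
  apply Preadditive.mono_of_kernel_zero
  apply key u hlen hsimple (X := uStar.obj Y) (kernel.ι (adj.counit.app Y))
  intro T j
  have h1 : (j ≫ kernel.ι (adj.counit.app Y)) ≫ adj.counit.app Y = 0 := by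
    rw [Category.assoc, kernel.condition, comp_zero]
  obtain ⟨g, hg⟩ := u.map_surjective (j ≫ kernel.ι (adj.counit.app Y))
  have h2 : (adj.homEquiv T Y).symm g = 0 := by
    rw [Adjunction.homEquiv_counit, hg, h1]
  have h3 : g = 0 := by
    have := congrArg (adj.homEquiv T Y) h2
    rw [Equiv.apply_symm_apply] at this
    rw [this, Adjunction.homEquiv_unit, uStar.map_zero, comp_zero]
  have h4 : j ≫ kernel.ι (adj.counit.app Y) = 0 := by rw [← hg, h3, u.map_zero]
  exact (cancel_mono (kernel.ι (adj.counit.app Y))).1 (by rw [h4, zero_comp])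

end Groth.Agent.Lib.Helper58.FinLenMono
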