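import Groth.Agent.Lib.Helper41.LCGen
import Mathlib.Algebra.Module.FinitePresentation

/-!
# Flat base change of injective modules: extension of maps and `Γ`-acyclicity
-/

set_option autoImplicit false
universe u
open CategoryTheory CategoryTheory.Limits Opposite CategoryTheory.Abelian TensorProduct

namespace Groth.Agent.Lib.Helper58.FlatBC
open Groth.Agent.Lib.Helper41.LC

variable {R : Type u} [CommRing R] {R' : Type u} [CommRing R'] [Algebra R R'] [Module.Flat R R']
variable {E : Type u} [AddCommGroup E] [Module R E] [Module.Injective R E]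

/-- If `E` is injective over `R`, `K ↪ F` with `K` finitely presented and `R'` flat over `R`,
every `R'`-linear map `R' ⊗ K → R' ⊗ E` extends to `R' ⊗ F`. -/
theorem exists_extension_baseChange {K F : Type u} [AddCommGroup K] [Module R K] [AddCommGroup F]
    [Module R F] [Module.FinitePresentation R K] (i : K →ₗ[R] F) (hi : Function.Injective i)
    (g : R' ⊗[R] K →ₗ[R'] R' ⊗[R] E) :
    ∃ h : R' ⊗[R] F →ₗ[R'] R' ⊗[R] E, h ∘ₗ i.baseChange R' = g := by
  have hbc := Module.FinitePresentation.isBaseChange_map R K E R'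
  induction g using hbc.inductionOn with
  | zero => exact ⟨0, LinearMap.zero_comp _⟩
  | tmul m =>
    obtain ⟨m', hm'⟩ := Module.Injective.out i hi m
    refine ⟨m'.baseChange R', ?_⟩
    rw [← LinearMap.baseChange_comp]
    congr 1
    ext x
    exact hm' x
  | smul s g ih =>
    obtain ⟨h, rfl⟩ := ih
    exact ⟨s • h, LinearMap.smul_comp _ _ _⟩
  | add g₁ g₂ ih₁ ih₂ =>
    obtain ⟨h₁, rfl⟩ := ih₁
    obtain ⟨h₂, rfl⟩ := ih₂
    exact ⟨h₁ + h₂, LinearMap.add_comp _ _ _⟩

section mu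
variable (R') (𝔞 : Ideal R)

/-- The multiplication map `R' ⊗ 𝔞 → R'`. -/
noncomputable def μ : R' ⊗[R] ↥𝔞 →ₗ[R'] R' :=
  (AlgebraTensorModule.rid R R' R').toLinearMap ∘ₗ (𝔞.subtype.baseChange R')

omit [Module.Flat R R'] in
theorem μ_tmul (r' : R') (a : ↥𝔞) : μ R' 𝔞 (r' ⊗ₜ a) = r' * algebraMap R R' a := by
  simp [μ, Algebra.smul_def, mul_comm]

theorem μ_injective : Function.Injective (μ R' 𝔞) := by
  unfold μ
  rw [LinearMap.coe_comp, LinearEquiv.coe_coe, EquivLike.comp_injective]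
  rw [LinearMap.baseChange_eq_ltensor]
  exact Module.Flat.lTensor_preserves_injective_linearMap _ 𝔞.injective_subtype

omit [Module.Flat R R'] in
theorem μ_mem (t : R' ⊗[R] ↥𝔞) : μ R' 𝔞 t ∈ Ideal.map (algebraMap R R') 𝔞 := by
  induction t using TensorProduct.induction_on with
  | zero => rw [map_zero]; exact Submodule.zero_mem _
  | tmul r' a =>
    rw [μ_tmul]
    exact Ideal.mul_mem_left _ _ (Ideal.mem_map_of_mem _ a.2)
  | add x y hx hy => rw [map_add]; exact Submodule.add_mem _ hx hy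

omit [Module.Flat R R'] in
theorem exists_μ_eq (b : R') (hb : b ∈ Ideal.map (algebraMap R R') 𝔞) :
    ∃ t : R' ⊗[R] ↥𝔞, μ R' 𝔞 t = b := by
  induction hb using Submodule.span_induction with
  | mem y hy =>
    obtain ⟨a, ha, rfl⟩ := hy
    exact ⟨1 ⊗ₜ ⟨a, ha⟩, by rw [μ_tmul, one_mul]⟩
  | zero => exact ⟨0, map_zero _⟩
  | add y z _ _ hy hz =>
    obtain ⟨t₁, rfl⟩ := hy
    obtain ⟨t₂, rfl⟩ := hz
    exact ⟨t₁ + t₂, map_add _ _ _⟩
  | smul c y _ hy =>
    obtain ⟨t, rfl⟩ := hy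
    exact ⟨c • t, map_smul _ _ _⟩

/-- `μ` with codomain restricted to the extended ideal. -/
noncomputable def μ' : R' ⊗[R] ↥𝔞 →ₗ[R'] ↥(Ideal.map (algebraMap R R') 𝔞) :=
  (μ R' 𝔞).codRestrict _ (μ_mem R' 𝔞)

theorem μ'_bijective : Function.Bijective (μ' R' 𝔞) := by
  constructor
  · intro x y hxy
    apply μ_injective R' 𝔞
    exact congrArg Subtype.val hxy
  · rintro ⟨b, hb⟩
    obtain ⟨t, ht⟩ := exists_μ_eq R' 𝔞 b hb
    exact ⟨t, Subtype.ext ht⟩

end mu

/-- S11612: every `R'`-linear map `𝔞R' → R' ⊗ E` is multiplication by an element. -/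
theorem smul_flip_surjective [IsNoetherianRing R] (𝔞 : Ideal R) :
    Function.Surjective (((LinearMap.lsmul R' (R' ⊗[R] E)).domRestrict
      (Ideal.map (algebraMap R R') 𝔞)).flip) := by
  intro ψ
  have : Module.FinitePresentation R ↥𝔞 := Module.finitePresentation_of_finite R ↥𝔞
  obtain ⟨h, hh⟩ := exists_extension_baseChange (R' := R') (E := E) 𝔞.subtype
    𝔞.injective_subtype (ψ ∘ₗ μ' R' 𝔞)
  refine ⟨h (1 ⊗ₜ 1), ?_⟩
  ext ⟨b, hb⟩
  obtain ⟨t, ht⟩ := exists_μ_eq R' 𝔞 b hb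
  have h1 : ψ ⟨b, hb⟩ = h (𝔞.subtype.baseChange R' t) := by
    rw [← LinearMap.comp_apply, hh, LinearMap.comp_apply]
    congr 1
    exact Subtype.ext ht.symm
  have h2 : 𝔞.subtype.baseChange R' t = b • (1 ⊗ₜ[R] (1 : R)) := by
    apply (AlgebraTensorModule.rid R R' R').injective
    rw [map_smul]
    have : (AlgebraTensorModule.rid R R' R') (𝔞.subtype.baseChange R' t) = μ R' 𝔞 t := rfl
    rw [this, ht]
    simp
  simp only [LinearMap.flip_apply, LinearMap.domRestrict_apply, LinearMap.lsmul_apply]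
  rw [h1, h2, map_smul]

end Groth.Agent.Lib.Helper58.FlatBC
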