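import Groth.Agent.Lib.Helper58.FlatBC

/-!
# Flat base change of injective modules: `Ext` vanishing and `Γ_{IR'}`-acyclicity
-/

set_option autoImplicit false
universe u
open CategoryTheory CategoryTheory.Limits Opposite CategoryTheory.Abelian TensorProduct

namespace Groth.Agent.Lib.Helper58.FlatBC
open Groth.Agent.Lib.Helper41.LC

variable {R : Type u} [CommRing R] {R' : Type u} [CommRing R'] [Algebra R R'] [Module.Flat R R']

section pres
variable {N : Type u} [AddCommGroup N] [Module R N] {n : ℕ} (f : (Fin n → R) →ₗ[R] N)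

/-- The base change of the presentation sequence `0 → ker f → R^n → N → 0`. -/
noncomputable def presSC : ShortComplex (ModuleCat.{u} R') :=
  ShortComplex.mk (ModuleCat.ofHom ((LinearMap.ker f).subtype.baseChange R'))
    (ModuleCat.ofHom (f.baseChange R')) (by
      rw [← ModuleCat.ofHom_comp, ← LinearMap.baseChange_comp,
        (show f ∘ₗ (LinearMap.ker f).subtype = 0 from LinearMap.comp_ker_subtype f),
        LinearMap.baseChange_zero]
      rfl)

theorem presSC_shortExact (hf : Function.Surjective f) : (presSC (R' := R') f).ShortExact := by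
  apply ModuleCat.shortComplex_shortExact
  · change Function.Exact ((LinearMap.ker f).subtype.baseChange R') (f.baseChange R')
    rw [LinearMap.baseChange_eq_ltensor, LinearMap.baseChange_eq_ltensor]
    exact Module.Flat.lTensor_exact R' (LinearMap.exact_subtype_ker_map f)
  · change Function.Injective ((LinearMap.ker f).subtype.baseChange R')
    rw [LinearMap.baseChange_eq_ltensor]
    exact Module.Flat.lTensor_preserves_injective_linearMap _ (LinearMap.ker f).injective_subtype
  · change Function.Surjective (f.baseChange R')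
    rw [LinearMap.baseChange_eq_ltensor]
    exact LinearMap.lTensor_surjective R' hf

instance : Projective (presSC (R' := R') f).X₂ := by
  change Projective (ModuleCat.of R' (R' ⊗[R] (Fin n → R)))
  exact (IsProjective.iff_projective _).1 inferInstance

end pres

variable [IsNoetherianRing R] {E : Type u} [AddCommGroup E] [Module R E] [Module.Injective R E]

variable (R' E) in
theorem ext_tensor_eq_zero (i : ℕ) :
    ∀ (N : Type u) [AddCommGroup N] [Module R N] [Module.Finite R N]
      (e : Ext.{u} (ModuleCat.of R' (R' ⊗[R] N)) (ModuleCat.of R' (R' ⊗[R] E)) (i + 1)), e = 0 := by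
  induction i with
  | zero =>
    intro N _ _ _ e
    obtain ⟨n, f, hf⟩ := Module.Finite.exists_fin' R N
    have hS := presSC_shortExact (R' := R') f hf
    obtain ⟨x₁, hx₁⟩ := Ext.contravariant_sequence_exact₃ hS _ e
      (Ext.eq_zero_of_projective _) (n₀ := 0) (by omega)
    obtain ⟨g, rfl⟩ := Ext.addEquiv₀.symm.surjective x₁
    have : Module.FinitePresentation R ↥(LinearMap.ker f) :=
      Module.finitePresentation_of_finite R _
    obtain ⟨h, hh⟩ := exists_extension_baseChange (R' := R') (E := E) (LinearMap.ker f).subtype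
      (LinearMap.ker f).injective_subtype g.hom
    have hg : g = (presSC (R' := R') f).f ≫ ModuleCat.ofHom h := by
      apply ModuleCat.hom_ext
      exact hh.symm
    rw [← hx₁]
    change hS.extClass.comp (Ext.mk₀ g) _ = 0
    rw [hg, ← Ext.mk₀_comp_mk₀]
    exact hS.extClass_comp_assoc _
  | succ i ih =>
    intro N _ _ _ e
    obtain ⟨n, f, hf⟩ := Module.Finite.exists_fin' R N
    have hS := presSC_shortExact (R' := R') f hf
    obtain ⟨x₁, hx₁⟩ := Ext.contravariant_sequence_exact₃ hS _ e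
      (Ext.eq_zero_of_projective _) (n₀ := i + 1) (by omega)
    have hx0 : x₁ = 0 := ih ↥(LinearMap.ker f) x₁
    rw [← hx₁, hx0, Ext.comp_zero]
    rfl

variable (R' E) in
theorem ext_ideal_eq_zero (𝔞 : Ideal R) (i : ℕ)
    (e : Ext.{u} (ModuleCat.of R' ↥(Ideal.map (algebraMap R R') 𝔞))
      (ModuleCat.of R' (R' ⊗[R] E)) (i + 1)) : e = 0 := by
  let iso : ModuleCat.of R' (R' ⊗[R] ↥𝔞) ≅ ModuleCat.of R' ↥(Ideal.map (algebraMap R R') 𝔞) :=
    (LinearEquiv.ofBijective (μ' R' 𝔞) (μ'_bijective R' 𝔞)).toModuleIso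
  have h0 := ext_tensor_eq_zero R' E i ↥𝔞 ((Ext.mk₀ iso.hom).comp e (zero_add _))
  have := Ext.mk₀_comp_mk₀_assoc iso.inv iso.hom e
  rw [iso.inv_hom_id, Ext.mk₀_id_comp] at this
  rw [← this, h0, Ext.comp_zero]

variable (R' E) in
theorem ext_quot_eq_zero (𝔞 : Ideal R) (𝔟 : Ideal R') (h𝔟 : 𝔟 = Ideal.map (algebraMap R R') 𝔞)
    (i : ℕ) (e : Ext.{u} (ModuleCat.of R' (R' ⧸ 𝔟)) (ModuleCat.of R' (R' ⊗[R] E)) (i + 1)) :
    e = 0 := by
  subst h𝔟
  have hS := subQuotSC_shortExact (Ideal.map (algebraMap R R') 𝔞)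
  have hproj : Projective (subQuotSC (Ideal.map (algebraMap R R') 𝔞)).X₂ := by
    change Projective (ModuleCat.of R' R')
    exact (IsProjective.iff_projective _).1 inferInstance
  obtain ⟨x₁, hx₁⟩ := Ext.contravariant_sequence_exact₃ hS _ e
    (Ext.eq_zero_of_projective _) (n₀ := i) (by omega)
  rcases i with _ | i
  · obtain ⟨ψ, rfl⟩ := Ext.addEquiv₀.symm.surjective x₁
    obtain ⟨x, hx⟩ := smul_flip_surjective (R' := R') (E := E) 𝔞 ψ.hom
    have hψ : ψ = (subQuotSC (Ideal.map (algebraMap R R') 𝔞)).f ≫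
        ModuleCat.ofHom (LinearMap.toSpanSingleton R' (R' ⊗[R] E) x) := by
      apply ModuleCat.hom_ext
      rw [← hx]
      ext b
      rfl
    rw [← hx₁]
    change hS.extClass.comp (Ext.mk₀ ψ) _ = 0
    rw [hψ, ← Ext.mk₀_comp_mk₀]
    exact hS.extClass_comp_assoc _
  · have hx0 : x₁ = 0 := ext_ideal_eq_zero R' E 𝔞 i x₁
    rw [← hx₁, hx0, Ext.comp_zero]
    rfl

variable (R' E) in
/-- S11613: `R' ⊗ E` is `Γ_{IR'}`-acyclic. -/
theorem subsingleton_H (I : Ideal R) (i : ℕ) (hi : 0 < i) :
    Subsingleton ((localCohomology (Ideal.map (algebraMap R R') I) i).obj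
      (ModuleCat.of R' (R' ⊗[R] E))) := by
  obtain ⟨k, rfl⟩ : ∃ k, i = k + 1 := ⟨i - 1, by omega⟩
  refine ⟨fun x y => ?_⟩
  obtain ⟨n, e, rfl⟩ := exists_rep x
  obtain ⟨n', e', rfl⟩ := exists_rep y
  rw [ext_quot_eq_zero R' E (I ^ n) _ (Ideal.map_pow _ _ _).symm k e,
    ext_quot_eq_zero R' E (I ^ n') _ (Ideal.map_pow _ _ _).symm k e', map_zero, map_zero]

end Groth.Agent.Lib.Helper58.FlatBC
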