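import Groth.Agent.Lib.Helper58.CmpSeq4

/-!
# Criteria for the comparison maps `H^i_{I'}(M) → H^i_I(M)` to be injective / surjective, part 1
-/

set_option autoImplicit false
universe u
open CategoryTheory CategoryTheory.Limits Opposite CategoryTheory.Abelian

namespace Groth.Agent.Lib.Helper58.HmapCrit

open Groth.Agent.Lib.Helper41.LC Groth.Agent.Lib.Helper58.CmpSeq

variable {R : Type u} [CommRing R]

lemma isTorsion_bot (N : Type u) [AddCommGroup N] [Module R N] : IsTorsion (⊥ : Ideal R) N := by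
  intro m
  refine ⟨1, fun a ha => ?_⟩
  rw [pow_one, Ideal.mem_bot] at ha
  rw [ha, zero_smul]

lemma quotLE_comp {I₁ I₂ I₃ : Ideal R} (h₁₂ : I₁ ≤ I₂) (h₂₃ : I₂ ≤ I₃) (n : ℕ) :
    quotLE h₁₂ n ≫ quotLE h₂₃ n = quotLE (h₁₂.trans h₂₃) n := by
  apply ModuleCat.hom_ext
  apply LinearMap.ext
  intro y
  obtain ⟨c, rfl⟩ := Submodule.Quotient.mk_surjective _ y
  rfl

theorem cmpH_comp {I₁ I₂ I₃ : Ideal R} (h₁₂ : I₁ ≤ I₂) (h₂₃ : I₂ ≤ I₃) (i : ℕ)
    (N : ModuleCat.{u} R) (x : (localCohomology I₃ i).obj N) :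
    cmpH h₁₂ i N (cmpH h₂₃ i N x) = cmpH (h₁₂.trans h₂₃) i N x := by
  obtain ⟨n, e, rfl⟩ := exists_rep x
  rw [cmpH_ιH, cmpH_ιH, cmpH_ιH, Ext.mk₀_comp_mk₀_assoc, quotLE_comp]

variable [IsNoetherianRing R]

theorem cmpH_bijective_of_le {I I' : Ideal R} (h : I ≤ I') (h' : I' ≤ I) (i : ℕ)
    (N : ModuleCat.{u} R) : Function.Bijective (cmpH h i N) :=
  cmpH_bijective_of_isTorsion h ⊥ (by simpa using h') i N (isTorsion_bot N)

variable (a : Ideal R) (b : R)

theorem cmpH_surjective_of_subsingleton (i : ℕ) (M : Type u) [AddCommGroup M] [Module R M]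
    (h : Subsingleton ((localCohomology a i).obj
      (ModuleCat.of R (LocalizedModule (Submonoid.powers b) M)))) :
    Function.Surjective (cmpH (le_sup_left : a ≤ a ⊔ Ideal.span {b}) i (ModuleCat.of R M)) := by
  intro x
  exact (exact_cmpH_localization a b M i x).1 (Subsingleton.elim _ _)

theorem cmpH_injective_of_subsingleton (i : ℕ) (M : Type u) [AddCommGroup M] [Module R M]
    (h : ∀ j : ℕ, j + 1 = i → Subsingleton ((localCohomology a j).obj
      (ModuleCat.of R (LocalizedModule (Submonoid.powers b) M)))) :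
    Function.Injective (cmpH (le_sup_left : a ≤ a ⊔ Ideal.span {b}) i (ModuleCat.of R M)) := by
  cases i with
  | zero => exact cmpH_injective_zero _ _
  | succ j =>
    have := h j rfl
    obtain ⟨e⟩ := nonempty_coker_equiv_ker a b j M
    have h1 : Subsingleton (LinearMap.ker (cmpH (le_sup_left : a ≤ a ⊔ Ideal.span {b}) (j + 1)
        (ModuleCat.of R M))) := e.symm.toEquiv.subsingleton
    rw [injective_iff_map_eq_zero]
    intro x hx
    have h2 : (⟨x, hx⟩ : LinearMap.ker (cmpH (le_sup_left : a ≤ a ⊔ Ideal.span {b}) (j + 1)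
        (ModuleCat.of R M))) = 0 := Subsingleton.elim _ _
    exact congrArg Subtype.val h2

theorem smul_injective_of_subsingleton_sup (k : ℕ) (N : Type u) [AddCommGroup N] [Module R N]
    (h : Subsingleton ((localCohomology (a ⊔ Ideal.span {b}) k).obj (ModuleCat.of R N))) :
    Function.Injective (fun x : (localCohomology a k).obj (ModuleCat.of R N) => b • x) := by
  intro x y hxy
  have h1 : b ^ 1 • (x - y) = 0 := by
    rw [pow_one, smul_sub, sub_eq_zero]
    exact hxy
  obtain ⟨z, hz⟩ := (mem_range_cmpH_iff a b k N (x - y)).2 ⟨1, h1⟩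
  rw [Subsingleton.elim z 0, map_zero] at hz
  exact sub_eq_zero.1 hz.symm

end Groth.Agent.Lib.Helper58.HmapCrit
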