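import Groth.Agent.Lib.Helper58.HmapCrit1
import Groth.Agent.Lib.Helper58.FlatBC4
import Groth.Agent.Lib.Helper41.LCTop
import Mathlib.RingTheory.Localization.BaseChange
import Mathlib.RingTheory.Localization.AtPrime.Basic

/-!
# Criteria for the comparison maps, part 2: localization at a prime
-/

set_option autoImplicit false
universe u
open CategoryTheory CategoryTheory.Limits Opposite CategoryTheory.Abelian
open scoped TensorProduct

namespace Groth.Agent.Lib.Helper58.HmapCrit

open Groth.Agent.Lib.Helper41.LC Groth.Agent.Lib.Helper58.CmpSeq

variable {R : Type u} [CommRing R] [IsNoetherianRing R]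

/-- If all elements outside the prime `q` act injectively on `H^k_q(N)` and the local cohomology of
`N_q` with support in the maximal ideal of `R_q` vanishes in degree `k`, then `H^k_q(N) = 0`. -/
theorem subsingleton_of_localization (q : Ideal R) [q.IsPrime] (k : ℕ) (N : Type u)
    [AddCommGroup N] [Module R N]
    (hinj : ∀ s : R, s ∉ q →
      Function.Injective (fun x : (localCohomology q k).obj (ModuleCat.of R N) => s • x))
    (hloc : Subsingleton ((localCohomology (IsLocalRing.maximalIdeal (Localization.AtPrime q)) k).obj
      (ModuleCat.of (Localization.AtPrime q) (LocalizedModule q.primeCompl N)))) :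
    Subsingleton ((localCohomology q k).obj (ModuleCat.of R N)) := by
  haveI : Module.Flat R (Localization.AtPrime q) := IsLocalization.flat _ q.primeCompl
  obtain ⟨e⟩ := Groth.Agent.Lib.Helper58.FlatBC4.nonempty_equiv (R' := Localization.AtPrime q) q k N
  have hmap : q.map (algebraMap R (Localization.AtPrime q)) =
      IsLocalRing.maximalIdeal (Localization.AtPrime q) := Localization.AtPrime.map_eq_maximalIdeal
  have h1 : Subsingleton ((localCohomology (q.map (algebraMap R (Localization.AtPrime q))) k).obj
      (ModuleCat.of (Localization.AtPrime q) (Localization.AtPrime q ⊗[R] N))) := by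
    rw [hmap]
    exact subsingleton_of_linearEquiv _ k
      (LocalizedModule.equivTensorProduct q.primeCompl N).symm hloc
  have h2 : Subsingleton (Localization.AtPrime q ⊗[R]
      ((localCohomology q k).obj (ModuleCat.of R N))) := e.toEquiv.subsingleton
  have h3 : Subsingleton (LocalizedModule q.primeCompl
      ((localCohomology q k).obj (ModuleCat.of R N))) :=
    (LocalizedModule.equivTensorProduct q.primeCompl _).toEquiv.subsingleton
  have key : ∀ x : (localCohomology q k).obj (ModuleCat.of R N), x = 0 := by
    intro x
    have h4 : LocalizedModule.mk x (1 : q.primeCompl) = LocalizedModule.mk 0 (1 : q.primeCompl) :=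
      Subsingleton.elim _ _
    rw [LocalizedModule.mk_eq] at h4
    obtain ⟨u, hu⟩ := h4
    rw [one_smul, one_smul, smul_zero] at hu
    apply hinj u.1 u.2
    change u.1 • x = u.1 • 0
    rw [smul_zero]
    exact hu
  exact ⟨fun x y => by rw [key x, key y]⟩

section Loc

variable (b : R) (M : Type u) [AddCommGroup M] [Module R M] (q : Ideal R) [q.IsPrime]

/-- `b` acts bijectively on `(M_b)_q`. -/
lemma smul_bijective_localized_localized :
    Function.Bijective (fun y : LocalizedModule q.primeCompl
      (LocalizedModule (Submonoid.powers b) M) => b • y) := by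
  have hb := bijective_smul_localizedModule b M
  constructor
  · intro y y' hyy'
    induction y using LocalizedModule.induction_on with
    | h n s =>
      induction y' using LocalizedModule.induction_on with
      | h n' s' =>
        change b • LocalizedModule.mk n s = b • LocalizedModule.mk n' s' at hyy'
        rw [LocalizedModule.smul'_mk, LocalizedModule.smul'_mk, LocalizedModule.mk_eq] at hyy'
        obtain ⟨u, hu⟩ := hyy'
        rw [LocalizedModule.mk_eq]
        refine ⟨u, hb.1 ?_⟩
        change b • (u • s' • n) = b • (u • s • n')
        rw [smul_comm b u, smul_comm b s', hu, smul_comm s b, smul_comm u b]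
  · intro y
    induction y using LocalizedModule.induction_on with
    | h n s =>
      obtain ⟨n', hn'⟩ := hb.2 n
      refine ⟨LocalizedModule.mk n' s, ?_⟩
      change b • LocalizedModule.mk n' s = _
      rw [LocalizedModule.smul'_mk]
      exact congrArg (fun t => LocalizedModule.mk t s) hn'

/-- If `b ∈ q`, the local cohomology of `(M_b)_q` with support in the maximal ideal vanishes. -/
theorem subsingleton_of_mem (hb : b ∈ q) (k : ℕ) :
    Subsingleton ((localCohomology (IsLocalRing.maximalIdeal (Localization.AtPrime q)) k).obj
      (ModuleCat.of (Localization.AtPrime q)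
        (LocalizedModule q.primeCompl (LocalizedModule (Submonoid.powers b) M)))) := by
  apply subsingleton_of_bijective_smul _ k _ (algebraMap R (Localization.AtPrime q) b)
  · exact (IsLocalization.AtPrime.to_map_mem_maximal_iff (Localization.AtPrime q) q b).2 hb
  · have h := smul_bijective_localized_localized b M q
    have h2 : (fun y : LocalizedModule q.primeCompl (LocalizedModule (Submonoid.powers b) M) =>
        algebraMap R (Localization.AtPrime q) b • y) = fun y => b • y := by
      funext y
      exact algebraMap_smul (Localization.AtPrime q) b y
    exact h2 ▸ h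

/-- If `b ∉ q`, then `M_q → (M_b)_q` is bijective. -/
lemma map_mkLinearMap_bijective (hb : b ∉ q) :
    Function.Bijective (LocalizedModule.map q.primeCompl
      (LocalizedModule.mkLinearMap (Submonoid.powers b) M)) := by
  constructor
  · rw [injective_iff_map_eq_zero]
    intro y hy
    induction y using LocalizedModule.induction_on with
    | h m s =>
      rw [LocalizedModule.map_mk, LocalizedModule.mkLinearMap_apply] at hy
      have h0 : LocalizedModule.mk (LocalizedModule.mk m (1 : Submonoid.powers b)) s =
          LocalizedModule.mk 0 s := by rw [hy, LocalizedModule.zero_mk]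
      rw [LocalizedModule.mk_eq] at h0
      obtain ⟨u, hu⟩ := h0
      rw [smul_zero, smul_zero] at hu
      have hu' : LocalizedModule.mk ((u.1 * s.1) • m) (1 : Submonoid.powers b) =
          LocalizedModule.mk 0 (1 : Submonoid.powers b) := by
        rw [LocalizedModule.zero_mk, ← hu, mul_smul, Submonoid.smul_def, Submonoid.smul_def,
          LocalizedModule.smul'_mk, LocalizedModule.smul'_mk]
      rw [LocalizedModule.mk_eq] at hu'
      obtain ⟨⟨_, n, rfl⟩, hv⟩ := hu'
      rw [one_smul, one_smul, smul_zero] at hv
      have hmem : b ^ n * (u.1 * s.1) ∈ q.primeCompl :=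
        q.primeCompl.mul_mem (q.primeCompl.pow_mem hb n) (q.primeCompl.mul_mem u.2 s.2)
      have h1 : LocalizedModule.mk m s = LocalizedModule.mk 0 s := by
        rw [LocalizedModule.mk_eq]
        refine ⟨⟨_, hmem⟩, ?_⟩
        rw [smul_zero, smul_zero]
        change (b ^ n * (u.1 * s.1)) • s.1 • m = 0
        rw [smul_comm, mul_smul]
        change s.1 • b ^ n • (u.1 * s.1) • m = 0
        have hv' : b ^ n • (u.1 * s.1) • m = 0 := hv
        rw [hv', smul_zero]
      rw [h1, LocalizedModule.zero_mk]
  · intro y
    induction y using LocalizedModule.induction_on with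
    | h n s =>
      induction n using LocalizedModule.induction_on with
      | h m t =>
        obtain ⟨_, j, rfl⟩ := t
        have hmem : b ^ j ∈ q.primeCompl := q.primeCompl.pow_mem hb j
        refine ⟨LocalizedModule.mk m (⟨b ^ j, hmem⟩ * s), ?_⟩
        rw [LocalizedModule.map_mk, LocalizedModule.mkLinearMap_apply, LocalizedModule.mk_eq]
        refine ⟨1, ?_⟩
        rw [one_smul, one_smul]
        change s.1 • LocalizedModule.mk m (1 : Submonoid.powers b) =
          (b ^ j * s.1) • LocalizedModule.mk m (⟨b ^ j, j, rfl⟩ : Submonoid.powers b)
        rw [mul_comm, mul_smul]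
        congr 1
        rw [LocalizedModule.smul'_mk, LocalizedModule.mk_eq]
        refine ⟨1, ?_⟩
        rw [one_smul, one_smul, one_smul]
        rfl

/-- If `b ∉ q`, the local cohomology of `(M_b)_q` is that of `M_q`. -/
theorem subsingleton_of_notMem (hb : b ∉ q) (k : ℕ)
    (h : Subsingleton ((localCohomology (IsLocalRing.maximalIdeal (Localization.AtPrime q)) k).obj
      (ModuleCat.of (Localization.AtPrime q) (LocalizedModule q.primeCompl M)))) :
    Subsingleton ((localCohomology (IsLocalRing.maximalIdeal (Localization.AtPrime q)) k).obj
      (ModuleCat.of (Localization.AtPrime q)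
        (LocalizedModule q.primeCompl (LocalizedModule (Submonoid.powers b) M)))) := by
  let f := LocalizedModule.map q.primeCompl
    (LocalizedModule.mkLinearMap (Submonoid.powers b) M)
  have hf : Function.Bijective f := map_mkLinearMap_bijective b M q hb
  exact subsingleton_of_linearEquiv _ k (LinearEquiv.ofBijective f hf).symm h

end Loc

end Groth.Agent.Lib.Helper58.HmapCrit
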