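import Groth.Agent.Lib.Helper58.HmapCrit2

/-!
# Criteria for the comparison maps, part 3: the punctual vanishing criterion and the main theorem
-/

set_option autoImplicit false
universe u
open CategoryTheory CategoryTheory.Limits Opposite CategoryTheory.Abelian

namespace Groth.Agent.Lib.Helper58.HmapCrit

open Groth.Agent.Lib.Helper41.LC Groth.Agent.Lib.Helper58.CmpSeq

variable {R : Type u} [CommRing R] [IsNoetherianRing R]

/-- Local cohomology with support in the unit ideal vanishes. -/
lemma subsingleton_top (k : ℕ) (N : ModuleCat.{u} R) :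
    Subsingleton ((localCohomology (⊤ : Ideal R) k).obj N) := by
  apply subsingleton_of_bijective_smul ⊤ k N 1 trivial
  have : (fun m : N => (1 : R) • m) = id := by
    funext m
    exact one_smul R m
  rw [this]
  exact Function.bijective_id

/-- Punctual vanishing criterion: if `H^k_{qR_q}(N_q) = 0` for all primes `q ⊇ 𝔞`, then
`H^k_𝔞(N) = 0`. -/
theorem subsingleton_of_forall_prime (k : ℕ) (N : Type u) [AddCommGroup N] [Module R N] :
    ∀ 𝔞 : Ideal R, (∀ q : PrimeSpectrum R, 𝔞 ≤ q.asIdeal →
      Subsingleton ((localCohomology (IsLocalRing.maximalIdeal (Localization.AtPrime q.asIdeal)) k).obj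
        (ModuleCat.of (Localization.AtPrime q.asIdeal)
          (LocalizedModule q.asIdeal.primeCompl N)))) →
      Subsingleton ((localCohomology 𝔞 k).obj (ModuleCat.of R N)) := by
  intro 𝔞
  induction 𝔞 using WellFoundedGT.induction with
  | ind 𝔞 ih =>
    intro hq
    have hb : ∀ b : R, b ∉ 𝔞 →
        Function.Injective (fun x : (localCohomology 𝔞 k).obj (ModuleCat.of R N) => b • x) := by
      intro b hb
      apply smul_injective_of_subsingleton_sup 𝔞 b k N
      apply ih (𝔞 ⊔ Ideal.span {b})
      · refine lt_of_le_of_ne le_sup_left (fun h => hb ?_)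
        rw [h]
        exact Ideal.mem_sup_right (Ideal.mem_span_singleton_self b)
      · intro q hq'
        exact hq q (le_sup_left.trans hq')
    by_cases htop : 𝔞 = ⊤
    · rw [htop]
      exact subsingleton_top k _
    by_cases hprime : 𝔞.IsPrime
    · exact subsingleton_of_localization 𝔞 k N hb (hq ⟨𝔞, hprime⟩ le_rfl)
    · rw [Ideal.isPrime_iff] at hprime
      push_neg at hprime
      obtain ⟨b, c, hbc, hbn, hcn⟩ := hprime htop
      have hinj : ∀ n : ℕ, Function.Injective
          (fun x : (localCohomology 𝔞 k).obj (ModuleCat.of R N) => (b * c) ^ n • x) := by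
        intro n
        induction n with
        | zero =>
          intro x y hxy
          simpa using hxy
        | succ n ihn =>
          intro x y hxy
          apply ihn
          apply hb c hcn
          apply hb b hbn
          change b • c • (b * c) ^ n • x = b • c • (b * c) ^ n • y
          rw [← mul_smul, ← mul_smul, ← mul_smul, ← mul_smul, ← pow_succ']
          exact hxy
      have key : ∀ x : (localCohomology 𝔞 k).obj (ModuleCat.of R N), x = 0 := by
        intro x
        obtain ⟨n, hn⟩ := isTorsion_H 𝔞 k (ModuleCat.of R N) x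
        apply hinj n
        change (b * c) ^ n • x = (b * c) ^ n • 0
        rw [smul_zero]
        exact hn _ (Ideal.pow_mem_pow hbc n)
      exact ⟨fun x y => by rw [key x, key y]⟩

/-- Transfer of the punctual hypothesis from `M` to `M_b` (for `b ∈ I'`). -/
theorem hyp_transfer (I I' : Ideal R) (b : R) (hb : b ∈ I') (M : Type u) [AddCommGroup M]
    [Module R M] (k : ℕ)
    (hyp : ∀ p : PrimeSpectrum R, I ≤ p.asIdeal → ¬ I' ≤ p.asIdeal →
      Subsingleton ((localCohomology (IsLocalRing.maximalIdeal (Localization.AtPrime p.asIdeal)) k).obj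
        (ModuleCat.of (Localization.AtPrime p.asIdeal)
          (LocalizedModule p.asIdeal.primeCompl M)))) :
    Subsingleton ((localCohomology I k).obj
      (ModuleCat.of R (LocalizedModule (Submonoid.powers b) M))) := by
  apply subsingleton_of_forall_prime k _ I
  intro q hq
  by_cases hbq : b ∈ q.asIdeal
  · exact subsingleton_of_mem b M q.asIdeal hbq k
  · exact subsingleton_of_notMem b M q.asIdeal hbq k (hyp q hq (fun h => hbq (h hb)))

/-- Main theorem. -/
theorem main (I' : Ideal R) (M : Type u) [AddCommGroup M] [Module R M] (i : ℕ) :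
    ∀ (I : Ideal R) (h : I ≤ I'),
      ((∀ p : PrimeSpectrum R, I ≤ p.asIdeal → ¬ I' ≤ p.asIdeal →
        Subsingleton ((localCohomology (IsLocalRing.maximalIdeal (Localization.AtPrime p.asIdeal)) i).obj
          (ModuleCat.of (Localization.AtPrime p.asIdeal)
            (LocalizedModule p.asIdeal.primeCompl M)))) →
        Function.Surjective (cmpH h i (ModuleCat.of R M))) ∧
      ((∀ p : PrimeSpectrum R, I ≤ p.asIdeal → ¬ I' ≤ p.asIdeal → ∀ j : ℕ, j + 1 = i →
        Subsingleton ((localCohomology (IsLocalRing.maximalIdeal (Localization.AtPrime p.asIdeal)) j).obj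
          (ModuleCat.of (Localization.AtPrime p.asIdeal)
            (LocalizedModule p.asIdeal.primeCompl M)))) →
        Function.Injective (cmpH h i (ModuleCat.of R M))) := by
  intro I
  induction I using WellFoundedGT.induction with
  | ind I ih =>
    intro h
    by_cases hle : I' ≤ I
    · have hbij := cmpH_bijective_of_le h hle i (ModuleCat.of R M)
      exact ⟨fun _ => hbij.2, fun _ => hbij.1⟩
    · obtain ⟨b, hbI', hbI⟩ := SetLike.not_le_iff_exists.1 hle
      have h₁ : I ⊔ Ideal.span {b} ≤ I' :=
        sup_le h ((Ideal.span_singleton_le_iff_mem _).2 hbI')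
      have hlt : I < I ⊔ Ideal.span {b} := by
        refine lt_of_le_of_ne le_sup_left (fun heq => hbI ?_)
        rw [heq]
        exact Ideal.mem_sup_right (Ideal.mem_span_singleton_self b)
      obtain ⟨ih1, ih2⟩ := ih (I ⊔ Ideal.span {b}) hlt h₁
      have hcomp : ∀ x, cmpH h i (ModuleCat.of R M) x =
          cmpH (le_sup_left : I ≤ I ⊔ Ideal.span {b}) i (ModuleCat.of R M)
            (cmpH h₁ i (ModuleCat.of R M) x) := fun x => (cmpH_comp _ _ i _ x).symm
      constructor
      · intro hyp
        have hs1 := ih1 (fun p hp hp' => hyp p (le_sup_left.trans hp) hp')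
        have hs2 := cmpH_surjective_of_subsingleton I b i M (hyp_transfer I I' b hbI' M i hyp)
        intro y
        obtain ⟨z, rfl⟩ := hs2 y
        obtain ⟨x, rfl⟩ := hs1 z
        exact ⟨x, hcomp x⟩
      · intro hyp
        have hi1 := ih2 (fun p hp hp' => hyp p (le_sup_left.trans hp) hp')
        have hi2 := cmpH_injective_of_subsingleton I b i M
          (fun j hj => hyp_transfer I I' b hbI' M j (fun p hp hp' => hyp p hp hp' j hj))
        intro x y hxy
        rw [hcomp x, hcomp y] at hxy
        exact hi1 (hi2 hxy)

end Groth.Agent.Lib.Helper58.HmapCrit
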