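import Groth.Agent.Lib.Helper46.TildePunctured
import Groth.Agent.Lib.Helper32.Matlis

/-!
# `I~` is flasque for an injective module over a Noetherian ring
-/

set_option autoImplicit false
universe u

namespace Groth.Agent.Lib.Helper58.InjFlasque

open AlgebraicGeometry CategoryTheory Opposite TopologicalSpace
open Groth.Agent.Lib.Helper46.TildePunctured Groth.Agent.Lib.Helper32

variable (A : Type u) [CommRing A]

theorem exists_puncturedOpen (U : (Spec (CommRingCat.of A)).Opens) :
    ∃ a : Ideal A, LocCoh.puncturedOpen A a = U := by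
  let T : Set (PrimeSpectrum A) := U.carrier
  have hT : IsOpen T := U.2
  refine ⟨PrimeSpectrum.vanishingIdeal Tᶜ, ?_⟩
  apply TopologicalSpace.Opens.ext
  change (PrimeSpectrum.zeroLocus _)ᶜ = T
  rw [PrimeSpectrum.zeroLocus_vanishingIdeal_eq_closure,
    (isClosed_compl_iff.mpr hT).closure_eq, compl_compl]

variable {A} [IsNoetherianRing A] (I : Type u) [AddCommGroup I] [Module A I]
  [hI : Module.Injective A I]

theorem toU_surjective (a : Ideal A) :
    Function.Surjective (toU (M := I) (LocCoh.puncturedOpen A a)) := by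
  set ε := toU (M := I) (LocCoh.puncturedOpen A a) with hε
  have hK : LinearMap.ker ε = powTors a I := ker_toU_puncturedOpen a
  have hKinj : Module.Injective A (LinearMap.ker ε) := by
    rw [hK]
    exact injective_powTors a I hI
  obtain ⟨r, hr⟩ := Module.Injective.extension_property A (LinearMap.ker ε) (LinearMap.ker ε) I
    (LinearMap.ker ε).subtype (LinearMap.ker ε).injective_subtype LinearMap.id
  have hr' : ∀ y : LinearMap.ker ε, r (y : I) = y := fun y => LinearMap.congr_fun hr y
  -- the projection onto the complement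
  let π : I →ₗ[A] I := LinearMap.id - (LinearMap.ker ε).subtype ∘ₗ r
  have hπK : LinearMap.ker ε ≤ LinearMap.ker π := by
    intro y hy
    rw [LinearMap.mem_ker]
    change y - ((r y : LinearMap.ker ε) : I) = 0
    rw [hr' ⟨y, hy⟩]
    exact sub_self _
  let εbar := (LinearMap.ker ε).liftQ ε le_rfl
  have hεbar : Function.Injective εbar := by
    rw [← LinearMap.ker_eq_bot]
    exact Submodule.ker_liftQ_eq_bot _ _ _ le_rfl
  let πbar := (LinearMap.ker ε).liftQ π hπK
  obtain ⟨s, hs⟩ := Module.Injective.extension_property A I _ _ εbar hεbar πbar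
  have hs' : ∀ x : I, s (ε x) = π x := fun x => by
    have := LinearMap.congr_fun hs (Submodule.Quotient.mk x)
    simpa [εbar, πbar] using this
  intro n
  refine ⟨s n, ?_⟩
  -- n' = n - ε (s n) is killed by a power of a
  have htors := torsion_sections_puncturedOpen (M := I) a
  have hcoker := isPowerTorsion_coker_toU (M := I) a
  obtain ⟨k, hk⟩ := hcoker (Submodule.Quotient.mk (n - ε (s n)))
  have hmem : n - ε (s n) ∈ LocCoh.torsionBy (a ^ k)
      ((F A I).presheaf.obj (op (LocCoh.puncturedOpen A a))) := by
    rw [Submodule.mem_torsionBySet_iff]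
    rintro ⟨c, hc⟩
    change c • (n - ε (s n)) = 0
    have h1 := hk c hc
    rw [← Submodule.Quotient.mk_smul, Submodule.Quotient.mk_eq_zero] at h1
    obtain ⟨x, hx⟩ := h1
    -- apply s
    have h2 : s (c • (n - ε (s n))) = π x := by rw [← hx, hs']
    have h3 : s (n - ε (s n)) = ((r (s n) : LinearMap.ker ε) : I) := by
      rw [map_sub, hs']
      change s n - (s n - ((r (s n) : LinearMap.ker ε) : I)) = _
      abel
    rw [map_smul, h3] at h2
    -- π x ∈ ker ε
    have h4 : π x ∈ LinearMap.ker ε := by
      rw [← h2]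
      exact Submodule.smul_mem _ _ (r (s n)).2
    -- π (π x) = π x and π kills ker ε
    have h5 : π x = 0 := by
      have h6 : r (π x) = 0 := by
        change r (x - ((r x : LinearMap.ker ε) : I)) = 0
        rw [map_sub, hr' (r x), sub_self]
      have h7 := hr' ⟨π x, h4⟩
      rw [h6] at h7
      have := congrArg Subtype.val h7
      exact this.symm
    have h8 : x ∈ LinearMap.ker ε := by
      have : x = ((r x : LinearMap.ker ε) : I) := by
        have h9 : x - ((r x : LinearMap.ker ε) : I) = 0 := h5
        exact sub_eq_zero.mp h9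
      rw [this]
      exact (r x).2
    rw [← hx]
    exact h8
  have hbot : n - ε (s n) ∈ (⨆ m : ℕ, LocCoh.torsionBy (a ^ m)
      ((F A I).presheaf.obj (op (LocCoh.puncturedOpen A a)))) :=
    Submodule.mem_iSup_of_mem k hmem
  rw [htors, Submodule.mem_bot] at hbot
  exact (sub_eq_zero.mp hbot).symm

theorem res_surjective {U V : (Spec (CommRingCat.of A)).Opens} (hUV : U ≤ V) :
    Function.Surjective (res (M := I) hUV) := by
  obtain ⟨a, rfl⟩ := exists_puncturedOpen A U
  intro s
  obtain ⟨m, hm⟩ := toU_surjective I a s
  exact ⟨toU V m, by rw [res_toU, hm]⟩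

end Groth.Agent.Lib.Helper58.InjFlasque
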