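import Groth.Agent.Lib.Helper58.Kos2
import Groth.Agent.Lib.Helper58.Cech8
import Groth.Prelude.Def_Koszul

/-!
# The Koszul functor `KosC l` on cochain complexes (iterated cones of multiplications)
-/

set_option autoImplicit false
universe u
open CategoryTheory CategoryTheory.Limits CochainComplex HomologicalComplex

namespace Groth.Agent.Lib.Helper58.Kz

open Groth.Agent.Lib.Helper58.Cech (DegreewiseSES coneMap_smul)
open Groth.Agent.Lib.Helper58.Kos (coneMap_id' coneMap_comp' coneMap_zero' DegreewiseSES.coneMap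
  kexact₃)

variable {R : Type u} [CommRing R]

/-- The Koszul functor on complexes: iterated cones of multiplication maps. -/
noncomputable def KosC : List R → CochainComplex (ModuleCat.{u} R) ℤ →
    CochainComplex (ModuleCat.{u} R) ℤ
  | [], X => X
  | g :: l, X => mappingCone (g • 𝟙 (KosC l X))

theorem KosC_nil (X : CochainComplex (ModuleCat.{u} R) ℤ) : KosC [] X = X := rfl

theorem KosC_cons (g : R) (l : List R) (X : CochainComplex (ModuleCat.{u} R) ℤ) :
    KosC (g :: l) X = mappingCone (g • 𝟙 (KosC l X)) := rfl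

/-- Functoriality of `KosC l`. -/
noncomputable def KosMap {X Y : CochainComplex (ModuleCat.{u} R) ℤ} (u : X ⟶ Y) :
    ∀ l : List R, KosC l X ⟶ KosC l Y
  | [] => u
  | g :: l => mappingCone.map (g • 𝟙 (KosC l X)) (g • 𝟙 (KosC l Y)) (KosMap u l) (KosMap u l) (by
      simp only [Linear.smul_comp, Linear.comp_smul, Category.id_comp, Category.comp_id])

theorem KosMap_nil {X Y : CochainComplex (ModuleCat.{u} R) ℤ} (u : X ⟶ Y) : KosMap u [] = u := rfl

theorem KosMap_cons {X Y : CochainComplex (ModuleCat.{u} R) ℤ} (u : X ⟶ Y) (g : R) (l : List R) :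
    KosMap u (g :: l) = mappingCone.map (g • 𝟙 (KosC l X)) (g • 𝟙 (KosC l Y)) (KosMap u l)
      (KosMap u l) (by
      simp only [Linear.smul_comp, Linear.comp_smul, Category.id_comp, Category.comp_id]) := rfl

theorem KosMap_id (X : CochainComplex (ModuleCat.{u} R) ℤ) : ∀ l : List R, KosMap (𝟙 X) l = 𝟙 _
  | [] => rfl
  | g :: l => by
    rw [KosMap_cons]
    exact coneMap_id' _ _ _ _ (KosMap_id X l) (KosMap_id X l)

theorem KosMap_comp {X Y Z : CochainComplex (ModuleCat.{u} R) ℤ} (u : X ⟶ Y) (v : Y ⟶ Z) :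
    ∀ l : List R, KosMap (u ≫ v) l = KosMap u l ≫ KosMap v l
  | [] => rfl
  | g :: l => by
    rw [KosMap_cons, KosMap_cons, KosMap_cons]
    exact coneMap_comp' _ _ _ _ _ _ _ _ _ _ _ _ (KosMap_comp u v l) (KosMap_comp u v l)

theorem KosMap_zero {X Y : CochainComplex (ModuleCat.{u} R) ℤ} :
    ∀ l : List R, KosMap (0 : X ⟶ Y) l = 0
  | [] => rfl
  | g :: l => by
    rw [KosMap_cons]
    exact coneMap_zero' _ _ _ _ _ (KosMap_zero l) (KosMap_zero l)

theorem coneMap_smul'' {K₁ L₁ K₂ L₂ : CochainComplex (ModuleCat.{u} R) ℤ}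
    (φ₁ : K₁ ⟶ L₁) (φ₂ : K₂ ⟶ L₂) (r : R) (a : K₁ ⟶ K₂) (b : L₁ ⟶ L₂)
    (comm : φ₁ ≫ b = a ≫ φ₂) (a₀ : K₁ ⟶ K₂) (b₀ : L₁ ⟶ L₂) (comm₀ : φ₁ ≫ b₀ = a₀ ≫ φ₂)
    (ha : a₀ = r • a) (hb : b₀ = r • b) :
    mappingCone.map φ₁ φ₂ a₀ b₀ comm₀ = r • mappingCone.map φ₁ φ₂ a b comm := by
  subst ha hb
  exact coneMap_smul φ₁ φ₂ a b comm r

theorem KosMap_smul {X Y : CochainComplex (ModuleCat.{u} R) ℤ} (r : R) (u : X ⟶ Y) :
    ∀ l : List R, KosMap (r • u) l = r • KosMap u l
  | [] => rfl
  | g :: l => by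
    rw [KosMap_cons, KosMap_cons]
    exact coneMap_smul'' _ _ r _ _ _ _ _ _ (KosMap_smul r u l) (KosMap_smul r u l)

theorem degreewiseSES_KosMap {X Y Z : CochainComplex (ModuleCat.{u} R) ℤ} {a : X ⟶ Y}
    {a' : Y ⟶ Z} (h : DegreewiseSES a a') : ∀ l : List R, DegreewiseSES (KosMap a l) (KosMap a' l)
  | [] => h
  | g :: l => by
    rw [KosMap_cons, KosMap_cons]
    exact DegreewiseSES.coneMap _ _ (degreewiseSES_KosMap h l) (degreewiseSES_KosMap h l)

/-- A degreewise short exact sequence of complexes is short exact. -/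
theorem shortExact_of_degreewiseSES (S : ShortComplex (CochainComplex (ModuleCat.{u} R) ℤ))
    (h : DegreewiseSES S.f S.g) : S.ShortExact := by
  apply HomologicalComplex.shortExact_of_degreewise_shortExact
  intro p
  obtain ⟨h1, h2, h3⟩ := h p
  have : Mono (S.map (HomologicalComplex.eval _ _ p)).f :=
    (ModuleCat.mono_iff_injective _).2 h1
  have : Epi (S.map (HomologicalComplex.eval _ _ p)).g :=
    (ModuleCat.epi_iff_surjective _).2 h3
  exact ⟨(ShortComplex.ShortExact.moduleCat_exact_iff_function_exact _).2 h2⟩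

/-- The image under `KosC l` of a short complex of complexes. -/
noncomputable def KosSC (S : ShortComplex (CochainComplex (ModuleCat.{u} R) ℤ)) (l : List R) :
    ShortComplex (CochainComplex (ModuleCat.{u} R) ℤ) :=
  ShortComplex.mk (KosMap S.f l) (KosMap S.g l) (by
    rw [← KosMap_comp, S.zero, KosMap_zero])

theorem KosSC_shortExact (S : ShortComplex (CochainComplex (ModuleCat.{u} R) ℤ))
    (h : DegreewiseSES S.f S.g) (l : List R) : (KosSC S l).ShortExact :=
  shortExact_of_degreewiseSES _ (degreewiseSES_KosMap h l)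

/-- Morphisms of short complexes are carried along. -/
noncomputable def KosSCMap {S₁ S₂ : ShortComplex (CochainComplex (ModuleCat.{u} R) ℤ)}
    (φ : S₁ ⟶ S₂) (l : List R) : KosSC S₁ l ⟶ KosSC S₂ l where
  τ₁ := KosMap φ.τ₁ l
  τ₂ := KosMap φ.τ₂ l
  τ₃ := KosMap φ.τ₃ l
  comm₁₂ := by
    change KosMap φ.τ₁ l ≫ KosMap S₂.f l = KosMap S₁.f l ≫ KosMap φ.τ₂ l
    rw [← KosMap_comp, ← KosMap_comp, φ.comm₁₂]
  comm₂₃ := by
    change KosMap φ.τ₂ l ≫ KosMap S₂.g l = KosMap S₁.g l ≫ KosMap φ.τ₃ l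
    rw [← KosMap_comp, ← KosMap_comp, φ.comm₂₃]

/-! ### Acyclicity -/

theorem isZero_homology_cone {K L : CochainComplex (ModuleCat.{u} R) ℤ} (φ : K ⟶ L) (j : ℤ)
    (hL : IsZero (L.homology j)) (hK : IsZero (K.homology (j + 1))) :
    IsZero ((mappingCone φ).homology j) := by
  have hL' : Subsingleton (L.homology j) := ModuleCat.subsingleton_of_isZero hL
  have hK' : Subsingleton (K.homology (j + 1)) := ModuleCat.subsingleton_of_isZero hK
  have : Subsingleton ((mappingCone φ).homology j) := by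
    refine ⟨fun x y => ?_⟩
    have hx : ∀ z : (mappingCone φ).homology j, z = 0 := by
      intro z
      obtain ⟨w, rfl⟩ := (kexact₃ φ j (j + 1) rfl z).1 (Subsingleton.elim _ _)
      rw [Subsingleton.elim w 0, map_zero]
    rw [hx x, hx y]
  exact ModuleCat.isZero_of_subsingleton _

theorem KosC_acyclic (X : CochainComplex (ModuleCat.{u} R) ℤ)
    (hX : ∀ j : ℤ, IsZero (X.homology j)) : ∀ (l : List R) (j : ℤ), IsZero ((KosC l X).homology j)
  | [], j => hX j
  | g :: l, j => isZero_homology_cone _ j (KosC_acyclic X hX l j) (KosC_acyclic X hX l (j + 1))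

/-! ### Appending an element at the end -/

theorem KosC_append (X : CochainComplex (ModuleCat.{u} R) ℤ) (f : R) :
    ∀ l : List R, KosC (l ++ [f]) X = KosC l (mappingCone (f • 𝟙 X))
  | [] => rfl
  | g :: l => by
    change mappingCone (g • 𝟙 (KosC (l ++ [f]) X)) = mappingCone (g • 𝟙 (KosC l _))
    rw [KosC_append X f l]

theorem koszul_eq : ∀ fs : List R, Koszul.koszul R fs =
    KosC fs ((CochainComplex.singleFunctor (ModuleCat.{u} R) 0).obj (ModuleCat.of R R))
  | [] => rfl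
  | g :: l => by
    change mappingCone (g • 𝟙 (Koszul.koszul R l)) = mappingCone (g • 𝟙 (KosC l _))
    rw [koszul_eq l]

end Groth.Agent.Lib.Helper58.Kz
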