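import Groth.Agent.Lib.Helper58.Kz1
import Mathlib.Algebra.Homology.HomologySequenceLemmas
import Mathlib.Algebra.Homology.HomotopyCategory.DegreewiseSplit

/-!
# `KosC l` applied to cones and cocones: acyclicity criteria
-/

set_option autoImplicit false
universe u
open CategoryTheory CategoryTheory.Limits CochainComplex HomologicalComplex

namespace Groth.Agent.Lib.Helper58.Kz

open Groth.Agent.Lib.Helper58.Cech (DegreewiseSES)

variable {R : Type u} [CommRing R]

section General

variable {S : ShortComplex (CochainComplex (ModuleCat.{u} R) ℤ)} (hS : S.ShortExact)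

theorem ex₁ (i j : ℤ) (hij : (ComplexShape.up ℤ).Rel i j) :
    Function.Exact (hS.δ i j hij).hom (homologyMap S.f j).hom :=
  (ShortComplex.ShortExact.moduleCat_exact_iff_function_exact _).1 (hS.homology_exact₁ i j hij)

include hS in
theorem ex₂ (i : ℤ) :
    Function.Exact (homologyMap S.f i).hom (homologyMap S.g i).hom :=
  (ShortComplex.ShortExact.moduleCat_exact_iff_function_exact _).1 (hS.homology_exact₂ i)

theorem ex₃ (i j : ℤ) (hij : (ComplexShape.up ℤ).Rel i j) :
    Function.Exact (homologyMap S.g i).hom (hS.δ i j hij).hom :=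
  (ShortComplex.ShortExact.moduleCat_exact_iff_function_exact _).1 (hS.homology_exact₃ i j hij)

theorem δ_bijective (i j : ℤ) (hij : (ComplexShape.up ℤ).Rel i j) (hi : IsZero (S.X₂.homology i))
    (hj : IsZero (S.X₂.homology j)) : Function.Bijective (hS.δ i j hij).hom := by
  have hi' : Subsingleton (S.X₂.homology i) := ModuleCat.subsingleton_of_isZero hi
  have hj' : Subsingleton (S.X₂.homology j) := ModuleCat.subsingleton_of_isZero hj
  constructor
  · rw [injective_iff_map_eq_zero]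
    intro x hx
    obtain ⟨y, rfl⟩ := (ex₃ hS i j hij x).1 hx
    rw [Subsingleton.elim y 0, map_zero]
  · intro y
    exact (ex₁ hS i j hij y).1 (Subsingleton.elim _ _)

end General

theorem cone_id_acyclic (X : CochainComplex (ModuleCat.{u} R) ℤ) (j : ℤ) :
    IsZero ((mappingCone (𝟙 X)).homology j) := by
  rw [IsZero.iff_id_eq_zero, ← homologyMap_id, ← homologyMap_zero (mappingCone (𝟙 X))
    (mappingCone (𝟙 X)) j]
  exact (mappingCone.homotopyToZeroOfId X).homologyMap_eq j

/-! ### The cone sequence -/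

section Cone

variable {X Y : CochainComplex (ModuleCat.{u} R) ℤ} (u : X ⟶ Y)

/-- The short complex `Y ⟶ cone u ⟶ X⟦1⟧`. -/
noncomputable abbrev coneSC : ShortComplex (CochainComplex (ModuleCat.{u} R) ℤ) :=
  mappingCone.triangleRotateShortComplex u

theorem degreewiseSES_coneSC : DegreewiseSES (coneSC u).f (coneSC u).g := by
  intro p
  have h := (mappingCone.triangleRotateShortComplexSplitting u p).shortExact
  exact ⟨h.moduleCat_injective_f,
    (ShortComplex.ShortExact.moduleCat_exact_iff_function_exact _).1 h.exact,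
    h.moduleCat_surjective_g⟩

/-- Comparison `coneSC (𝟙 X) ⟶ coneSC u`. -/
noncomputable def coneSCMapL : coneSC (𝟙 X) ⟶ coneSC u where
  τ₁ := u
  τ₂ := mappingCone.map (𝟙 X) u (𝟙 X) u rfl
  τ₃ := 𝟙 _
  comm₁₂ := ((mappingCone.triangleMap (𝟙 X) u (𝟙 X) u rfl).comm₂).symm
  comm₂₃ := by
    have e1 : (mappingCone.triangle (𝟙 X)).mor₃ ≫ (𝟙 X)⟦(1 : ℤ)⟧' =
        mappingCone.map (𝟙 X) u (𝟙 X) u rfl ≫ (mappingCone.triangle u).mor₃ :=
      (mappingCone.triangleMap (𝟙 X) u (𝟙 X) u rfl).comm₃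
    have e2 : (mappingCone.triangle (𝟙 X)).mor₃ ≫ 𝟙 _ =
        mappingCone.map (𝟙 X) u (𝟙 X) u rfl ≫ (mappingCone.triangle u).mor₃ :=
      (congrArg (fun t => (mappingCone.triangle (𝟙 X)).mor₃ ≫ t)
        ((CategoryTheory.shiftFunctor (CochainComplex (ModuleCat.{u} R) ℤ) (1 : ℤ)).map_id X)).symm.trans e1
    exact e2.symm

/-- Comparison `coneSC u ⟶ coneSC (𝟙 Y)`. -/
noncomputable def coneSCMapR : coneSC u ⟶ coneSC (𝟙 Y) where
  τ₁ := 𝟙 _
  τ₂ := mappingCone.map u (𝟙 Y) u (𝟙 Y) rfl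
  τ₃ := u⟦(1 : ℤ)⟧'
  comm₁₂ := by
    have e1 : mappingCone.inr u ≫ mappingCone.map u (𝟙 Y) u (𝟙 Y) rfl =
        𝟙 Y ≫ mappingCone.inr (𝟙 Y) :=
      (mappingCone.triangleMap u (𝟙 Y) u (𝟙 Y) rfl).comm₂
    exact e1.symm
  comm₂₃ := by
    have e1 : (mappingCone.triangle u).mor₃ ≫ u⟦(1 : ℤ)⟧' =
        mappingCone.map u (𝟙 Y) u (𝟙 Y) rfl ≫ (mappingCone.triangle (𝟙 Y)).mor₃ :=
      (mappingCone.triangleMap u (𝟙 Y) u (𝟙 Y) rfl).comm₃
    exact e1.symm

variable (l : List R)

/-- If `H^j(KosC l (cone u)) = 0` then `H^j(KosC l u)` is surjective and `H^{j+1}(KosC l u)` is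
injective. -/
theorem surj_inj_of_isZero_cone (j : ℤ)
    (h : IsZero ((KosC l (mappingCone u)).homology j)) :
    Function.Surjective (homologyMap (KosMap u l) j).hom ∧
      Function.Injective (homologyMap (KosMap u l) (j + 1)).hom := by
  have h' : Subsingleton ((KosC l (mappingCone u)).homology j) :=
    ModuleCat.subsingleton_of_isZero h
  have hS₁ := KosSC_shortExact (coneSC (𝟙 X)) (degreewiseSES_coneSC (𝟙 X)) l
  have hS₂ := KosSC_shortExact (coneSC u) (degreewiseSES_coneSC u) l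
  have nat : ∀ (i k : ℤ) (hik : (ComplexShape.up ℤ).Rel i k),
      hS₁.δ i k hik ≫ homologyMap (KosMap u l) k = hS₂.δ i k hik := by
    intro i k hik
    have := HomologicalComplex.HomologySequence.δ_naturality (KosSCMap (coneSCMapL u) l)
      hS₁ hS₂ i k hik
    have e3 : homologyMap (KosSCMap (coneSCMapL u) l).τ₃ i = 𝟙 _ := by
      have e : (KosSCMap (coneSCMapL u) l).τ₃ = 𝟙 _ := KosMap_id _ l
      rw [e]
      exact homologyMap_id _ _
    exact this.trans ((congrArg (fun t => t ≫ hS₂.δ i k hik) e3).trans (Category.id_comp _))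
  have bij : ∀ (i k : ℤ) (hik : (ComplexShape.up ℤ).Rel i k), Function.Bijective (hS₁.δ i k hik).hom :=
    fun i k hik => δ_bijective hS₁ i k hik
      (KosC_acyclic _ (cone_id_acyclic X) l i) (KosC_acyclic _ (cone_id_acyclic X) l k)
  constructor
  · intro z
    have hj : (ComplexShape.up ℤ).Rel (j - 1) j := by simp
    obtain ⟨y, hy⟩ := (ex₁ hS₂ (j - 1) j hj z).1 (@Subsingleton.elim _ h' _ _)
    refine ⟨(hS₁.δ (j - 1) j hj).hom y, ?_⟩
    rw [← hy, ← nat (j - 1) j hj]
    rfl
  · rw [injective_iff_map_eq_zero]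
    intro x hx
    have hj : (ComplexShape.up ℤ).Rel j (j + 1) := by simp
    obtain ⟨y, rfl⟩ := (bij j (j + 1) hj).2 x
    have h2 : (hS₂.δ j (j + 1) hj).hom y = 0 := by
      rw [← nat j (j + 1) hj]
      exact hx
    obtain ⟨w, rfl⟩ := (ex₃ hS₂ j (j + 1) hj y).1 h2
    have hw : w = 0 := @Subsingleton.elim _ h' _ _
    rw [hw, map_zero]
    exact map_zero _

end Cone

end Groth.Agent.Lib.Helper58.Kz
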