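import Groth.Agent.Lib.Helper58.Kz2
import Mathlib.Algebra.Homology.HomotopyCategory.ShiftSequence
import Mathlib.Algebra.Homology.HomotopyCategory.MappingCocone

/-!
# `KosC l` applied to cocones: acyclicity criterion
-/

set_option autoImplicit false
universe u
open CategoryTheory CategoryTheory.Limits CochainComplex HomologicalComplex

namespace Groth.Agent.Lib.Helper58.Kz

open Groth.Agent.Lib.Helper58.Cech (DegreewiseSES)

variable {R : Type u} [CommRing R]

theorem isZero_homology_shift (Z : CochainComplex (ModuleCat.{u} R) ℤ)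
    (hZ : ∀ j, IsZero (Z.homology j)) (n j : ℤ) : IsZero ((Z⟦n⟧).homology j) :=
  IsZero.of_iso (hZ (n + j))
    ((CochainComplex.ShiftSequence.shiftIso (ModuleCat.{u} R) n j (n + j) rfl).app Z)

theorem transfer {A B A' B' : ModuleCat.{u} R} (f : A ⟶ B) (f' : A' ⟶ B') (a : A' ⟶ A)
    (b : B' ⟶ B) (comm : f' ≫ b = a ≫ f) (ha : Function.Bijective a.hom)
    (hb : Function.Bijective b.hom) :
    (Function.Surjective f.hom → Function.Surjective f'.hom) ∧
      (Function.Injective f.hom → Function.Injective f'.hom) := by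
  have hc : ∀ x, b.hom (f'.hom x) = f.hom (a.hom x) := fun x =>
    congrArg (fun t => t.hom x) comm
  constructor
  · intro hf y'
    obtain ⟨x, hx⟩ := hf (b.hom y')
    obtain ⟨x', rfl⟩ := ha.2 x
    exact ⟨x', hb.1 ((hc x').trans hx)⟩
  · intro hf x' x'' h
    apply ha.1
    apply hf
    rw [← hc, ← hc, h]

theorem bijective_homologyMap_KosMap_iso {X X' : CochainComplex (ModuleCat.{u} R) ℤ}
    (e : X ≅ X') (l : List R) (j : ℤ) :
    Function.Bijective (homologyMap (KosMap e.hom l) j).hom := by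
  have h1 : homologyMap (KosMap e.hom l) j ≫ homologyMap (KosMap e.inv l) j = 𝟙 _ := by
    rw [← homologyMap_comp, ← KosMap_comp, e.hom_inv_id, KosMap_id, homologyMap_id]
  have h2 : homologyMap (KosMap e.inv l) j ≫ homologyMap (KosMap e.hom l) j = 𝟙 _ := by
    rw [← homologyMap_comp, ← KosMap_comp, e.inv_hom_id, KosMap_id, homologyMap_id]
  constructor
  · intro x y hxy
    have := congrArg (homologyMap (KosMap e.inv l) j).hom hxy
    have hx : (homologyMap (KosMap e.inv l) j).hom ((homologyMap (KosMap e.hom l) j).hom x) = x :=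
      congrArg (fun t => t.hom x) h1
    have hy : (homologyMap (KosMap e.inv l) j).hom ((homologyMap (KosMap e.hom l) j).hom y) = y :=
      congrArg (fun t => t.hom y) h1
    rw [hx, hy] at this
    exact this
  · intro y
    exact ⟨(homologyMap (KosMap e.inv l) j).hom y, congrArg (fun t => t.hom y) h2⟩

section Cocone

variable {X Y : CochainComplex (ModuleCat.{u} R) ℤ} (u : X ⟶ Y)

/-- The short complex `Y⟦-1⟧ ⟶ cocone u ⟶ X⟦1⟧⟦-1⟧`. -/
noncomputable abbrev coconeSC : ShortComplex (CochainComplex (ModuleCat.{u} R) ℤ) :=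
  (coneSC u).map (CategoryTheory.shiftFunctor (CochainComplex (ModuleCat.{u} R) ℤ) (-1 : ℤ))

theorem degreewiseSES_coconeSC : DegreewiseSES (coconeSC u).f (coconeSC u).g :=
  fun p => degreewiseSES_coneSC u (p + -1)

/-- Comparison `coconeSC u ⟶ coconeSC (𝟙 Y)`. -/
noncomputable abbrev coconeSCMap : coconeSC u ⟶ coconeSC (𝟙 Y) :=
  (CategoryTheory.shiftFunctor (CochainComplex (ModuleCat.{u} R) ℤ) (-1 : ℤ)).mapShortComplex.map
    (coneSCMapR u)

variable (l : List R)

theorem isZero_cocone (j : ℤ)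
    (hs : Function.Surjective (homologyMap (KosMap u l) (j - 1)).hom)
    (hi : Function.Injective (homologyMap (KosMap u l) j).hom) :
    IsZero ((KosC l (mappingCocone u)).homology j) := by
  have hS₁ := KosSC_shortExact (coconeSC u) (degreewiseSES_coconeSC u) l
  have hS₂ := KosSC_shortExact (coconeSC (𝟙 Y)) (degreewiseSES_coconeSC (𝟙 Y)) l
  -- the twisted map
  let u'' : (X⟦(1 : ℤ)⟧)⟦(-1 : ℤ)⟧ ⟶ (Y⟦(1 : ℤ)⟧)⟦(-1 : ℤ)⟧ := (u⟦(1 : ℤ)⟧')⟦(-1 : ℤ)⟧'
  have nat : ∀ (i k : ℤ) (hik : (ComplexShape.up ℤ).Rel i k),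
      hS₁.δ i k hik = homologyMap (KosMap u'' l) i ≫ hS₂.δ i k hik := by
    intro i k hik
    have := HomologicalComplex.HomologySequence.δ_naturality (KosSCMap (coconeSCMap u) l)
      hS₁ hS₂ i k hik
    have e1 : homologyMap (KosSCMap (coconeSCMap u) l).τ₁ k = 𝟙 _ := by
      have e : (KosSCMap (coconeSCMap u) l).τ₁ = 𝟙 _ := by
        change KosMap ((𝟙 Y)⟦(-1 : ℤ)⟧') l = 𝟙 _
        rw [CategoryTheory.Functor.map_id]
        exact KosMap_id _ l
      rw [e]
      exact homologyMap_id _ _
    exact ((Category.comp_id _).symm.trans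
      (congrArg (fun t => hS₁.δ i k hik ≫ t) e1.symm)).trans this
  have bij : ∀ (i k : ℤ) (hik : (ComplexShape.up ℤ).Rel i k),
      Function.Bijective (hS₂.δ i k hik).hom :=
    fun i k hik => δ_bijective hS₂ i k hik
      (KosC_acyclic _ (fun j => isZero_homology_shift _ (cone_id_acyclic Y) (-1) j) l i)
      (KosC_acyclic _ (fun j => isZero_homology_shift _ (cone_id_acyclic Y) (-1) j) l k)
  -- transfer from `u` to `u''`
  let e := shiftFunctorCompIsoId (CochainComplex (ModuleCat.{u} R) ℤ) (1 : ℤ) (-1) (by simp)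
  have hnat : u'' ≫ e.hom.app Y = e.hom.app X ≫ u := e.hom.naturality u
  have htr : ∀ i : ℤ, (Function.Surjective (homologyMap (KosMap u l) i).hom →
      Function.Surjective (homologyMap (KosMap u'' l) i).hom) ∧
      (Function.Injective (homologyMap (KosMap u l) i).hom →
      Function.Injective (homologyMap (KosMap u'' l) i).hom) := by
    intro i
    refine transfer _ _ (homologyMap (KosMap (e.hom.app X) l) i)
      (homologyMap (KosMap (e.hom.app Y) l) i) ?_
      (bijective_homologyMap_KosMap_iso (e.app X) l i)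
      (bijective_homologyMap_KosMap_iso (e.app Y) l i)
    rw [← homologyMap_comp, ← homologyMap_comp, ← KosMap_comp, ← KosMap_comp, hnat]
  have hδi : Function.Injective (hS₁.δ j (j + 1) (by simp)).hom := by
    rw [nat]
    exact (bij j (j + 1) (by simp)).1.comp ((htr j).2 hi)
  have hδs : Function.Surjective (hS₁.δ (j - 1) j (by simp)).hom := by
    rw [nat]
    exact (bij (j - 1) j (by simp)).2.comp ((htr (j - 1)).1 hs)
  have : Subsingleton ((KosSC (coconeSC u) l).X₂.homology j) := by
    refine ⟨fun x y => ?_⟩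
    suffices ∀ z : (KosSC (coconeSC u) l).X₂.homology j, z = 0 by rw [this x, this y]
    intro z
    have h1 : (homologyMap (KosSC (coconeSC u) l).g j).hom z = 0 := by
      apply hδi
      rw [map_zero]
      exact (ex₃ hS₁ j (j + 1) (by simp)).apply_apply_eq_zero z
    obtain ⟨w, rfl⟩ := (ex₂ hS₁ j z).1 h1
    obtain ⟨v, rfl⟩ := hδs w
    exact (ex₁ hS₁ (j - 1) j (by simp)).apply_apply_eq_zero v
  exact @ModuleCat.isZero_of_subsingleton _ _ _ this

end Cocone

end Groth.Agent.Lib.Helper58.Kz
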