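import Groth.Agent.Lib.Helper58.Kz3
import Groth.Agent.Lib.Helper58.Cech2

/-!
# Degreewise localisation maps of complexes induce localisations on cohomology;
# `KosC l` of a localisation unit is degreewise a localisation
-/

set_option autoImplicit false
universe u
open CategoryTheory CategoryTheory.Limits CochainComplex HomologicalComplex

namespace Groth.Agent.Lib.Helper58.Kz

open Groth.Agent.Lib.Helper58.Cech (fst_coneMap_apply snd_coneMap_apply coneMap_inl_apply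
  coneMap_inr_apply cone_decomp isLocalizedModule_homologyMap)

variable {R : Type u} [CommRing R] (S : Submonoid R)

section DegreewiseLoc

variable {Z Z' : CochainComplex (ModuleCat.{u} R) ℤ} (w : Z ⟶ Z')
  (hw : ∀ n, IsLocalizedModule S (w.f n).hom)

include hw in
theorem locIso_comm (n m : ℤ) :
    (@IsLocalizedModule.iso _ _ S _ _ _ _ _ _ (w.f n).hom (hw n)).toModuleIso.hom ≫ Z'.d n m =
      ((DerCA.locCx S).obj Z).d n m ≫
        (@IsLocalizedModule.iso _ _ S _ _ _ _ _ _ (w.f m).hom (hw m)).toModuleIso.hom := by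
  have := hw n
  have := hw m
  apply ModuleCat.hom_ext
  apply IsLocalizedModule.ext S (LocalizedModule.mkLinearMap S (Z.X n))
    (IsLocalizedModule.map_units (w.f m).hom)
  ext x
  change (Z'.d n m).hom ((IsLocalizedModule.iso S (w.f n).hom) (LocalizedModule.mk x 1)) =
    (IsLocalizedModule.iso S (w.f m).hom)
      ((IsLocalizedModule.map S (LocalizedModule.mkLinearMap S (Z.X n))
        (LocalizedModule.mkLinearMap S (Z.X m)) (Z.d n m).hom) (LocalizedModule.mk x 1))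
  have e1 : (LocalizedModule.mk x 1 : LocalizedModule S (Z.X n)) =
      LocalizedModule.mkLinearMap S (Z.X n) x := rfl
  rw [IsLocalizedModule.iso_mk_one, e1, IsLocalizedModule.map_apply,
    LocalizedModule.mkLinearMap_apply, IsLocalizedModule.iso_mk_one]
  exact congrArg (fun t => t.hom x) (w.comm n m)

/-- A degreewise localisation map of complexes identifies the target with the termwise
localisation. -/
noncomputable def locIso : (DerCA.locCx S).obj Z ≅ Z' :=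
  HomologicalComplex.Hom.isoOfComponents
    (fun n => (@IsLocalizedModule.iso _ _ S _ _ _ _ _ _ (w.f n).hom (hw n)).toModuleIso)
    (fun n m _ => locIso_comm S w hw n m)

theorem locCxUnit_locIso : DerCA.locCxUnit S Z ≫ (locIso S w hw).hom = w := by
  ext n : 1
  have := hw n
  apply ModuleCat.hom_ext
  ext x
  change (IsLocalizedModule.iso S (w.f n).hom) (LocalizedModule.mk x 1) = (w.f n).hom x
  exact IsLocalizedModule.iso_mk_one S (w.f n).hom x

include hw in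
theorem isLocalizedModule_homologyMap_of_degreewise (j : ℤ) :
    IsLocalizedModule S (homologyMap w j).hom := by
  have h1 := isLocalizedModule_homologyMap S Z j
  let e' : (((DerCA.locCx S).obj Z).homology j) ≃ₗ[R] (Z'.homology j) :=
    ((homologyFunctor (ModuleCat.{u} R) (ComplexShape.up ℤ) j).mapIso
      (locIso S w hw)).toLinearEquiv
  have h2 : IsLocalizedModule S
      (e'.toLinearMap ∘ₗ (homologyMap (DerCA.locCxUnit S Z) j).hom) :=
    IsLocalizedModule.of_linearEquiv S (homologyMap (DerCA.locCxUnit S Z) j).hom e'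
  have e : homologyMap w j = homologyMap (DerCA.locCxUnit S Z) j ≫
      homologyMap (locIso S w hw).hom j := by
    rw [← homologyMap_comp, locCxUnit_locIso]
  rw [e]
  exact h2

end DegreewiseLoc

section Abstract

variable {A₁ B₁ C₁ A₂ B₂ C₂ : Type*} [AddCommGroup A₁] [Module R A₁] [AddCommGroup B₁] [Module R B₁]
  [AddCommGroup C₁] [Module R C₁] [AddCommGroup A₂] [Module R A₂] [AddCommGroup B₂] [Module R B₂]
  [AddCommGroup C₂] [Module R C₂]

theorem isLocalizedModule_of_decomp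
    (F₁ : C₁ →ₗ[R] A₁) (G₁ : C₁ →ₗ[R] B₁) (IL₁ : A₁ →ₗ[R] C₁) (IR₁ : B₁ →ₗ[R] C₁)
    (F₂ : C₂ →ₗ[R] A₂) (G₂ : C₂ →ₗ[R] B₂) (IL₂ : A₂ →ₗ[R] C₂) (IR₂ : B₂ →ₗ[R] C₂)
    (α : A₁ →ₗ[R] A₂) (β : B₁ →ₗ[R] B₂) (γ : C₁ →ₗ[R] C₂)
    (dec₁ : ∀ y, y = IL₁ (F₁ y) + IR₁ (G₁ y)) (dec₂ : ∀ y, y = IL₂ (F₂ y) + IR₂ (G₂ y))
    (hF : ∀ x, F₂ (γ x) = α (F₁ x)) (hG : ∀ x, G₂ (γ x) = β (G₁ x))
    (hIL : ∀ x, γ (IL₁ x) = IL₂ (α x)) (hIR : ∀ x, γ (IR₁ x) = IR₂ (β x))
    [hα : IsLocalizedModule S α] [hβ : IsLocalizedModule S β] : IsLocalizedModule S γ := by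
  refine ⟨fun s => ?_, fun y => ?_, fun {x₁ x₂} h => ?_⟩
  · rw [Module.End.isUnit_iff]
    have hKu : Function.Bijective fun x : A₂ => (s : R) • x :=
      (Module.End.isUnit_iff _).1 (IsLocalizedModule.map_units α s)
    have hLu : Function.Bijective fun x : B₂ => (s : R) • x :=
      (Module.End.isUnit_iff _).1 (IsLocalizedModule.map_units β s)
    change Function.Bijective fun x : C₂ => (s : R) • x
    constructor
    · intro x y hxy
      have hxy' : (s : R) • x = (s : R) • y := hxy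
      have h1 : F₂ x = F₂ y := by
        apply hKu.1
        change (s : R) • F₂ x = (s : R) • F₂ y
        rw [← map_smul, ← map_smul, hxy']
      have h2 : G₂ x = G₂ y := by
        apply hLu.1
        change (s : R) • G₂ x = (s : R) • G₂ y
        rw [← map_smul, ← map_smul, hxy']
      rw [dec₂ x, dec₂ y, h1, h2]
    · intro y
      obtain ⟨x₁, hx₁⟩ := hKu.2 (F₂ y)
      obtain ⟨x₂, hx₂⟩ := hLu.2 (G₂ y)
      have hx₁' : (s : R) • x₁ = F₂ y := hx₁
      have hx₂' : (s : R) • x₂ = G₂ y := hx₂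
      refine ⟨IL₂ x₁ + IR₂ x₂, ?_⟩
      change (s : R) • (IL₂ x₁ + IR₂ x₂) = y
      rw [smul_add, ← map_smul, ← map_smul, hx₁', hx₂']
      exact (dec₂ y).symm
  · obtain ⟨⟨x₁, s₁⟩, h₁⟩ := IsLocalizedModule.surj S α (F₂ y)
    obtain ⟨⟨x₂, s₂⟩, h₂⟩ := IsLocalizedModule.surj S β (G₂ y)
    have h₁' : (s₁ : R) • F₂ y = α x₁ := h₁
    have h₂' : (s₂ : R) • G₂ y = β x₂ := h₂
    refine ⟨⟨IL₁ ((s₂ : R) • x₁) + IR₁ ((s₁ : R) • x₂), s₁ * s₂⟩, ?_⟩
    change ((s₁ : R) * (s₂ : R)) • y = γ (IL₁ ((s₂ : R) • x₁) + IR₁ ((s₁ : R) • x₂))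
    have e1 : γ (IL₁ ((s₂ : R) • x₁) + IR₁ ((s₁ : R) • x₂)) =
        IL₂ ((s₂ : R) • α x₁) + IR₂ ((s₁ : R) • β x₂) := by
      rw [map_add, hIL, hIR, map_smul α, map_smul β]
    rw [e1, ← h₁', ← h₂', map_smul, map_smul, map_smul, map_smul, smul_smul, smul_smul,
      mul_comm (s₂ : R) (s₁ : R), ← smul_add, ← dec₂ y]
  · have h1 : α (F₁ x₁) = α (F₁ x₂) := by rw [← hF, ← hF, h]
    have h2 : β (G₁ x₁) = β (G₁ x₂) := by rw [← hG, ← hG, h]
    obtain ⟨c₁, hc₁⟩ := IsLocalizedModule.exists_of_eq (S := S) h1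
    obtain ⟨c₂, hc₂⟩ := IsLocalizedModule.exists_of_eq (S := S) h2
    have hc₁' : (c₁ : R) • F₁ x₁ = (c₁ : R) • F₁ x₂ := hc₁
    have hc₂' : (c₂ : R) • G₁ x₁ = (c₂ : R) • G₁ x₂ := hc₂
    refine ⟨c₁ * c₂, ?_⟩
    change ((c₁ : R) * (c₂ : R)) • x₁ = ((c₁ : R) * (c₂ : R)) • x₂
    have e : ∀ x, ((c₁ : R) * (c₂ : R)) • x =
        IL₁ ((c₂ : R) • ((c₁ : R) • F₁ x)) + IR₁ ((c₁ : R) • ((c₂ : R) • G₁ x)) := by
      intro x
      rw [map_smul, map_smul, map_smul, map_smul, smul_smul, smul_smul,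
        mul_comm (c₂ : R) (c₁ : R), ← smul_add, ← dec₁ x]
    rw [e x₁, e x₂, hc₁', hc₂']

end Abstract

section ConeLoc

variable {K₁ L₁ K₂ L₂ : CochainComplex (ModuleCat.{u} R) ℤ}
  (φ₁ : K₁ ⟶ L₁) (φ₂ : K₂ ⟶ L₂) (a : K₁ ⟶ K₂) (b : L₁ ⟶ L₂) (comm : φ₁ ≫ b = a ≫ φ₂)

theorem isLocalizedModule_coneMap (ha : ∀ n, IsLocalizedModule S (a.f n).hom)
    (hb : ∀ n, IsLocalizedModule S (b.f n).hom) (n : ℤ) :
    IsLocalizedModule S ((mappingCone.map φ₁ φ₂ a b comm).f n).hom := by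
  have hA := ha (n + 1)
  have hB := hb n
  exact isLocalizedModule_of_decomp S
    ((mappingCone.fst φ₁).1.v n (n + 1) rfl).hom ((mappingCone.snd φ₁).v n n (add_zero n)).hom
    ((mappingCone.inl φ₁).v (n + 1) n (by omega)).hom ((mappingCone.inr φ₁).f n).hom
    ((mappingCone.fst φ₂).1.v n (n + 1) rfl).hom ((mappingCone.snd φ₂).v n n (add_zero n)).hom
    ((mappingCone.inl φ₂).v (n + 1) n (by omega)).hom ((mappingCone.inr φ₂).f n).hom
    (a.f (n + 1)).hom (b.f n).hom ((mappingCone.map φ₁ φ₂ a b comm).f n).hom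
    (fun y => cone_decomp φ₁ n (n + 1) rfl y) (fun y => cone_decomp φ₂ n (n + 1) rfl y)
    (fun x => fst_coneMap_apply φ₁ φ₂ a b comm n (n + 1) rfl x)
    (fun x => snd_coneMap_apply φ₁ φ₂ a b comm n x)
    (fun x => coneMap_inl_apply φ₁ φ₂ a b comm (n + 1) n (by omega) x)
    (fun x => coneMap_inr_apply φ₁ φ₂ a b comm n x)

end ConeLoc

theorem isLocalizedModule_KosMap_locCxUnit (X : CochainComplex (ModuleCat.{u} R) ℤ) :
    ∀ (l : List R) (n : ℤ), IsLocalizedModule S ((KosMap (DerCA.locCxUnit S X) l).f n).hom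
  | [], n => inferInstanceAs (IsLocalizedModule S (LocalizedModule.mkLinearMap S (X.X n)))
  | g :: l, n => by
    rw [KosMap_cons]
    exact isLocalizedModule_coneMap S _ _ _ _ _
      (isLocalizedModule_KosMap_locCxUnit X l) (isLocalizedModule_KosMap_locCxUnit X l) n

theorem isLocalizedModule_homologyMap_KosMap (X : CochainComplex (ModuleCat.{u} R) ℤ)
    (l : List R) (j : ℤ) :
    IsLocalizedModule S (homologyMap (KosMap (DerCA.locCxUnit S X) l) j).hom :=
  isLocalizedModule_homologyMap_of_degreewise S _ (isLocalizedModule_KosMap_locCxUnit S X l) j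

end Groth.Agent.Lib.Helper58.Kz
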