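import Groth.Agent.Lib.Helper58.Kz4
import Groth.Agent.Lib.Helper58.Cech7

/-!
# From Koszul acyclicity to Čech acyclicity
-/

set_option autoImplicit false
universe u
open CategoryTheory CategoryTheory.Limits CochainComplex HomologicalComplex

namespace Groth.Agent.Lib.Helper58.Kz

open Groth.Agent.Lib.Helper58.Cech (homologyMap_smul' isZero_X)

variable {R : Type u} [CommRing R]

section Modules

variable {N N' : Type*} [AddCommGroup N] [Module R N] [AddCommGroup N'] [Module R N']

theorem pow_smul_injective (f : R) (hf : Function.Injective (fun x : N => f • x)) (n : ℕ) :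
    Function.Injective (fun x : N => f ^ n • x) := by
  induction n with
  | zero => intro x y h; simpa using h
  | succ n ih =>
    intro x y h
    apply ih
    apply hf
    change f • (f ^ n • x) = f • (f ^ n • y)
    rw [smul_smul, smul_smul, ← pow_succ']
    exact h

theorem pow_smul_surjective (f : R) (hf : Function.Surjective (fun x : N => f • x)) (n : ℕ) :
    Function.Surjective (fun x : N => f ^ n • x) := by
  induction n with
  | zero => intro x; exact ⟨x, by simp⟩
  | succ n ih =>
    intro x
    obtain ⟨y, hy⟩ := hf x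
    obtain ⟨z, hz⟩ := ih y
    refine ⟨z, ?_⟩
    change f ^ (n + 1) • z = x
    have hy' : f • y = x := hy
    have hz' : f ^ n • z = y := hz
    rw [pow_succ', mul_smul, hz', hy']

theorem loc_injective_of_smul_injective (f : R) (φ : N →ₗ[R] N')
    [IsLocalizedModule (Submonoid.powers f) φ] (hf : Function.Injective (fun x : N => f • x)) :
    Function.Injective φ := by
  rw [injective_iff_map_eq_zero]
  intro x hx
  obtain ⟨⟨_, n, rfl⟩, hc⟩ := (IsLocalizedModule.eq_zero_iff (Submonoid.powers f) φ).1 hx
  have hc' : f ^ n • x = f ^ n • (0 : N) := by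
    rw [smul_zero]
    exact hc
  exact pow_smul_injective f hf n hc'

theorem loc_surjective_of_smul_bijective (f : R) (φ : N →ₗ[R] N')
    [IsLocalizedModule (Submonoid.powers f) φ] (hf : Function.Bijective (fun x : N => f • x)) :
    Function.Surjective φ := by
  intro y
  obtain ⟨⟨x, ⟨_, n, rfl⟩⟩, hx⟩ := IsLocalizedModule.surj (Submonoid.powers f) φ y
  have hx' : f ^ n • y = φ x := hx
  obtain ⟨x', hx''⟩ := pow_smul_surjective f hf.2 n x
  have hx3 : f ^ n • x' = x := hx''
  refine ⟨x', ?_⟩
  have hu := IsLocalizedModule.map_units φ (⟨f ^ n, n, rfl⟩ : Submonoid.powers f)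
  have hinj : Function.Injective (fun y : N' => f ^ n • y) :=
    ((Module.End.isUnit_iff _).1 hu).1
  apply hinj
  change f ^ n • φ x' = f ^ n • y
  rw [← map_smul, hx3, hx']

end Modules

theorem homologyMap_KosMap_smul_id_apply (X : CochainComplex (ModuleCat.{u} R) ℤ) (f : R)
    (l : List R) (j : ℤ) (x : (KosC l X).homology j) :
    (homologyMap (KosMap (f • 𝟙 X) l) j).hom x = f • x := by
  rw [KosMap_smul, KosMap_id, homologyMap_smul', homologyMap_id]
  rfl

/-- The one-variable step inside `KosC l`. -/
theorem step (l : List R) (X : CochainComplex (ModuleCat.{u} R) ℤ) (f : R) (a : ℤ)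
    (h : ∀ j : ℤ, j < a → IsZero ((KosC l (mappingCone (f • 𝟙 X))).homology j)) :
    ∀ j : ℤ, j ≤ a → IsZero ((KosC l (mappingCocone
      (DerCA.locCxUnit (Submonoid.powers f) X))).homology j) := by
  have hfun : ∀ j : ℤ, ⇑(homologyMap (KosMap (f • 𝟙 X) l) j).hom =
      fun x : (KosC l X).homology j => f • x :=
    fun j => funext (homologyMap_KosMap_smul_id_apply X f l j)
  have hsurj : ∀ j : ℤ, j < a →
      Function.Surjective (fun x : (KosC l X).homology j => f • x) := by
    intro j hj
    rw [← hfun j]
    exact (surj_inj_of_isZero_cone (f • 𝟙 X) l j (h j hj)).1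
  have hinj : ∀ j : ℤ, j ≤ a →
      Function.Injective (fun x : (KosC l X).homology j => f • x) := by
    intro j hj
    have := (surj_inj_of_isZero_cone (f • 𝟙 X) l (j - 1) (h (j - 1) (by omega))).2
    rw [show j - 1 + 1 = j by omega, hfun j] at this
    exact this
  intro j hj
  have hW := fun i => isLocalizedModule_homologyMap_KosMap (Submonoid.powers f) X l i
  apply isZero_cocone
  · have := hW (j - 1)
    exact loc_surjective_of_smul_bijective f _ ⟨hinj (j - 1) (by omega), hsurj (j - 1) (by omega)⟩
  · have := hW j
    exact loc_injective_of_smul_injective f _ (hinj j hj)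

/-- Koszul acyclicity below `a` (with Čech coefficients) gives Čech acyclicity below
`a + length`. -/
theorem main_aux (M : ModuleCat.{u} R) (l₁ : List R) :
    ∀ (l₂ : List R) (a : ℤ),
      (∀ j : ℤ, j < a → IsZero ((KosC l₁ (DerCA.extCech M l₂)).homology j)) →
      ∀ j : ℤ, j < a + l₁.length → IsZero ((DerCA.extCech M (l₁ ++ l₂)).homology j) := by
  induction l₁ using List.reverseRecOn with
  | nil =>
    intro l₂ a h j hj
    simp only [List.length_nil, Nat.cast_zero, add_zero] at hj
    exact h j hj
  | append_singleton l f ih =>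
    intro l₂ a h j hj
    rw [KosC_append] at h
    have h2 := step l (DerCA.extCech M l₂) f a h
    have h3 : ∀ j : ℤ, j < a + 1 → IsZero ((KosC l (DerCA.extCech M (f :: l₂))).homology j) :=
      fun j hj => h2 j (by omega)
    have h4 := ih (f :: l₂) (a + 1) h3 j (by
      rw [List.length_append, List.length_singleton] at hj
      push_cast at hj
      omega)
    rw [List.append_assoc]
    exact h4

theorem extCech_isZero_of_koszul (fs : List R)
    (hfs : ∀ i : ℤ, i ≠ 0 → IsZero ((Koszul.koszul R fs).homology i)) (q : ℤ)
    (hq : q ≠ (fs.length : ℤ)) :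
    IsZero ((DerCA.extCech (ModuleCat.of R R) fs).homology q) := by
  rcases lt_or_gt_of_ne hq with h | h
  · have h0 : ∀ j : ℤ, j < 0 →
        IsZero ((KosC fs (DerCA.extCech (ModuleCat.of R R) [])).homology j) := by
      intro j hj
      have := hfs j (by omega)
      rw [koszul_eq] at this
      exact this
    have := main_aux (ModuleCat.of R R) fs [] 0 h0 q (by omega)
    rw [List.append_nil] at this
    exact this
  · exact ShortComplex.isZero_homology_of_isZero_X₂ _ (isZero_X fs _ q (Or.inr h))

end Groth.Agent.Lib.Helper58.Kz
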