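import Groth.Agent.Lib.Helper41.LCGen

/-!
# Injective modules over `R'` are `Γ_I`-acyclic over `R`
-/

set_option autoImplicit false
universe u
open CategoryTheory CategoryTheory.Limits Opposite

namespace Groth.Agent.Lib.Helper58.LCInjBase
open Groth.Agent.Lib.Helper41.LC

section overR'
variable {R' : Type u} [CommRing R'] [IsNoetherianRing R'] (b : R')
variable (E : Type u) [AddCommGroup E] [Module R' E] [Module.Injective R' E]

/-- Multiplication by `b^n` on `R'`. -/
def mulPow (n : ℕ) : R' →ₗ[R'] R' := LinearMap.lsmul R' R' (b ^ n)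

theorem ker_mulPow_mono : Monotone (fun n => LinearMap.ker (mulPow b n)) := by
  intro n m hnm r hr
  rw [LinearMap.mem_ker] at hr ⊢
  change b ^ n • r = 0 at hr
  change b ^ m • r = 0
  obtain ⟨k, rfl⟩ := Nat.exists_eq_add_of_le hnm
  rw [pow_add, mul_comm, mul_smul, hr, smul_zero]

/-- Every element of an injective module is `b`-divisible modulo `b`-power torsion. -/
theorem exists_sub_smul_mem (x : E) :
    ∃ y : E, x - b • y ∈ powTorsion (Ideal.span {b}) E := by
  obtain ⟨N, hN⟩ := monotone_stabilizes_iff_noetherian.mpr
    (inferInstance : IsNoetherian R' R') ⟨_, ker_mulPow_mono b⟩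
  have hstab : LinearMap.ker (mulPow b (N + 1)) ≤ LinearMap.ker (mulPow b N) :=
    (hN (N + 1) (Nat.le_succ N)).ge
  let P := LinearMap.ker (mulPow b (N + 1))
  let f : (R' ⧸ P) →ₗ[R'] R' := P.liftQ (mulPow b (N + 1)) le_rfl
  have hf : Function.Injective f := by
    rw [← LinearMap.ker_eq_bot]
    exact Submodule.ker_liftQ_eq_bot _ _ _ le_rfl
  let g₀ : R' →ₗ[R'] E := (LinearMap.toSpanSingleton R' E x) ∘ₗ mulPow b N
  have hg₀ : P ≤ LinearMap.ker g₀ := by
    intro r hr
    have := hstab hr
    rw [LinearMap.mem_ker] at this ⊢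
    simp only [g₀, LinearMap.comp_apply, this, map_zero]
  let g : (R' ⧸ P) →ₗ[R'] E := P.liftQ g₀ hg₀
  obtain ⟨h, hh⟩ := Module.Injective.out f hf g
  refine ⟨h 1, ?_⟩
  rw [mem_powTorsion_span_singleton_iff]
  refine ⟨N, ?_⟩
  have h1 := hh (Submodule.Quotient.mk 1)
  simp only [f, g, g₀, Submodule.liftQ_apply, LinearMap.comp_apply, mulPow,
    LinearMap.lsmul_apply, smul_eq_mul, mul_one, LinearMap.toSpanSingleton_apply] at h1
  rw [smul_sub, ← h1, smul_smul, ← pow_succ, ← map_smul, smul_eq_mul, mul_one, sub_self]

theorem smul_bijective_quotient :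
    Function.Bijective (fun m : E ⧸ powTorsion (Ideal.span {b}) E => b • m) := by
  constructor
  · intro y₁ y₂ hy
    simp only at hy
    rw [← sub_eq_zero, ← smul_sub] at hy
    rw [← sub_eq_zero]
    generalize y₁ - y₂ = y at hy
    obtain ⟨m, rfl⟩ := Submodule.Quotient.mk_surjective _ y
    rw [← Submodule.Quotient.mk_smul, Submodule.Quotient.mk_eq_zero] at hy
    rw [Submodule.Quotient.mk_eq_zero]
    obtain ⟨n, hn⟩ := (mem_powTorsion_span_singleton_iff b _).1 hy
    rw [mem_powTorsion_span_singleton_iff]
    exact ⟨n + 1, by rw [pow_succ, mul_smul, hn]⟩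
  · intro y
    obtain ⟨x, rfl⟩ := Submodule.Quotient.mk_surjective _ y
    obtain ⟨z, hz⟩ := exists_sub_smul_mem b E x
    refine ⟨Submodule.Quotient.mk z, ?_⟩
    simp only
    rw [← Submodule.Quotient.mk_smul]
    exact ((Submodule.Quotient.eq _).mpr hz).symm

end overR'

section main
variable {R : Type u} [CommRing R] [IsNoetherianRing R] {R' : Type u} [CommRing R']
  [IsNoetherianRing R'] [Algebra R R']

theorem subsingleton_of_injective_base (s : Finset R) :
    ∀ (E : Type u) [AddCommGroup E] [Module R' E] [Module R E] [IsScalarTower R R' E]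
      [Module.Injective R' E] (i : ℕ), 0 < i →
      Subsingleton ((localCohomology (Ideal.span (s : Set R)) i).obj (ModuleCat.of R E)) := by
  classical
  induction s using Finset.induction_on with
  | empty =>
    intro E _ _ _ _ _ i hi
    rw [Finset.coe_empty, Ideal.span_empty]
    apply subsingleton_of_isTorsion ⊥ i hi (ModuleCat.of R E)
    intro m
    refine ⟨1, fun a ha => ?_⟩
    rw [pow_one, Ideal.mem_bot] at ha
    rw [ha, zero_smul]
  | insert a s ha ih =>
    intro E _ _ _ _ _ i hi
    set b : R' := algebraMap R R' a with hb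
    set J : Ideal R := Ideal.span ((insert a s : Finset R) : Set R) with hJ
    set I₀ : Ideal R := Ideal.span (s : Set R) with hI₀
    set K : Ideal R := Ideal.span {a} with hK
    have hJeq : J = K ⊔ I₀ := by
      rw [hJ, Finset.coe_insert, Ideal.span_insert]
    have hI₀J : I₀ ≤ J := hJeq ▸ le_sup_right
    have haJ : a ∈ J := hJeq ▸ (le_sup_left (a := K) (Ideal.mem_span_singleton_self a))
    let T : Submodule R' E := powTorsion (Ideal.span {b}) E
    have hTinj : Module.Injective R' T := (baer_powTorsion (Ideal.span {b}) E).injective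
    let S : ShortComplex (ModuleCat.{u} R) :=
      ShortComplex.mk (ModuleCat.ofHom (T.subtype.restrictScalars R))
        (ModuleCat.ofHom (T.mkQ.restrictScalars R)) (by
          ext x
          change T.mkQ (T.subtype x) = 0
          simp)
    have hS : S.ShortExact := by
      apply ModuleCat.shortComplex_shortExact
      · intro y
        change T.mkQ y = 0 ↔ y ∈ Set.range T.subtype
        rw [Submodule.mkQ_apply, Submodule.Quotient.mk_eq_zero]
        constructor
        · intro hy
          exact ⟨⟨y, hy⟩, rfl⟩
        · rintro ⟨z, rfl⟩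
          exact z.2
      · exact T.injective_subtype
      · exact T.mkQ_surjective
    -- the torsion part
    have h₁ : Subsingleton ((localCohomology J i).obj S.X₁) := by
      have hTK : IsTorsion K (ModuleCat.of R T) := by
        rw [isTorsion_span_singleton_iff]
        rintro ⟨m, hm⟩
        obtain ⟨n, hn⟩ := (mem_powTorsion_span_singleton_iff b m).1 hm
        refine ⟨n, Subtype.ext ?_⟩
        change a ^ n • m = 0
        rw [← algebraMap_smul R' (a ^ n) m, map_pow]
        exact hn
      have hbij := cmpH_bijective_of_isTorsion hI₀J K (by rw [hJeq, sup_comm]) i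
        (ModuleCat.of R T) hTK
      have := ih T i hi
      exact hbij.1.subsingleton
    -- the torsion-free part
    have h₃ : Subsingleton ((localCohomology J i).obj S.X₃) := by
      apply subsingleton_of_bijective_smul J i (ModuleCat.of R (E ⧸ T)) a haJ
      have := smul_bijective_quotient b E
      convert this using 2 with m
      exact (algebraMap_smul R' a m).symm
    exact (map_g_injective_of_subsingleton J hS i h₁).subsingleton

end main

end Groth.Agent.Lib.Helper58.LCInjBase
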