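import Groth.Agent.Lib.Helper41.LCFree
import Groth.Agent.Lib.Helper41.LCUnion
import Groth.Agent.Lib.Helper41.LCGen
import Groth.Agent.Lib.Helper41.LCTorsion
import Mathlib.Algebra.Category.ModuleCat.Products
import Mathlib.Algebra.Homology.ShortComplex.ExactFunctor

/-!
# Local cohomology: additivity, right exactness in top degree, commutation with coproducts
-/

set_option autoImplicit false
universe u
open CategoryTheory CategoryTheory.Limits DirectSum

namespace Groth.Agent.Lib.Helper58.LCRep

open Groth.Agent.Lib.Helper41.LC

variable {R : Type u} [CommRing R]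

instance additive (J : Ideal R) (i : ℕ) : (localCohomology J i).Additive where
  map_add {M M' f g} := by
    apply ModuleCat.hom_ext
    apply LinearMap.ext
    intro x
    exact map_add_apply J f g i x

/-- A cofan in `ModuleCat` is a coproduct as soon as the induced map from the direct sum is
bijective. -/
noncomputable def isColimitCofanOfBijective {ι : Type u} [DecidableEq ι] (Z : ι → ModuleCat.{u} R)
    (P : ModuleCat.{u} R) (g : ∀ i, Z i ⟶ P)
    (h : Function.Bijective (DirectSum.toModule R ι P fun i => (g i).hom)) :
    IsColimit (Cofan.mk P g) := by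
  let e : (⨁ i, Z i) ≃ₗ[R] P := LinearEquiv.ofBijective _ h
  refine IsColimit.ofIsoColimit (ModuleCat.coproductCoconeIsColimit Z)
    (Cocone.ext e.toModuleIso ?_)
  rintro ⟨i⟩
  apply ModuleCat.hom_ext
  apply LinearMap.ext
  intro (x : Z i)
  exact DirectSum.toModule_lof (ι := ι) R (M := fun i => Z i) (φ := fun i => (g i).hom) i x

end Groth.Agent.Lib.Helper58.LCRep
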