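import Groth.Agent.Lib.Helper58.LCRep1

/-!
# Local cohomology commutes with arbitrary coproducts (Noetherian ring)
-/

set_option autoImplicit false
universe u
open CategoryTheory CategoryTheory.Limits DirectSum

namespace Groth.Agent.Lib.Helper58.LCRep

open Groth.Agent.Lib.Helper41.LC

variable {R : Type u} [CommRing R] {ι : Type u} [DecidableEq ι] (Z : ι → ModuleCat.{u} R)

/-- projection from the direct sum -/
noncomputable def prj (j : ι) : ModuleCat.of R (⨁ i, Z i) ⟶ Z j :=
  ModuleCat.ofHom (DirectSum.component R ι (fun i => Z i) j)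

/-- inclusion into the direct sum -/
noncomputable def inj (j : ι) : Z j ⟶ ModuleCat.of R (⨁ i, Z i) :=
  ModuleCat.ofHom (DirectSum.lof R ι (fun i => Z i) j)

lemma inj_prj_self (j : ι) : inj Z j ≫ prj Z j = 𝟙 _ := by
  apply ModuleCat.hom_ext
  apply LinearMap.ext
  intro (x : Z j)
  exact DirectSum.component.lof_self (ι := ι) R (M := fun i => Z i) j x

lemma inj_prj_ne {i j : ι} (h : i ≠ j) : inj Z i ≫ prj Z j = 0 := by
  apply ModuleCat.hom_ext
  apply LinearMap.ext
  intro (x : Z i)
  change DirectSum.component R ι (fun i => Z i) j (DirectSum.lof R ι (fun i => Z i) i x) = 0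
  rw [DirectSum.component.of, dif_neg h]

variable (J : Ideal R) (n : ℕ)

/-- the comparison map `⨁ H(Z i) → H(⨁ Z i)` -/
noncomputable def theta :
    (⨁ i, (localCohomology J n).obj (Z i)) →ₗ[R]
      (localCohomology J n).obj (ModuleCat.of R (⨁ i, Z i)) :=
  DirectSum.toModule R ι _ fun i => ((localCohomology J n).map (inj Z i)).hom

lemma prj_theta (j : ι) :
    ((localCohomology J n).map (prj Z j)).hom.comp (theta Z J n) =
      DirectSum.component R ι (fun i => (localCohomology J n).obj (Z i)) j := by
  refine DirectSum.linearMap_ext _ fun i => ?_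
  apply LinearMap.ext
  intro y
  change ((localCohomology J n).map (prj Z j)).hom (theta Z J n (DirectSum.lof R ι _ i y)) =
    DirectSum.component R ι (fun i => (localCohomology J n).obj (Z i)) j (DirectSum.lof R ι _ i y)
  rw [theta, DirectSum.toModule_lof, DirectSum.component.of]
  have h1 : ((localCohomology J n).map (prj Z j)).hom (((localCohomology J n).map (inj Z i)).hom y)
      = ((localCohomology J n).map (inj Z i ≫ prj Z j)).hom y := by
    rw [Functor.map_comp]; rfl
  rw [h1]
  by_cases h : i = j
  · subst h
    rw [inj_prj_self, dif_pos rfl, CategoryTheory.Functor.map_id]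
    rfl
  · rw [inj_prj_ne Z h, dif_neg h]
    exact map_zero_apply J n y

theorem theta_injective : Function.Injective (theta Z J n) := by
  rw [injective_iff_map_eq_zero]
  intro x hx
  apply DirectSum.ext_component R
  intro j
  rw [← prj_theta Z J n j, LinearMap.comp_apply, hx, map_zero, map_zero]

end Groth.Agent.Lib.Helper58.LCRep
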