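import Groth.Agent.Lib.Helper58.LCRep2

/-!
# Local cohomology commutes with arbitrary coproducts (Noetherian ring), surjectivity part
-/

set_option autoImplicit false
universe u
open CategoryTheory CategoryTheory.Limits DirectSum

namespace Groth.Agent.Lib.Helper58.LCRep

open Groth.Agent.Lib.Helper41.LC

variable {R : Type u} [CommRing R] {ι : Type u} [DecidableEq ι] (Z : ι → ModuleCat.{u} R)

/-- the idempotent cutting down to a finite set of indices -/
noncomputable def cut (s : Finset ι) : (⨁ i, Z i) →ₗ[R] (⨁ i, Z i) :=
  ∑ i ∈ s, (DirectSum.lof R ι (fun i => Z i) i).comp (DirectSum.component R ι (fun i => Z i) i)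

lemma ofHom_cut (s : Finset ι) :
    ModuleCat.ofHom (cut Z s) = ∑ i ∈ s, (prj Z i ≫ inj Z i) := by
  classical
  unfold cut
  induction s using Finset.induction_on with
  | empty => simp
  | insert a s ha ih =>
    rw [Finset.sum_insert ha, Finset.sum_insert ha, ← ih]
    rfl

lemma exists_cut_eq (M' : Submodule R (⨁ i, Z i)) (hM' : M'.FG) :
    ∃ s : Finset ι, ∀ m ∈ M', cut Z s m = m := by
  classical
  obtain ⟨G, hG⟩ := hM'
  refine ⟨G.biUnion (fun g => DFinsupp.support g), ?_⟩
  intro m hm
  rw [← hG] at hm
  induction hm using Submodule.span_induction with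
  | mem g hg =>
    have hsub : DFinsupp.support g ⊆ G.biUnion (fun g => DFinsupp.support g) :=
      Finset.subset_biUnion_of_mem (fun g => DFinsupp.support g) hg
    unfold cut
    rw [LinearMap.sum_apply]
    rw [← Finset.sum_subset hsub]
    · exact DirectSum.sum_support_of g
    · intro i _ hi
      rw [DFinsupp.notMem_support_iff] at hi
      change DirectSum.lof R ι (fun i => Z i) i (g i) = 0
      rw [hi, map_zero]
  | zero => simp
  | add a b _ _ ha hb => rw [map_add, ha, hb]
  | smul c a _ ha => rw [map_smul, ha]

variable [IsNoetherianRing R] (J : Ideal R) (n : ℕ)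

theorem theta_surjective : Function.Surjective (theta Z J n) := by
  intro y
  obtain ⟨M', hM', y', rfl⟩ := exists_fg_submodule_rep J n _ y
  obtain ⟨s, hs⟩ := exists_cut_eq Z M' hM'
  have hcomp : ModuleCat.ofHom M'.subtype ≫ ModuleCat.ofHom (cut Z s) = ModuleCat.ofHom M'.subtype := by
    apply ModuleCat.hom_ext
    apply LinearMap.ext
    intro m
    exact hs m.1 m.2
  set y := ((localCohomology J n).map (ModuleCat.ofHom M'.subtype)).hom y' with hy
  refine ⟨∑ i ∈ s, DirectSum.lof R ι _ i (((localCohomology J n).map (prj Z i)).hom y), ?_⟩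
  have h1 : ((localCohomology J n).map (ModuleCat.ofHom (cut Z s))).hom y = y := by
    rw [hy]
    have := congrArg (fun f => ((localCohomology J n).map f).hom y') hcomp
    simp only [Functor.map_comp] at this
    exact this
  rw [ofHom_cut, map_sum_apply] at h1
  rw [map_sum]
  refine Eq.trans ?_ h1
  refine Finset.sum_congr rfl fun i _ => ?_
  rw [theta, DirectSum.toModule_lof, Functor.map_comp]
  rfl

theorem theta_bijective : Function.Bijective (theta Z J n) :=
  ⟨theta_injective Z J n, theta_surjective Z J n⟩

instance preservesCoproduct : PreservesColimit (Discrete.functor Z) (localCohomology J n) := by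
  apply preservesColimit_of_preserves_colimit_cocone (ModuleCat.coproductCoconeIsColimit Z)
  refine (isColimitMapCoconeCofanMkEquiv _ _ _).symm ?_
  exact isColimitCofanOfBijective _ _ _ (theta_bijective Z J n)

end Groth.Agent.Lib.Helper58.LCRep
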