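import Groth.Agent.Lib.Helper58.LCRep3
import Mathlib.CategoryTheory.Adjunction.AdjointFunctorTheorems
import Mathlib.Algebra.Category.ModuleCat.AB
import Mathlib.CategoryTheory.Abelian.Subobject
import Mathlib.Algebra.Category.ModuleCat.ChangeOfRings
import Mathlib.CategoryTheory.Limits.Constructions.LimitsOfProductsAndEqualizers

/-!
# Top local cohomology is a left adjoint
-/

set_option autoImplicit false
universe u
open CategoryTheory CategoryTheory.Limits DirectSum

namespace Groth.Agent.Lib.Helper58.LCRep

open Groth.Agent.Lib.Helper41.LC

variable {R : Type u} [CommRing R] [IsNoetherianRing R]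

/-- vanishing above the number of generators up to radical -/
theorem subsingleton_of_le_radical_span (J : Ideal R) (d : ℕ) (u : Fin d → R) (hu : ∀ i, u i ∈ J)
    (hJ : J ≤ (Ideal.span (Set.range u)).radical) (i : ℕ) (hi : d < i) (M : ModuleCat.{u} R) :
    Subsingleton ((localCohomology J i).obj M) := by
  classical
  have hrad : J.radical = (Ideal.span ((Finset.univ.image u : Finset R) : Set R)).radical := by
    have hset : ((Finset.univ.image u : Finset R) : Set R) = Set.range u := by
      ext x; simp
    rw [hset]
    apply le_antisymm
    · exact Ideal.radical_le_radical_iff.2 hJ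
    · apply Ideal.radical_mono
      rw [Ideal.span_le]
      rintro _ ⟨j, rfl⟩
      exact hu j
  have hcard : (Finset.univ.image u).card < i :=
    lt_of_le_of_lt (Finset.card_image_le.trans (by simp)) hi
  have h1 := subsingleton_of_card_lt (Finset.univ.image u) M i hcard
  exact (((localCohomology.isoOfSameRadical hrad i).app M).toLinearEquiv.toEquiv).subsingleton

theorem preservesFiniteColimits_of_subsingleton (J : Ideal R) (d : ℕ)
    (h : ∀ M : ModuleCat.{u} R, Subsingleton ((localCohomology J (d + 1)).obj M)) :
    PreservesFiniteColimits (localCohomology J d) := by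
  rw [Functor.preservesFiniteColimits_iff_forall_exact_map_and_epi]
  intro S hS
  constructor
  · rw [ShortComplex.moduleCat_exact_iff]
    intro x₂ hx₂
    exact exact₂ J hS d x₂ hx₂
  · rw [ModuleCat.epi_iff_surjective]
    exact map_g_surjective_of_subsingleton J hS d (h _)


theorem preservesColimits_of_subsingleton (J : Ideal R) (d : ℕ)
    (h : ∀ M : ModuleCat.{u} R, Subsingleton ((localCohomology J (d + 1)).obj M)) :
    PreservesColimitsOfSize.{u, u} (localCohomology J d) := by
  classical
  have := preservesFiniteColimits_of_subsingleton J d h
  have : ∀ ι : Type u, PreservesColimitsOfShape (Discrete ι) (localCohomology J d) := fun ι =>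
    preservesColimitsOfShape_of_discrete _
  exact preservesColimits_of_preservesCoequalizers_and_coproducts _

theorem isLeftAdjoint_of_preservesColimits {S : Type u} [CommRing S]
    (G : ModuleCat.{u} S ⥤ ModuleCat.{u} R) [PreservesColimitsOfSize.{u, u} G] :
    G.IsLeftAdjoint :=
  isLeftAdjoint_of_preservesColimits_of_isSeparating (isSeparator_separator (ModuleCat.{u} S)) G

end Groth.Agent.Lib.Helper58.LCRep
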