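import Mathlib
import Groth.Agent.Lib.Helper4.FilteredFlat

/-!
# Lazard's theorem (helper58)
-/

set_option autoImplicit false
universe u

open CategoryTheory CategoryTheory.Limits

namespace Groth.Agent.Lib.Helper58.Lazard

variable (R : Type u) [CommRing R] (M : Type u) [AddCommGroup M] [Module R M]

/-- Objects: finite free modules `R^n` with a map to `M`. -/
structure Obj where
  n : ℕ
  x : (Fin n →₀ R) →ₗ[R] M

variable {R M}

@[ext] structure Hom (a b : Obj R M) where
  f : (Fin a.n →₀ R) →ₗ[R] (Fin b.n →₀ R)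
  w : b.x ∘ₗ f = a.x

noncomputable instance : Category.{u} (Obj R M) where
  Hom a b := Hom a b
  id a := ⟨LinearMap.id, LinearMap.comp_id _⟩
  comp f g := ⟨g.f ∘ₗ f.f, by rw [← LinearMap.comp_assoc, g.w, f.w]⟩
  id_comp _ := Hom.ext (LinearMap.comp_id _)
  comp_id _ := Hom.ext (LinearMap.id_comp _)
  assoc _ _ _ := Hom.ext (LinearMap.comp_assoc _ _ _).symm

variable (R M) in
noncomputable def D : Obj R M ⥤ ModuleCat.{u} R where
  obj a := ModuleCat.of R (Fin a.n →₀ R)
  map f := ModuleCat.ofHom f.f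
  map_id _ := rfl
  map_comp _ _ := rfl

variable (R M) in
noncomputable def cocone : Cocone (D R M) where
  pt := ModuleCat.of R M
  ι :=
    { app := fun a => ModuleCat.ofHom a.x
      naturality := fun a b f => by
        apply ModuleCat.hom_ext
        change b.x ∘ₗ f.f = LinearMap.id ∘ₗ a.x
        rw [LinearMap.id_comp]
        exact f.w }

theorem exists_obj_of_free {N : Type u} [AddCommGroup N] [Module R N] [Module.Free R N]
    [Module.Finite R N] (y : N →ₗ[R] M) :
    ∃ (c : Obj R M) (e : N ≃ₗ[R] (Fin c.n →₀ R)), c.x ∘ₗ e.toLinearMap = y := by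
  let e := ((Module.Free.chooseBasis R N).reindex (Fintype.equivFin _)).repr
  refine ⟨⟨_, y ∘ₗ e.symm.toLinearMap⟩, e, ?_⟩
  ext v
  simp

theorem isFiltered [Module.Flat R M] : IsFiltered (Obj R M) := by
  haveI : IsFilteredOrEmpty (Obj R M) := by
    refine ⟨fun a b => ?_, fun a b f g => ?_⟩
    · obtain ⟨c, e, hc⟩ := exists_obj_of_free (a.x.coprod b.x)
      refine ⟨c, ⟨e.toLinearMap ∘ₗ LinearMap.inl R _ _, ?_⟩,
        ⟨e.toLinearMap ∘ₗ LinearMap.inr R _ _, ?_⟩, trivial⟩
      · rw [← LinearMap.comp_assoc, hc, LinearMap.coprod_inl]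
      · rw [← LinearMap.comp_assoc, hc, LinearMap.coprod_inr]
    · have h0 : b.x ∘ₗ (f.f - g.f) = 0 := by rw [LinearMap.comp_sub, f.w, g.w, sub_self]
      obtain ⟨k, α, y, hy, hα⟩ := Module.Flat.exists_factorization_of_comp_eq_zero_of_free h0
      refine ⟨⟨k, y⟩, ⟨α, hy.symm⟩, ?_⟩
      apply Hom.ext
      change α ∘ₗ f.f = α ∘ₗ g.f
      rw [← sub_eq_zero, ← LinearMap.comp_sub]
      exact hα
  exact { nonempty := ⟨⟨0, 0⟩⟩ }

noncomputable def isColimit [Module.Flat R M] : IsColimit (cocone R M) := by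
  haveI := isFiltered (R := R) (M := M)
  haveI : ReflectsColimit (D R M) (forget (ModuleCat.{u} R)) :=
    reflectsColimit_of_reflectsIsomorphisms _ _
  apply isColimitOfReflects (forget (ModuleCat.{u} R))
  apply Types.FilteredColimit.isColimitOf'
  · intro m
    change M at m
    refine ⟨⟨1, Finsupp.linearCombination R (fun _ => m)⟩, (Finsupp.single 0 1 : Fin 1 →₀ R), ?_⟩
    change m = Finsupp.linearCombination R (fun _ => m) (Finsupp.single 0 1)
    simp
  · intro a v w h
    change (Fin a.n →₀ R) at v w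
    change a.x v = a.x w at h
    have h0 : a.x (v - w) = 0 := by rw [map_sub, h, sub_self]
    obtain ⟨k, α, y, hy, hα⟩ := Module.Flat.exists_factorization_of_apply_eq_zero_of_free h0
    refine ⟨⟨k, y⟩, ⟨α, hy.symm⟩, ?_⟩
    change α v = α w
    rw [← sub_eq_zero, ← map_sub]
    exact hα

theorem flat_colimit {J : Type u} [Preorder J] [IsDirected J (· ≤ ·)] [Nonempty J]
    (F : J ⥤ ModuleCat.{u} R) (hF : ∀ j, Module.Flat R (F.obj j)) :
    Module.Flat R (colimit F : ModuleCat.{u} R) := by
  refine Groth.Agent.Lib.Helper4.flat_of_approx.{u, u, u, u} fun {l} f x h => ?_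
  obtain ⟨j, x', hx'⟩ := Groth.Agent.Lib.Helper4.exists_common_lift (J := J)
    (P := fun j => F.obj j) (fun g => (F.map g).hom) (fun j => (colimit.ι F j).hom)
    (fun {j k} g y => by
      have := colimit.w F g
      exact congrArg (fun φ => φ.hom y) this)
    (fun x => Concrete.colimit_exists_rep F x) x
  have hz : (colimit.ι F j).hom (∑ i, f i • x' i) = (colimit.ι F j).hom 0 := by
    rw [map_sum, map_zero, ← h]
    exact Finset.sum_congr rfl fun i _ => by rw [map_smul, hx']
  obtain ⟨k, g, g', hk⟩ := Concrete.colimit_exists_of_rep_eq F _ _ hz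
  refine ⟨R, F.obj k, inferInstance, inferInstance, inferInstance, hF k, RingHom.id R,
    ((colimit.ι F k).hom : F.obj k →+ (colimit F : ModuleCat.{u} R)), fun r m => by simp, f,
    fun i => (F.map g).hom (x' i), fun i => rfl, fun i => ?_, ?_⟩
  · have := colimit.w F g
    have h2 := congrArg (fun φ => φ.hom (x' i)) this
    exact h2.trans (hx' i)
  · have h3 : (F.map g).hom (∑ i, f i • x' i) = (F.map g').hom 0 := hk
    rw [map_zero, map_sum] at h3
    rw [← h3]
    exact Finset.sum_congr rfl fun i _ => by rw [map_smul]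

theorem lazard (M : Type u) [AddCommGroup M] [Module R M] :
    Module.Flat R M ↔
      ∃ (J : Type u) (_ : Preorder J) (_ : IsDirected J (fun a b => a ≤ b)) (_ : Nonempty J)
        (F : J ⥤ ModuleCat.{u} R), (∀ j, Module.Finite R (F.obj j) ∧ Module.Free R (F.obj j)) ∧
        Nonempty (Limits.colimit F ≅ ModuleCat.of R M) := by
  constructor
  · intro hM
    haveI := isFiltered (R := R) (M := M)
    obtain ⟨α, _, hdir, hne, F, hF⟩ := IsFiltered.exists_directed (Obj R M)
    refine ⟨α, inferInstance, hdir, hne, F ⋙ D R M, fun j => ⟨?_, ?_⟩, ⟨?_⟩⟩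
    · change Module.Finite R (Fin (F.obj j).n →₀ R)
      infer_instance
    · change Module.Free R (Fin (F.obj j).n →₀ R)
      infer_instance
    · exact (Functor.Final.colimitIso F (D R M)) ≪≫
        (colimit.isColimit _).coconePointUniqueUpToIso (isColimit (R := R) (M := M))
  · rintro ⟨J, _, _, _, F, hF, ⟨e⟩⟩
    haveI : Module.Flat R (colimit F : ModuleCat.{u} R) :=
      flat_colimit F fun j => by
        haveI := (hF j).2
        infer_instance
    exact Module.Flat.of_linearEquiv e.toLinearEquiv.symm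

end Groth.Agent.Lib.Helper58.Lazard
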