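import Groth.Agent.Lib.Helper41.LCCompare

/-!
# Mayer–Vietoris for local cohomology, part 1: cofinal families of ideals
-/

set_option autoImplicit false
universe u
open CategoryTheory CategoryTheory.Limits Opposite CategoryTheory.Abelian

namespace Groth.Agent.Lib.Helper58.MV
open Groth.Agent.Lib.Helper41.LC

variable {R : Type u} [CommRing R]

/-- `R/A` as an object of `ModuleCat R`. -/
abbrev Qi (A : Ideal R) : ModuleCat.{u} R := ModuleCat.of R (R ⧸ A)

/-- The canonical map `R/A → R/B` for `A ≤ B`. -/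
def qmap {A B : Ideal R} (h : A ≤ B) : Qi A ⟶ Qi B :=
  ModuleCat.ofHom (Submodule.mapQ A B LinearMap.id (by simpa using h))

lemma qmap_comp {A B C : Ideal R} (h : A ≤ B) (h' : B ≤ C) :
    qmap h ≫ qmap h' = qmap (h.trans h') := by
  apply ModuleCat.hom_ext
  apply LinearMap.ext
  intro x
  obtain ⟨x, rfl⟩ := Submodule.Quotient.mk_surjective _ x
  rfl

lemma qmap_refl (A : Ideal R) : qmap (le_refl A) = 𝟙 _ := by
  apply ModuleCat.hom_ext
  apply LinearMap.ext
  intro x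
  obtain ⟨x, rfl⟩ := Submodule.Quotient.mk_surjective _ x
  rfl

lemma proj_eq_qmap (I : Ideal R) {n m : ℕ} (h : n ≤ m) :
    proj I h = qmap (Ideal.pow_le_pow_right h) := rfl

lemma quotLE_eq_qmap {I J : Ideal R} (h : I ≤ J) (n : ℕ) :
    quotLE h n = qmap (Ideal.pow_right_mono h n) := rfl

variable {M : ModuleCat.{u} R} {i : ℕ}

/-- Pullback of an `Ext` class along the canonical map `R/A → R/B`. -/
noncomputable def pb {A B : Ideal R} (h : A ≤ B) (e : Ext.{u} (Qi B) M i) : Ext.{u} (Qi A) M i :=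
  (Ext.mk₀ (qmap h)).comp e (zero_add i)

lemma pb_pb {A B C : Ideal R} (h : A ≤ B) (h' : B ≤ C) (e : Ext.{u} (Qi C) M i) :
    pb h (pb h' e) = pb (h.trans h') e := by
  unfold pb
  rw [Ext.mk₀_comp_mk₀_assoc, qmap_comp]

lemma pb_refl {A : Ideal R} (e : Ext.{u} (Qi A) M i) : pb (le_refl A) e = e := by
  unfold pb
  rw [qmap_refl, Ext.mk₀_id_comp]

lemma pb_zero {A B : Ideal R} (h : A ≤ B) : pb h (0 : Ext.{u} (Qi B) M i) = 0 := by
  unfold pb
  rw [Ext.comp_zero]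

lemma pb_add {A B : Ideal R} (h : A ≤ B) (e e' : Ext.{u} (Qi B) M i) :
    pb h (e + e') = pb h e + pb h e' := by
  unfold pb
  rw [Ext.comp_add]

lemma pb_sub {A B : Ideal R} (h : A ≤ B) (e e' : Ext.{u} (Qi B) M i) :
    pb h (e - e') = pb h e - pb h e' := by
  unfold pb
  rw [ext_comp_sub]

lemma pb_smul {A B : Ideal R} (h : A ≤ B) (r : R) (e : Ext.{u} (Qi B) M i) :
    pb h (r • e) = r • pb h e := by
  unfold pb
  rw [Ext.comp_smul]

/-- `ιH` is insensitive to the level (even when the exponents are not comparable). -/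
lemma ιH_pb_eq (K : Ideal R) (k n : ℕ) (h : K ^ k ≤ K ^ n) (e : Ext.{u} (Q K n) M i) :
    ιH K i M k (pb h e) = ιH K i M n e := by
  rw [ιH_eq_iff]
  refine ⟨max k n, le_max_left k n, le_max_right k n, ?_⟩
  change pb (Ideal.pow_le_pow_right (le_max_left k n)) (pb h e) =
    pb (Ideal.pow_le_pow_right (le_max_right k n)) e
  rw [pb_pb]

section cofinal

variable (K : Ideal R) (F : ℕ → Ideal R) (a : ℕ → ℕ) (ha : ∀ m, K ^ a m ≤ F m)

/-- The structure map `Ext^i(R/F_m, M) → H^i_K(M)` for a family `F` cofinal with the powers of `K`. -/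
noncomputable def ιF (m : ℕ) (e : Ext.{u} (Qi (F m)) M i) : (localCohomology K i).obj M :=
  ιH K i M (a m) (pb (ha m) e)

variable {K F a}

lemma ιF_eq (m k : ℕ) (h : K ^ k ≤ F m) (e : Ext.{u} (Qi (F m)) M i) :
    ιF K F a ha m e = ιH K i M k (pb h e) := by
  unfold ιF
  rw [ιH_eq_iff]
  refine ⟨max (a m) k, le_max_left _ _, le_max_right _ _, ?_⟩
  change pb (Ideal.pow_le_pow_right (le_max_left (a m) k)) (pb (ha m) e) =
    pb (Ideal.pow_le_pow_right (le_max_right (a m) k)) (pb h e)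
  rw [pb_pb, pb_pb]

lemma ιF_add (m : ℕ) (e e' : Ext.{u} (Qi (F m)) M i) :
    ιF K F a ha m (e + e') = ιF K F a ha m e + ιF K F a ha m e' := by
  unfold ιF
  rw [pb_add, map_add]

lemma ιF_sub (m : ℕ) (e e' : Ext.{u} (Qi (F m)) M i) :
    ιF K F a ha m (e - e') = ιF K F a ha m e - ιF K F a ha m e' := by
  unfold ιF
  rw [pb_sub, map_sub]

lemma ιF_zero (m : ℕ) : ιF K F a ha m (0 : Ext.{u} (Qi (F m)) M i) = 0 := by
  unfold ιF
  rw [pb_zero, map_zero]

lemma ιF_smul (m : ℕ) (r : R) (e : Ext.{u} (Qi (F m)) M i) :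
    ιF K F a ha m (r • e) = r • ιF K F a ha m e := by
  unfold ιF
  rw [pb_smul, map_smul]

variable (hanti : Antitone F)

include hanti in
lemma ιF_pb {m m' : ℕ} (h : m ≤ m') (e : Ext.{u} (Qi (F m)) M i) :
    ιF K F a ha m' (pb (hanti h) e) = ιF K F a ha m e := by
  rw [ιF_eq ha m (a m') ((ha m').trans (hanti h)) e]
  unfold ιF
  rw [pb_pb]

variable (hb : ∀ n, ∃ m, F m ≤ K ^ n)

include hanti hb in
lemma exists_rep_F (x : (localCohomology K i).obj M) (m₀ : ℕ) :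
    ∃ (m : ℕ) (_ : m₀ ≤ m) (e : Ext.{u} (Qi (F m)) M i), ιF K F a ha m e = x := by
  obtain ⟨n, e₀, rfl⟩ := exists_rep x
  obtain ⟨m₁, hm₁⟩ := hb n
  have hle : F (max m₁ m₀) ≤ K ^ n := (hanti (le_max_left m₁ m₀)).trans hm₁
  refine ⟨max m₁ m₀, le_max_right _ _, pb hle e₀, ?_⟩
  unfold ιF
  rw [pb_pb]
  exact ιH_pb_eq K _ _ _ e₀

include hanti hb in
lemma ιF_eq_zero {m : ℕ} {e : Ext.{u} (Qi (F m)) M i} (h : ιF K F a ha m e = 0) :
    ∃ (m' : ℕ) (h' : m ≤ m'), pb (hanti h') e = 0 := by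
  unfold ιF at h
  obtain ⟨N, hN, h0⟩ := (ιH_eq_zero_iff _ _).1 h
  change pb (Ideal.pow_le_pow_right hN) (pb (ha m) e) = 0 at h0
  rw [pb_pb] at h0
  obtain ⟨m₁, hm₁⟩ := hb N
  refine ⟨max m m₁, le_max_left _ _, ?_⟩
  have hle : F (max m m₁) ≤ K ^ N := (hanti (le_max_right m m₁)).trans hm₁
  have := pb_pb (M := M) (i := i) hle ((Ideal.pow_le_pow_right hN).trans (ha m)) e
  rw [h0, pb_zero] at this
  exact this.symm

end cofinal

end Groth.Agent.Lib.Helper58.MV
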