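import Groth.Agent.Lib.Helper58.MV1

/-!
# Mayer–Vietoris for local cohomology, part 2: the sequence
`0 → R/(A ∩ B) → R/A ⊕ R/B → R/(A + B) → 0` and its `Ext` sequence in components
-/

set_option autoImplicit false
universe u
open CategoryTheory CategoryTheory.Limits Opposite CategoryTheory.Abelian

namespace Groth.Agent.Lib.Helper58.MV
open Groth.Agent.Lib.Helper41.LC

variable {R : Type u} [CommRing R] (A B : Ideal R)

/-- `R/A × R/B`. -/
abbrev P : ModuleCat.{u} R := ModuleCat.of R ((R ⧸ A) × (R ⧸ B))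

def inl : Qi A ⟶ P A B := ModuleCat.ofHom (LinearMap.inl R _ _)
def inr : Qi B ⟶ P A B := ModuleCat.ofHom (LinearMap.inr R _ _)
def fst : P A B ⟶ Qi A := ModuleCat.ofHom (LinearMap.fst R _ _)
def snd : P A B ⟶ Qi B := ModuleCat.ofHom (LinearMap.snd R _ _)

/-- `x ↦ (x, -x)`. -/
def f : Qi (A ⊓ B) ⟶ P A B :=
  ModuleCat.ofHom (LinearMap.prod (qmap (inf_le_left : A ⊓ B ≤ A)).hom
    (-(qmap (inf_le_right : A ⊓ B ≤ B)).hom))

/-- `(x, y) ↦ x + y`. -/
def g : P A B ⟶ Qi (A ⊔ B) :=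
  ModuleCat.ofHom (LinearMap.coprod (qmap (le_sup_left : A ≤ A ⊔ B)).hom
    (qmap (le_sup_right : B ≤ A ⊔ B)).hom)

lemma inl_fst : inl A B ≫ fst A B = 𝟙 _ := by
  apply ModuleCat.hom_ext; apply LinearMap.ext; intro x; rfl

lemma inr_snd : inr A B ≫ snd A B = 𝟙 _ := by
  apply ModuleCat.hom_ext; apply LinearMap.ext; intro x; rfl

lemma inl_snd : inl A B ≫ snd A B = 0 := by
  apply ModuleCat.hom_ext; apply LinearMap.ext; intro x; rfl

lemma inr_fst : inr A B ≫ fst A B = 0 := by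
  apply ModuleCat.hom_ext; apply LinearMap.ext; intro x; rfl

lemma fst_inl_add_snd_inr : fst A B ≫ inl A B + snd A B ≫ inr A B = 𝟙 _ := by
  apply ModuleCat.hom_ext; apply LinearMap.ext; rintro ⟨x, y⟩
  change ((x, 0) : (R ⧸ A) × (R ⧸ B)) + (0, y) = (x, y)
  simp

lemma inl_g : inl A B ≫ g A B = qmap le_sup_left := by
  apply ModuleCat.hom_ext; apply LinearMap.ext; intro x
  change (qmap (le_sup_left : A ≤ A ⊔ B)).hom x + (qmap (le_sup_right : B ≤ A ⊔ B)).hom 0 = _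
  rw [map_zero, add_zero]

lemma inr_g : inr A B ≫ g A B = qmap le_sup_right := by
  apply ModuleCat.hom_ext; apply LinearMap.ext; intro x
  change (qmap (le_sup_left : A ≤ A ⊔ B)).hom 0 + (qmap (le_sup_right : B ≤ A ⊔ B)).hom x = _
  rw [map_zero, zero_add]

lemma f_fst : f A B ≫ fst A B = qmap inf_le_left := by
  apply ModuleCat.hom_ext; apply LinearMap.ext; intro x; rfl

lemma f_snd : f A B ≫ snd A B = -qmap inf_le_right := by
  apply ModuleCat.hom_ext; apply LinearMap.ext; intro x; rfl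

lemma f_g : f A B ≫ g A B = 0 := by
  apply ModuleCat.hom_ext; apply LinearMap.ext; intro x
  obtain ⟨x, rfl⟩ := Submodule.Quotient.mk_surjective _ x
  change (Submodule.Quotient.mk x : R ⧸ (A ⊔ B)) + Submodule.Quotient.mk (-x) = 0
  rw [← Submodule.Quotient.mk_add, add_neg_cancel, Submodule.Quotient.mk_zero]

/-- The Mayer–Vietoris short complex of cyclic modules. -/
def sc : ShortComplex (ModuleCat.{u} R) := ShortComplex.mk (f A B) (g A B) (f_g A B)

lemma sc_shortExact : (sc A B).ShortExact := by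
  apply ModuleCat.shortComplex_shortExact
  · rintro ⟨x, y⟩
    obtain ⟨x, rfl⟩ := Submodule.Quotient.mk_surjective _ x
    obtain ⟨y, rfl⟩ := Submodule.Quotient.mk_surjective _ y
    change (Submodule.Quotient.mk x : R ⧸ (A ⊔ B)) + Submodule.Quotient.mk y = 0 ↔ _
    rw [← Submodule.Quotient.mk_add, Submodule.Quotient.mk_eq_zero]
    constructor
    · intro h
      obtain ⟨a, ha, b, hb, hab⟩ := Submodule.mem_sup.1 h
      refine ⟨Submodule.Quotient.mk (x - a), ?_⟩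
      change ((Submodule.Quotient.mk (x - a) : R ⧸ A), -(Submodule.Quotient.mk (x - a) : R ⧸ B)) = _
      refine Prod.ext ?_ ?_
      · change (Submodule.Quotient.mk (x - a) : R ⧸ A) = Submodule.Quotient.mk x
        rw [Submodule.Quotient.eq]
        simpa using A.neg_mem ha
      · change -(Submodule.Quotient.mk (x - a) : R ⧸ B) = Submodule.Quotient.mk y
        rw [← Submodule.Quotient.mk_neg, Submodule.Quotient.eq]
        have : -(x - a) - y = -b := by
          have : a = x + y - b := by rw [← hab]; ring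
          rw [this]; ring
        rw [this]
        exact B.neg_mem hb
    · rintro ⟨z, hz⟩
      obtain ⟨z, rfl⟩ := Submodule.Quotient.mk_surjective _ z
      have h1 : (Submodule.Quotient.mk z : R ⧸ A) = Submodule.Quotient.mk x :=
        congrArg Prod.fst hz
      have h2 : -(Submodule.Quotient.mk z : R ⧸ B) = Submodule.Quotient.mk y :=
        congrArg Prod.snd hz
      rw [Submodule.Quotient.eq] at h1
      rw [← Submodule.Quotient.mk_neg, Submodule.Quotient.eq] at h2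
      have : x + y = -(z - x) + -(-z - y) := by ring
      rw [this]
      exact Submodule.add_mem_sup (A.neg_mem h1) (B.neg_mem h2)
  · intro x y hxy
    obtain ⟨x, rfl⟩ := Submodule.Quotient.mk_surjective _ x
    obtain ⟨y, rfl⟩ := Submodule.Quotient.mk_surjective _ y
    have h1 : (Submodule.Quotient.mk x : R ⧸ A) = Submodule.Quotient.mk y :=
      congrArg Prod.fst hxy
    have h2 : -(Submodule.Quotient.mk x : R ⧸ B) = -Submodule.Quotient.mk y :=
      congrArg Prod.snd hxy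
    rw [neg_inj] at h2
    change (Submodule.Quotient.mk x : R ⧸ (A ⊓ B)) = Submodule.Quotient.mk y
    rw [Submodule.Quotient.eq] at h1 h2 ⊢
    exact ⟨h1, h2⟩
  · intro x
    obtain ⟨x, rfl⟩ := Submodule.Quotient.mk_surjective _ x
    refine ⟨(Submodule.Quotient.mk x, 0), ?_⟩
    change (qmap (le_sup_left : A ≤ A ⊔ B)).hom (Submodule.Quotient.mk x) +
      (qmap (le_sup_right : B ≤ A ⊔ B)).hom 0 = _
    rw [map_zero, add_zero]
    rfl

variable {A B} {M : ModuleCat.{u} R} {i : ℕ}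

lemma decomp (z : Ext.{u} (P A B) M i) :
    z = (Ext.mk₀ (fst A B)).comp ((Ext.mk₀ (inl A B)).comp z (zero_add i)) (zero_add i) +
      (Ext.mk₀ (snd A B)).comp ((Ext.mk₀ (inr A B)).comp z (zero_add i)) (zero_add i) := by
  rw [Ext.mk₀_comp_mk₀_assoc, Ext.mk₀_comp_mk₀_assoc, ← Ext.add_comp, ← Ext.mk₀_add,
    fst_inl_add_snd_inr, Ext.mk₀_id_comp]

lemma inl_comp_g_comp (e : Ext.{u} (Qi (A ⊔ B)) M i) :
    (Ext.mk₀ (inl A B)).comp ((Ext.mk₀ (g A B)).comp e (zero_add i)) (zero_add i) =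
      pb le_sup_left e := by
  rw [Ext.mk₀_comp_mk₀_assoc, inl_g]; rfl

lemma inr_comp_g_comp (e : Ext.{u} (Qi (A ⊔ B)) M i) :
    (Ext.mk₀ (inr A B)).comp ((Ext.mk₀ (g A B)).comp e (zero_add i)) (zero_add i) =
      pb le_sup_right e := by
  rw [Ext.mk₀_comp_mk₀_assoc, inr_g]; rfl

lemma f_comp_fst_comp (e : Ext.{u} (Qi A) M i) :
    (Ext.mk₀ (f A B)).comp ((Ext.mk₀ (fst A B)).comp e (zero_add i)) (zero_add i) =
      pb inf_le_left e := by
  rw [Ext.mk₀_comp_mk₀_assoc, f_fst]; rfl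

lemma f_comp_snd_comp (e : Ext.{u} (Qi B) M i) :
    (Ext.mk₀ (f A B)).comp ((Ext.mk₀ (snd A B)).comp e (zero_add i)) (zero_add i) =
      -pb inf_le_right e := by
  rw [Ext.mk₀_comp_mk₀_assoc, f_snd, Ext.mk₀_neg, Ext.neg_comp]; rfl

/-- The combination `e_A ∘ fst + e_B ∘ snd`. -/
noncomputable def comb (eA : Ext.{u} (Qi A) M i) (eB : Ext.{u} (Qi B) M i) : Ext.{u} (P A B) M i :=
  (Ext.mk₀ (fst A B)).comp eA (zero_add i) + (Ext.mk₀ (snd A B)).comp eB (zero_add i)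

lemma f_comp_comb (eA : Ext.{u} (Qi A) M i) (eB : Ext.{u} (Qi B) M i) :
    (Ext.mk₀ (f A B)).comp (comb eA eB) (zero_add i) = pb inf_le_left eA - pb inf_le_right eB := by
  unfold comb
  rw [Ext.comp_add, f_comp_fst_comp, f_comp_snd_comp, sub_eq_add_neg]

lemma inl_comp_comb (eA : Ext.{u} (Qi A) M i) (eB : Ext.{u} (Qi B) M i) :
    (Ext.mk₀ (inl A B)).comp (comb eA eB) (zero_add i) = eA := by
  unfold comb
  rw [Ext.comp_add, Ext.mk₀_comp_mk₀_assoc, Ext.mk₀_comp_mk₀_assoc, inl_fst, inl_snd,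
    Ext.mk₀_id_comp, Ext.mk₀_zero, Ext.zero_comp, add_zero]

lemma inr_comp_comb (eA : Ext.{u} (Qi A) M i) (eB : Ext.{u} (Qi B) M i) :
    (Ext.mk₀ (inr A B)).comp (comb eA eB) (zero_add i) = eB := by
  unfold comb
  rw [Ext.comp_add, Ext.mk₀_comp_mk₀_assoc, Ext.mk₀_comp_mk₀_assoc, inr_fst, inr_snd,
    Ext.mk₀_id_comp, Ext.mk₀_zero, Ext.zero_comp, zero_add]

variable (A B)

/-- The connecting map `Ext^i(R/(A ∩ B), M) → Ext^j(R/(A + B), M)`, `j = 1 + i`. -/
noncomputable def ec : Ext.{u} (Qi (A ⊔ B)) (Qi (A ⊓ B)) 1 := (sc_shortExact A B).extClass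

/-- The connecting map `Ext^i(R/(A ∩ B), M) → Ext^j(R/(A + B), M)`, `j = 1 + i`. -/
noncomputable def conn {j : ℕ} (hij : 1 + i = j) (e : Ext.{u} (Qi (A ⊓ B)) M i) :
    Ext.{u} (Qi (A ⊔ B)) M j :=
  (ec A B).comp e hij

variable {A B}

lemma conn_add {j : ℕ} (hij : 1 + i = j) (e e' : Ext.{u} (Qi (A ⊓ B)) M i) :
    conn A B hij (e + e') = conn A B hij e + conn A B hij e' := by
  unfold conn; rw [Ext.comp_add]

lemma conn_smul {j : ℕ} (hij : 1 + i = j) (r : R) (e : Ext.{u} (Qi (A ⊓ B)) M i) :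
    conn A B hij (r • e) = r • conn A B hij e := by
  unfold conn; rw [Ext.comp_smul]

lemma conn_zero {j : ℕ} (hij : 1 + i = j) : conn A B hij (0 : Ext.{u} (Qi (A ⊓ B)) M i) = 0 := by
  unfold conn; rw [Ext.comp_zero]

/-- (L1) -/
lemma exists_conn_eq {j : ℕ} (hij : 1 + i = j) (e₃ : Ext.{u} (Qi (A ⊔ B)) M j)
    (hA : pb le_sup_left e₃ = 0) (hB : pb le_sup_right e₃ = 0) :
    ∃ e₁ : Ext.{u} (Qi (A ⊓ B)) M i, conn A B hij e₁ = e₃ := by
  have hz : (Ext.mk₀ (sc A B).g).comp e₃ (zero_add j) = 0 := by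
    change (Ext.mk₀ (g A B)).comp e₃ (zero_add j) = 0
    rw [decomp ((Ext.mk₀ (g A B)).comp e₃ (zero_add j)), inl_comp_g_comp, inr_comp_g_comp, hA, hB,
      Ext.comp_zero, Ext.comp_zero, add_zero]
  exact Ext.contravariant_sequence_exact₃ (sc_shortExact A B) M e₃ hz hij

/-- (L1') -/
lemma pb_left_conn {j : ℕ} (hij : 1 + i = j) (e₁ : Ext.{u} (Qi (A ⊓ B)) M i) :
    pb le_sup_left (conn A B hij e₁) = 0 := by
  rw [← inl_comp_g_comp]
  have : (Ext.mk₀ (g A B)).comp (conn A B hij e₁) (zero_add j) = 0 :=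
    (sc_shortExact A B).comp_extClass_assoc e₁ hij
  rw [this, Ext.comp_zero]

lemma pb_right_conn {j : ℕ} (hij : 1 + i = j) (e₁ : Ext.{u} (Qi (A ⊓ B)) M i) :
    pb le_sup_right (conn A B hij e₁) = 0 := by
  rw [← inr_comp_g_comp]
  have : (Ext.mk₀ (g A B)).comp (conn A B hij e₁) (zero_add j) = 0 :=
    (sc_shortExact A B).comp_extClass_assoc e₁ hij
  rw [this, Ext.comp_zero]

/-- (L2) -/
lemma exists_pb_eq (eA : Ext.{u} (Qi A) M i) (eB : Ext.{u} (Qi B) M i)
    (h : pb inf_le_left eA = pb inf_le_right eB) :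
    ∃ e₃ : Ext.{u} (Qi (A ⊔ B)) M i, pb le_sup_left e₃ = eA ∧ pb le_sup_right e₃ = eB := by
  have hz : (Ext.mk₀ (sc A B).f).comp (comb eA eB) (zero_add i) = 0 := by
    change (Ext.mk₀ (f A B)).comp (comb eA eB) (zero_add i) = 0
    rw [f_comp_comb, h, sub_self]
  obtain ⟨e₃, he₃⟩ := Ext.contravariant_sequence_exact₂ (sc_shortExact A B) M (comb eA eB) hz
  change (Ext.mk₀ (g A B)).comp e₃ (zero_add i) = comb eA eB at he₃
  refine ⟨e₃, ?_, ?_⟩
  · rw [← inl_comp_g_comp, he₃, inl_comp_comb]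
  · rw [← inr_comp_g_comp, he₃, inr_comp_comb]

/-- (L3) -/
lemma exists_of_conn_eq_zero {j : ℕ} (hij : 1 + i = j) (e₁ : Ext.{u} (Qi (A ⊓ B)) M i)
    (h : conn A B hij e₁ = 0) :
    ∃ (eA : Ext.{u} (Qi A) M i) (eB : Ext.{u} (Qi B) M i),
      e₁ = pb inf_le_left eA - pb inf_le_right eB := by
  obtain ⟨z, hz⟩ := Ext.contravariant_sequence_exact₁ (sc_shortExact A B) M e₁ hij h
  change (Ext.mk₀ (f A B)).comp z (zero_add i) = e₁ at hz
  refine ⟨(Ext.mk₀ (inl A B)).comp z (zero_add i), (Ext.mk₀ (inr A B)).comp z (zero_add i), ?_⟩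
  rw [← f_comp_comb, ← hz]
  congr 1
  exact decomp z

/-- (L3') -/
lemma conn_pb_sub {j : ℕ} (hij : 1 + i = j) (eA : Ext.{u} (Qi A) M i) (eB : Ext.{u} (Qi B) M i) :
    conn A B hij (pb inf_le_left eA - pb inf_le_right eB) = 0 := by
  rw [← f_comp_comb]
  exact (sc_shortExact A B).extClass_comp_assoc _

/-- The morphism of Mayer–Vietoris short complexes induced by `A' ≤ A`, `B' ≤ B`. -/
def scMap {A' B' : Ideal R} (hA : A' ≤ A) (hB : B' ≤ B) : sc A' B' ⟶ sc A B where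
  τ₁ := qmap (inf_le_inf hA hB)
  τ₂ := ModuleCat.ofHom (LinearMap.prodMap (qmap hA).hom (qmap hB).hom)
  τ₃ := qmap (sup_le_sup hA hB)
  comm₁₂ := by
    apply ModuleCat.hom_ext; apply LinearMap.ext; intro x
    obtain ⟨x, rfl⟩ := Submodule.Quotient.mk_surjective _ x
    rfl
  comm₂₃ := by
    apply ModuleCat.hom_ext; apply LinearMap.ext; rintro ⟨x, y⟩
    obtain ⟨x, rfl⟩ := Submodule.Quotient.mk_surjective _ x
    obtain ⟨y, rfl⟩ := Submodule.Quotient.mk_surjective _ y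
    rfl

/-- (Nat) naturality of the connecting map. -/
lemma conn_pb {A' B' : Ideal R} (hA : A' ≤ A) (hB : B' ≤ B) {j : ℕ} (hij : 1 + i = j)
    (e₁ : Ext.{u} (Qi (A ⊓ B)) M i) :
    conn A' B' hij (pb (inf_le_inf hA hB) e₁) = pb (sup_le_sup hA hB) (conn A B hij e₁) := by
  have hnat := ShortComplex.ShortExact.extClass_naturality (sc_shortExact A' B')
    (sc_shortExact A B) (scMap hA hB)
  change (ec A' B').comp (Ext.mk₀ (qmap (inf_le_inf hA hB))) (add_zero 1) =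
    (Ext.mk₀ (qmap (sup_le_sup hA hB))).comp (ec A B) (zero_add 1) at hnat
  unfold conn pb
  rw [← Ext.comp_assoc _ _ _ (add_zero 1) (zero_add i) (by omega), hnat,
    Ext.comp_assoc _ _ _ (zero_add 1) hij (by omega)]

end Groth.Agent.Lib.Helper58.MV
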