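import Groth.Agent.Lib.Helper58.MV2

/-!
# Mayer–Vietoris for local cohomology, part 3: the long exact sequence (for `cmpH`)
-/

set_option autoImplicit false
universe u
open CategoryTheory CategoryTheory.Limits Opposite CategoryTheory.Abelian

namespace Groth.Agent.Lib.Helper58.MV
open Groth.Agent.Lib.Helper41.LC

variable {R : Type u} [CommRing R] (I J : Ideal R)

/-- `I^m + J^m`. -/
abbrev Fp (m : ℕ) : Ideal R := I ^ m ⊔ J ^ m
/-- `I^m ∩ J^m`. -/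
abbrev Fm (m : ℕ) : Ideal R := I ^ m ⊓ J ^ m

lemma hap (m : ℕ) : (I ⊔ J) ^ (m + m) ≤ Fp I J m := Ideal.sup_pow_add_le_pow_sup_pow

lemma Fp_anti : Antitone (Fp I J) := fun _ _ h =>
  sup_le_sup (Ideal.pow_le_pow_right h) (Ideal.pow_le_pow_right h)

lemma hbp (n : ℕ) : ∃ m, Fp I J m ≤ (I ⊔ J) ^ n :=
  ⟨n, sup_le (Ideal.pow_right_mono le_sup_left n) (Ideal.pow_right_mono le_sup_right n)⟩

lemma ham (m : ℕ) : (I ⊓ J) ^ id m ≤ Fm I J m :=
  le_inf (Ideal.pow_right_mono inf_le_left m) (Ideal.pow_right_mono inf_le_right m)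

lemma Fm_anti : Antitone (Fm I J) := fun _ _ h =>
  inf_le_inf (Ideal.pow_le_pow_right h) (Ideal.pow_le_pow_right h)

lemma hbm [IsNoetherianRing R] (n : ℕ) : ∃ m, Fm I J m ≤ (I ⊓ J) ^ n := by
  obtain ⟨k, hk⟩ := exists_pow_inf_le_pow_mul I (J ^ n) n
  refine ⟨max k n, ?_⟩
  calc Fm I J (max k n) ≤ I ^ k ⊓ J ^ n :=
        inf_le_inf (Ideal.pow_le_pow_right (le_max_left k n)) (Ideal.pow_le_pow_right (le_max_right k n))
    _ ≤ I ^ n * J ^ n := hk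
    _ = (I * J) ^ n := (mul_pow I J n).symm
    _ ≤ (I ⊓ J) ^ n := Ideal.pow_right_mono Ideal.mul_le_inf n

/-- A level `m ≥ n` with `I^m ∩ J^m ≤ (I ∩ J)^n`. -/
noncomputable def lev [IsNoetherianRing R] (n : ℕ) : ℕ := max n (Classical.choose (hbm I J n))

lemma le_lev [IsNoetherianRing R] (n : ℕ) : n ≤ lev I J n := le_max_left _ _

lemma Fm_lev_le [IsNoetherianRing R] (n : ℕ) : Fm I J (lev I J n) ≤ (I ⊓ J) ^ n :=
  (Fm_anti I J (le_max_right _ _)).trans (Classical.choose_spec (hbm I J n))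

variable {M : ModuleCat.{u} R} {i : ℕ}

/-- `Ext^i(R/(I^m + J^m), M) → H^i_{I+J}(M)`. -/
noncomputable def ιp (m : ℕ) (e : Ext.{u} (Qi (Fp I J m)) M i) : (localCohomology (I ⊔ J) i).obj M :=
  ιF (I ⊔ J) (Fp I J) (fun m => m + m) (hap I J) m e

/-- `Ext^i(R/(I^m ∩ J^m), M) → H^i_{I∩J}(M)`. -/
noncomputable def ιm (m : ℕ) (e : Ext.{u} (Qi (Fm I J m)) M i) : (localCohomology (I ⊓ J) i).obj M :=
  ιF (I ⊓ J) (Fm I J) id (ham I J) m e

/-- (F1) -/
lemma cmp_left_ιp (m : ℕ) (e : Ext.{u} (Qi (Fp I J m)) M i) :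
    cmpH (le_sup_left : I ≤ I ⊔ J) i M (ιp I J m e) = ιH I i M m (pb le_sup_left e) := by
  unfold ιp ιF
  rw [cmpH_ιH]
  change ιH I i M (m + m) (pb (Ideal.pow_right_mono le_sup_left (m + m)) (pb (hap I J m) e)) = _
  rw [pb_pb, ← pb_pb (Ideal.pow_le_pow_right (Nat.le_add_left m m)) (le_sup_left : I ^ m ≤ Fp I J m) e]
  exact ιH_pb_eq I _ _ _ _

lemma cmp_right_ιp (m : ℕ) (e : Ext.{u} (Qi (Fp I J m)) M i) :
    cmpH (le_sup_right : J ≤ I ⊔ J) i M (ιp I J m e) = ιH J i M m (pb le_sup_right e) := by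
  unfold ιp ιF
  rw [cmpH_ιH]
  change ιH J i M (m + m) (pb (Ideal.pow_right_mono le_sup_right (m + m)) (pb (hap I J m) e)) = _
  rw [pb_pb, ← pb_pb (Ideal.pow_le_pow_right (Nat.le_add_left m m)) (le_sup_right : J ^ m ≤ Fp I J m) e]
  exact ιH_pb_eq J _ _ _ _

/-- (F2) -/
lemma cmp_inf_left_ιH (n : ℕ) (e : Ext.{u} (Q I n) M i) :
    cmpH (inf_le_left : I ⊓ J ≤ I) i M (ιH I i M n e) =
      ιm I J n (pb (inf_le_left : Fm I J n ≤ I ^ n) e) := by
  unfold ιm ιF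
  rw [cmpH_ιH, pb_pb]
  rfl

lemma cmp_inf_right_ιH (n : ℕ) (e : Ext.{u} (Q J n) M i) :
    cmpH (inf_le_right : I ⊓ J ≤ J) i M (ιH J i M n e) =
      ιm I J n (pb (inf_le_right : Fm I J n ≤ J ^ n) e) := by
  unfold ιm ιF
  rw [cmpH_ιH, pb_pb]
  rfl

section delta
variable [IsNoetherianRing R]

/-- The family defining the connecting map. -/
noncomputable def δfam (M : ModuleCat.{u} R) (i j : ℕ) (hij : 1 + i = j) (n : ℕ) :
    Ext.{u} (Q (I ⊓ J) n) M i →ₗ[R] (localCohomology (I ⊔ J) j).obj M where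
  toFun e := ιp I J (lev I J n) (conn (I ^ lev I J n) (J ^ lev I J n) hij (pb (Fm_lev_le I J n) e))
  map_add' e e' := by
    rw [pb_add, conn_add]
    exact ιF_add _ _ _ _
  map_smul' r e := by
    rw [pb_smul, conn_smul]
    exact ιF_smul _ _ _ _

lemma δfam_apply (M : ModuleCat.{u} R) (i j : ℕ) (hij : 1 + i = j) (n : ℕ)
    (e : Ext.{u} (Q (I ⊓ J) n) M i) :
    δfam I J M i j hij n e =
      ιp I J (lev I J n) (conn (I ^ lev I J n) (J ^ lev I J n) hij (pb (Fm_lev_le I J n) e)) := rfl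

/-- Moving the level in `ιp ∘ conn`. -/
lemma ιp_conn_pb {j : ℕ} (hij : 1 + i = j) {m m' : ℕ} (h : m ≤ m')
    (e : Ext.{u} (Qi (Fm I J m)) M i) :
    ιp I J m' (conn (I ^ m') (J ^ m') hij (pb (Fm_anti I J h) e)) =
      ιp I J m (conn (I ^ m) (J ^ m) hij e) := by
  have h1 := conn_pb (M := M) (Ideal.pow_le_pow_right h : I ^ m' ≤ I ^ m)
    (Ideal.pow_le_pow_right h : J ^ m' ≤ J ^ m) hij e
  have h2 : pb (Fm_anti I J h) e = pb (inf_le_inf (Ideal.pow_le_pow_right h : I ^ m' ≤ I ^ m)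
    (Ideal.pow_le_pow_right h : J ^ m' ≤ J ^ m)) e := rfl
  rw [h2, h1]
  exact ιF_pb (hap I J) (Fp_anti I J) h _

lemma δfam_compat (M : ModuleCat.{u} R) (i j : ℕ) (hij : 1 + i = j) (n n' : ℕ) (h : n ≤ n')
    (e : Ext.{u} (Q (I ⊓ J) n) M i) :
    δfam I J M i j hij n' ((Ext.mk₀ (proj (I ⊓ J) h)).comp e (zero_add i)) = δfam I J M i j hij n e := by
  rw [δfam_apply, δfam_apply]
  change ιp I J (lev I J n') (conn _ _ hij (pb (Fm_lev_le I J n')
    (pb (Ideal.pow_le_pow_right h) e))) = _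
  rw [pb_pb]
  set N := max (lev I J n) (lev I J n') with hN
  rw [← ιp_conn_pb I J hij (le_max_left (lev I J n) (lev I J n')),
    ← ιp_conn_pb I J hij (le_max_right (lev I J n) (lev I J n')), pb_pb, pb_pb]

/-- The Mayer–Vietoris connecting map. -/
noncomputable def δmv (M : ModuleCat.{u} R) (i j : ℕ) (hij : 1 + i = j) :
    (localCohomology (I ⊓ J) i).obj M →ₗ[R] (localCohomology (I ⊔ J) j).obj M :=
  descH (δfam I J M i j hij) (δfam_compat I J M i j hij)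

/-- (F3) -/
lemma δmv_ιm {j : ℕ} (hij : 1 + i = j) (m : ℕ) (e : Ext.{u} (Qi (Fm I J m)) M i) :
    δmv I J M i j hij (ιm I J m e) = ιp I J m (conn (I ^ m) (J ^ m) hij e) := by
  unfold ιm ιF δmv
  change descH _ _ (ιH (I ⊓ J) i M m (pb (ham I J m) e)) = _
  rw [descH_ιH, δfam_apply, pb_pb]
  exact ιp_conn_pb I J hij (le_lev I J m) e

end delta

end Groth.Agent.Lib.Helper58.MV
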