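import Mathlib.RingTheory.KrullDimension.Regular
import Mathlib.RingTheory.Ideal.MinimalPrime.Noetherian
import Mathlib.RingTheory.Ideal.KrullsHeightTheorem
import Mathlib.RingTheory.KrullDimension.Zero

/-!
# Dimension theory helpers for Grothendieck's non-vanishing theorem
-/

set_option autoImplicit false
universe u
open IsLocalRing Pointwise

namespace Groth.Agent.Lib.Helper58.NV

variable {R : Type u} [CommRing R]

/-- `(R/I)/x(R/I) ≃ R/(I + (x))`. -/
noncomputable def quotSMulTopQuotEquiv (I : Ideal R) (x : R) :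
    QuotSMulTop x (R ⧸ I) ≃ₗ[R] R ⧸ (I ⊔ Ideal.span {x}) := by
  have h : x • (⊤ : Submodule R (R ⧸ I)) = Submodule.map (Submodule.mkQ I) (Ideal.span {x}) := by
    ext z
    rw [Submodule.mem_smul_pointwise_iff_exists]
    constructor
    · rintro ⟨w, -, rfl⟩
      obtain ⟨r, rfl⟩ := Submodule.Quotient.mk_surjective _ w
      refine ⟨x * r, Ideal.mul_mem_right _ _ (Ideal.subset_span rfl), ?_⟩
      change Submodule.Quotient.mk (x * r) = x • Submodule.Quotient.mk r
      rw [← Submodule.Quotient.mk_smul, smul_eq_mul]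
    · rintro ⟨s, hs, rfl⟩
      obtain ⟨r, rfl⟩ := Ideal.mem_span_singleton'.1 hs
      refine ⟨Submodule.Quotient.mk r, Submodule.mem_top, ?_⟩
      change x • Submodule.Quotient.mk r = Submodule.Quotient.mk (r * x)
      rw [← Submodule.Quotient.mk_smul, smul_eq_mul, mul_comm]
  exact (Submodule.quotEquivOfEq _ _ h).trans
    (Submodule.quotientQuotientEquivQuotientSup I (Ideal.span {x}))

lemma withBot_add_one_cancel (a : WithBot ℕ∞) (e : ℕ)
    (h : a + 1 = ((e + 1 : ℕ) : WithBot ℕ∞)) : a = e := by
  induction a with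
  | bot =>
    exfalso
    rw [WithBot.bot_add] at h
    exact WithBot.bot_ne_natCast _ h
  | coe n =>
    induction n with
    | top => 
      exfalso
      have : ((⊤ : ℕ∞) : WithBot ℕ∞) + 1 = ((⊤ : ℕ∞) : WithBot ℕ∞) := by
        rw [← WithBot.coe_one, ← WithBot.coe_add]; simp
      rw [this] at h
      have h2 := WithBot.coe_injective h
      exact ENat.top_ne_coe _ h2
    | coe k =>
      have h3 : ((k + 1 : ℕ) : WithBot ℕ∞) = ((e + 1 : ℕ) : WithBot ℕ∞) := by
        rw [← h]; push_cast; rfl
      have h4 : k + 1 = e + 1 := by exact_mod_cast h3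
      have h5 : k = e := by omega
      subst h5; rfl

variable [IsNoetherianRing R] [IsLocalRing R]

/-- dimension drop along a parameter element -/
theorem ringKrullDim_quotient_sup_span_singleton_succ (I : Ideal R) (x : R)
    (hx : x ∈ maximalIdeal R) (hn : ∀ p ∈ I.minimalPrimes, x ∉ p) :
    ringKrullDim (R ⧸ (I ⊔ Ideal.span {x})) + 1 = ringKrullDim (R ⧸ I) := by
  have h := Module.supportDim_quotSMulTop_succ_eq_of_notMem_minimalPrimes_of_mem_maximalIdeal
    (R := R) (M := R ⧸ I) (x := x) (by rwa [Ideal.annihilator_quotient]) hx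
  rw [Module.supportDim_eq_of_equiv (quotSMulTopQuotEquiv I x),
    Module.supportDim_quotient_eq_ringKrullDim, Module.supportDim_quotient_eq_ringKrullDim] at h
  exact h

end Groth.Agent.Lib.Helper58.NV
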