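import Groth.Agent.Lib.Helper58.NV11

/-!
# `H^{dim M}_m(M)` is not finitely generated when `dim M > 0`
-/

set_option autoImplicit false
universe u
open IsLocalRing Pointwise CategoryTheory TensorProduct

namespace Groth.Agent.Lib.Helper58.NV

open Groth.Agent.Lib.Helper41.LC Groth.Agent.Lib.Helper58.LCRep

variable (R : Type u) [CommRing R] [IsNoetherianRing R] [IsLocalRing R]
  (M : Type u) [AddCommGroup M] [Module R M] [Module.Finite R M]

theorem not_finite_supportDim (n : ℕ) (hn0 : 0 < n) (hn : Module.supportDim R M = n) :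
    ¬ Module.Finite R ((localCohomology (maximalIdeal R) n).obj (ModuleCat.of R M)) := by
  intro hfin
  have hntM : Nontrivial M := by
    by_contra hcon
    rw [not_nontrivial_iff_subsingleton] at hcon
    rw [Module.supportDim_eq_bot_of_subsingleton] at hn
    exact WithBot.bot_ne_natCast _ hn
  obtain ⟨e, rfl⟩ : ∃ e, n = e + 1 := ⟨n - 1, by omega⟩
  obtain ⟨_, _, _, _, hdim, hann, hmax⟩ := exists_quotient_data R M (e + 1) hn
  set A := R ⧸ Module.annihilator R M with hA
  have key : ∃ ψ : (localCohomology (maximalIdeal A) (e + 1)).obj (ModuleCat.of A M) ≃+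
      (localCohomology (maximalIdeal R) (e + 1)).obj (ModuleCat.of R M),
      ∀ (r : R) x, ψ (algebraMap R A r • x) = r • ψ x := by
    have := Groth.Agent.Lib.Helper58.LCBase.exists_addEquiv (R := R) (R' := A)
      (maximalIdeal R) (e + 1) M
    rwa [hmax] at this
  obtain ⟨ψ, hψ⟩ := key
  obtain ⟨φ⟩ := tensorHyp_top A (e + 1) hdim (maximalIdeal A) M
  -- a parameter element of `A`
  obtain ⟨y', hy'⟩ := exists_good (R := A) e hdim
  obtain ⟨y, rfl⟩ := Ideal.Quotient.mk_surjective y'
  have hym : y ∈ maximalIdeal R := by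
    have h1 := hy'.1
    rw [mem_maximalIdeal, mem_nonunits_iff] at h1 ⊢
    exact fun h => h1 (h.map (Ideal.Quotient.mk _))
  have hT := tensorHyp_top A (e + 1) hdim (maximalIdeal A)
  have hsub : Subsingleton ((localCohomology (maximalIdeal A) (e + 1)).obj
      (ModuleCat.of A (A ⧸ Ideal.span {Ideal.Quotient.mk (Module.annihilator R M) y}))) := by
    apply subsingleton_quotient_of_dim_lt
    rw [hy'.dim_quotient e hdim]
    exact_mod_cast Nat.lt_succ_self e
  have htop := (subsingleton_quotient_iff (maximalIdeal A) (e + 1) hT _).1 hsub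
  rw [Submodule.ideal_span_singleton_smul] at htop
  -- divisibility on the tensor product
  have hdiv : ∀ z : ((localCohomology (maximalIdeal A) (e + 1)).obj (ModuleCat.of A A)) ⊗[A] M,
      ∃ z', z = (Ideal.Quotient.mk (Module.annihilator R M) y) • z' := by
    intro z
    induction z using TensorProduct.induction_on with
    | zero => exact ⟨0, (smul_zero _).symm⟩
    | tmul h m =>
      have hh : h ∈ (Ideal.Quotient.mk (Module.annihilator R M) y) •
          (⊤ : Submodule A ((localCohomology (maximalIdeal A) (e + 1)).obj (ModuleCat.of A A))) := by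
        rw [htop]; exact Submodule.mem_top
      obtain ⟨h', -, rfl⟩ := (Submodule.mem_smul_pointwise_iff_exists _ _ _).1 hh
      exact ⟨h' ⊗ₜ m, (TensorProduct.smul_tmul' _ _ _).symm⟩
    | add z₁ z₂ h₁ h₂ =>
      obtain ⟨w₁, rfl⟩ := h₁
      obtain ⟨w₂, rfl⟩ := h₂
      exact ⟨w₁ + w₂, (smul_add _ _ _).symm⟩
  -- transport to `H^n_m(M)` over `R`
  have hdivR : ∀ w : (localCohomology (maximalIdeal R) (e + 1)).obj (ModuleCat.of R M),
      ∃ w', w = y • w' := by
    intro w
    obtain ⟨z', hz'⟩ := hdiv (φ (ψ.symm w))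
    refine ⟨ψ (φ.symm z'), ?_⟩
    have h1 : ψ.symm w = (algebraMap R A y) • φ.symm z' := by
      apply φ.injective
      rw [map_smul, LinearEquiv.apply_symm_apply]
      exact hz'
    rw [← hψ, ← h1, AddEquiv.apply_symm_apply]
  have htopR : (⊤ : Submodule R ((localCohomology (maximalIdeal R) (e + 1)).obj
      (ModuleCat.of R M))) ≤ Ideal.span {y} • ⊤ := by
    intro w _
    obtain ⟨w', rfl⟩ := hdivR w
    exact Submodule.smul_mem_smul (Ideal.subset_span rfl) Submodule.mem_top
  have hbot : (⊤ : Submodule R ((localCohomology (maximalIdeal R) (e + 1)).obj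
      (ModuleCat.of R M))) = ⊥ := by
    apply Submodule.eq_bot_of_le_smul_of_le_jacobson_bot (Ideal.span {y}) ⊤ Module.Finite.fg_top
      htopR
    rw [IsLocalRing.jacobson_eq_maximalIdeal ⊥ bot_ne_top, Ideal.span_singleton_le_iff_mem]
    exact hym
  have hnt := nontrivial_supportDim R M (e + 1) hn
  have hss : Subsingleton ((localCohomology (maximalIdeal R) (e + 1)).obj (ModuleCat.of R M)) := by
    refine ⟨fun a b => ?_⟩
    have ha : a ∈ (⊥ : Submodule R _) := hbot ▸ Submodule.mem_top
    have hb : b ∈ (⊥ : Submodule R _) := hbot ▸ Submodule.mem_top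
    rw [Submodule.mem_bot] at ha hb
    rw [ha, hb]
  exact not_subsingleton _ hss

end Groth.Agent.Lib.Helper58.NV
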