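import Groth.Agent.Lib.Helper58.NV1
import Mathlib.RingTheory.KrullDimension.NonZeroDivisors

/-!
# Dimension theory helpers for Grothendieck's non-vanishing theorem, part 2
-/

set_option autoImplicit false
universe u
open IsLocalRing Pointwise

namespace Groth.Agent.Lib.Helper58.NV

variable {R : Type u} [CommRing R] [IsLocalRing R]

/-- If the maximal ideal is minimal over `I`, then `R/I` has dimension `≤ 0`. -/
theorem ringKrullDim_quotient_le_zero_of_mem_minimalPrimes (I : Ideal R)
    (h : maximalIdeal R ∈ I.minimalPrimes) : ringKrullDim (R ⧸ I) ≤ 0 := by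
  rw [ringKrullDim_quotient]
  have : Subsingleton (PrimeSpectrum.zeroLocus (R := R) (I : Set R)) := by
    have key : ∀ P : PrimeSpectrum.zeroLocus (R := R) (I : Set R),
        P.1.asIdeal = maximalIdeal R := by
      rintro ⟨P, hP⟩
      have hP' : I ≤ P.asIdeal := hP
      exact le_antisymm (le_maximalIdeal P.2.ne_top) (h.2 ⟨P.2, hP'⟩ (le_maximalIdeal P.2.ne_top))
    refine ⟨fun P Q => ?_⟩
    apply Subtype.ext
    apply PrimeSpectrum.ext
    rw [key P, key Q]
  exact Order.krullDim_nonpos_of_subsingleton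

theorem maximalIdeal_notMem_minimalPrimes (I : Ideal R) (e : ℕ)
    (h : ringKrullDim (R ⧸ I) = ((e + 1 : ℕ) : WithBot ℕ∞)) :
    maximalIdeal R ∉ I.minimalPrimes := by
  intro hm
  have h0 := ringKrullDim_quotient_le_zero_of_mem_minimalPrimes I hm
  rw [h] at h0
  have : ((e + 1 : ℕ) : WithBot ℕ∞) ≤ ((0 : ℕ) : WithBot ℕ∞) := by exact_mod_cast h0
  have h1 : e + 1 ≤ 0 := by exact_mod_cast this
  omega

/-- nilpotent maximal ideal implies dimension `≤ 0` -/
theorem ringKrullDim_le_zero_of_pow_eq_bot (n : ℕ) (h : maximalIdeal R ^ n = ⊥) :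
    ringKrullDim R ≤ 0 := by
  have : Ring.KrullDimLE 0 R := by
    rw [Ring.krullDimLE_zero_iff]
    intro P hP
    have hle : maximalIdeal R ≤ P := by
      apply hP.le_of_pow_le (n := n)
      rw [h]; exact bot_le
    have : P = maximalIdeal R := le_antisymm (le_maximalIdeal hP.ne_top) hle
    rw [this]; infer_instance
  have := Ring.krullDimLE_iff.1 this
  exact_mod_cast this

variable [IsNoetherianRing R]

/-- prime avoidance for the minimal primes of two ideals -/
theorem exists_mem_maximalIdeal_notMem_minimalPrimes (I₁ I₂ : Ideal R)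
    (h₁ : maximalIdeal R ∉ I₁.minimalPrimes) (h₂ : maximalIdeal R ∉ I₂.minimalPrimes) :
    ∃ x ∈ maximalIdeal R, (∀ p ∈ I₁.minimalPrimes, x ∉ p) ∧ (∀ p ∈ I₂.minimalPrimes, x ∉ p) := by
  by_contra hcon
  push_neg at hcon
  have hfin : (I₁.minimalPrimes ∪ I₂.minimalPrimes).Finite :=
    (Ideal.finite_minimalPrimes_of_isNoetherianRing R I₁).union
      (Ideal.finite_minimalPrimes_of_isNoetherianRing R I₂)
  have hsub : ((maximalIdeal R : Ideal R) : Set R) ⊆
      ⋃ p ∈ (I₁.minimalPrimes ∪ I₂.minimalPrimes), ((id p : Ideal R) : Set R) := by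
    intro x hx
    by_cases hx1 : ∀ p ∈ I₁.minimalPrimes, x ∉ p
    · obtain ⟨p, hp, hxp⟩ := hcon x hx hx1
      exact Set.mem_biUnion (Or.inr hp) hxp
    · push_neg at hx1
      obtain ⟨p, hp, hxp⟩ := hx1
      exact Set.mem_biUnion (Or.inl hp) hxp
  have hprime : ∀ p ∈ (I₁.minimalPrimes ∪ I₂.minimalPrimes), p ≠ (⊥ : Ideal R) → p ≠ ⊥ →
      (id p : Ideal R).IsPrime := by
    rintro p (hp | hp) _ _
    · exact hp.1.1
    · exact hp.1.1
  obtain ⟨p, hp, hle⟩ := (Ideal.subset_union_prime_finite hfin ⊥ ⊥ hprime).1 hsub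
  have hpp : p.IsPrime := by
    rcases hp with hp | hp
    · exact hp.1.1
    · exact hp.1.1
  have : p = maximalIdeal R := le_antisymm (le_maximalIdeal hpp.ne_top) hle
  rw [this] at hp
  rcases hp with hp | hp
  · exact h₁ hp
  · exact h₂ hp

end Groth.Agent.Lib.Helper58.NV
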