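import Groth.Agent.Lib.Helper58.NV3

/-!
# Grothendieck's non-vanishing theorem: the Artinian chain argument (dimension `≥ 2`)
-/

set_option autoImplicit false
universe u
open IsLocalRing Pointwise CategoryTheory

namespace Groth.Agent.Lib.Helper58.NV

open Groth.Agent.Lib.Helper41.LC

variable {R : Type u} [CommRing R] [IsNoetherianRing R] [IsLocalRing R]

/-- a parameter element: in `m`, avoiding all minimal primes of `R` -/
def Good (y : R) : Prop := y ∈ maximalIdeal R ∧ ∀ p ∈ (⊥ : Ideal R).minimalPrimes, y ∉ p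

omit [IsNoetherianRing R] [IsLocalRing R] in
theorem ringKrullDim_quotient_bot : ringKrullDim (R ⧸ (⊥ : Ideal R)) = ringKrullDim R :=
  ringKrullDim_eq_of_ringEquiv (RingEquiv.quotientBot R)

theorem Good.dim_quotient {y : R} (hy : Good y) (e : ℕ)
    (hd : ringKrullDim R = ((e + 1 : ℕ) : WithBot ℕ∞)) :
    ringKrullDim (R ⧸ Ideal.span {y}) = e := by
  have h := ringKrullDim_quotient_sup_span_singleton_succ ⊥ y hy.1 hy.2
  rw [bot_sup_eq, ringKrullDim_quotient_bot, hd] at h
  exact withBot_add_one_cancel _ e h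

omit [IsNoetherianRing R] in
theorem Good.mul {y x : R} (hy : Good y) (hx : Good x) : Good (y * x) := by
  refine ⟨Ideal.mul_mem_right _ _ hy.1, fun p hp hyx => ?_⟩
  have : p.IsPrime := hp.1.1
  rcases this.mem_or_mem hyx with h | h
  · exact hy.2 p hp h
  · exact hx.2 p hp h

theorem exists_good (e : ℕ) (hd : ringKrullDim R = ((e + 1 : ℕ) : WithBot ℕ∞)) :
    ∃ y : R, Good y := by
  have h0 : maximalIdeal R ∉ (⊥ : Ideal R).minimalPrimes :=
    maximalIdeal_notMem_minimalPrimes ⊥ e (by rw [ringKrullDim_quotient_bot, hd])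
  obtain ⟨x, hx, h1, -⟩ := exists_mem_maximalIdeal_notMem_minimalPrimes ⊥ ⊥ h0 h0
  exact ⟨x, hx, h1⟩

section chain

/-- the module `H^{e+1}_m(R)` -/
noncomputable abbrev HHm (R : Type u) [CommRing R] [IsLocalRing R] (e : ℕ) : Type u :=
  (localCohomology (maximalIdeal R) (e + 1)).obj (ModuleCat.of R R)

variable (e : ℕ) (hd : ringKrullDim R = ((e + 1 + 1 : ℕ) : WithBot ℕ∞))
  (ih : NVHyp.{u} (e + 1)) (hT : TensorHyp (maximalIdeal R) (e + 1))

local notation "HH" => HHm R e

include hd ih hT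

theorem smul_top_ne_top_of_good {y : R} (hy : Good y) :
    Ideal.span {y} • (⊤ : Submodule R HH) ≠ ⊤ := by
  intro h
  have h1 := (subsingleton_quotient_iff (maximalIdeal R) (e + 1) hT (Ideal.span {y})).2 h
  have h2 := nontrivial_quotient_of_nvHyp (e + 1) ih (Ideal.span {y}) (hy.dim_quotient (e + 1) hd)
  exact not_subsingleton _ h1

omit ih in
theorem sup_smul_top_eq_top {y x : R} (hy : Good y) (hx : x ∈ maximalIdeal R)
    (hn : ∀ p ∈ (Ideal.span {y}).minimalPrimes, x ∉ p) :
    (Ideal.span {y} ⊔ Ideal.span {x}) • (⊤ : Submodule R HH) = ⊤ := by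
  rw [← subsingleton_quotient_iff (maximalIdeal R) (e + 1) hT]
  apply subsingleton_quotient_of_dim_lt
  have h := ringKrullDim_quotient_sup_span_singleton_succ (Ideal.span {y}) x hx hn
  rw [hy.dim_quotient (e + 1) hd] at h
  rw [withBot_add_one_cancel _ e h]
  exact_mod_cast Nat.lt_succ_self e

theorem exists_good_lt {y : R} (hy : Good y) :
    ∃ y' : R, Good y' ∧
      Ideal.span {y'} • (⊤ : Submodule R HH) < Ideal.span {y} • (⊤ : Submodule R HH) := by
  have h0 : maximalIdeal R ∉ (⊥ : Ideal R).minimalPrimes :=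
    maximalIdeal_notMem_minimalPrimes ⊥ (e + 1) (by rw [ringKrullDim_quotient_bot, hd])
  have h1 : maximalIdeal R ∉ (Ideal.span {y}).minimalPrimes :=
    maximalIdeal_notMem_minimalPrimes _ e (hy.dim_quotient (e + 1) hd)
  obtain ⟨x, hx, hx0, hx1⟩ := exists_mem_maximalIdeal_notMem_minimalPrimes ⊥ (Ideal.span {y}) h0 h1
  have hgx : Good x := ⟨hx, hx0⟩
  refine ⟨y * x, hy.mul hgx, lt_of_le_of_ne ?_ ?_⟩
  · apply Submodule.smul_mono_left
    rw [Ideal.span_singleton_le_span_singleton]
    exact Dvd.intro x rfl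
  · intro heq
    have hsup := sup_smul_top_eq_top e hd hT hy hx hx1
    rw [Submodule.sup_smul, ← heq] at hsup
    have hle : Ideal.span {y * x} • (⊤ : Submodule R HH) ≤ Ideal.span {x} • ⊤ := by
      apply Submodule.smul_mono_left
      rw [Ideal.span_singleton_le_span_singleton]
      exact Dvd.intro_left y rfl
    rw [sup_eq_right.2 hle] at hsup
    exact smul_top_ne_top_of_good e hd ih hT hgx hsup

theorem false_of_tensorHyp : False := by
  have hart : IsArtinian R HH := isArtinian_maximalIdeal (e + 1) R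
  obtain ⟨y₀, hy₀⟩ := exists_good (R := R) (e + 1) hd
  let S : Set (Submodule R HH) := {N | ∃ y : R, Good y ∧ N = Ideal.span {y} • ⊤}
  have hS : S.Nonempty := ⟨_, y₀, hy₀, rfl⟩
  obtain ⟨N, ⟨y, hy, rfl⟩, hmin⟩ := (IsWellFounded.wf (r := (· < ·))).has_min S hS
  obtain ⟨y', hy', hlt⟩ := exists_good_lt e hd ih hT hy
  exact hmin _ ⟨y', hy', rfl⟩ hlt

end chain

end Groth.Agent.Lib.Helper58.NV
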