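import Groth.Agent.Lib.Helper58.NV4
import Mathlib.RingTheory.Nakayama
import Mathlib.RingTheory.Artinian.Ring
import Mathlib.RingTheory.KrullDimension.Zero

/-!
# Grothendieck's non-vanishing theorem `H^d_m(R) ≠ 0`
-/

set_option autoImplicit false
universe u
open IsLocalRing Pointwise CategoryTheory

namespace Groth.Agent.Lib.Helper58.NV

open Groth.Agent.Lib.Helper41.LC Groth.Agent.Lib.Helper58.LCRep

variable {R : Type u} [CommRing R]

theorem subsingleton_tensor_left (T M : Type u) [AddCommGroup T] [Module R T] [AddCommGroup M]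
    [Module R M] [Subsingleton T] : Subsingleton (TensorProduct R T M) := by
  refine ⟨fun a b => ?_⟩
  have key : ∀ z : TensorProduct R T M, z = 0 := by
    intro z
    induction z using TensorProduct.induction_on with
    | zero => rfl
    | tmul t m => rw [Subsingleton.elim t 0, TensorProduct.zero_tmul]
    | add x y hx hy => rw [hx, hy, add_zero]
  rw [key a, key b]

variable [IsNoetherianRing R] [IsLocalRing R]

theorem range_toMod_eq_powTorsion (J : Ideal R) (M : Type u) [AddCommGroup M] [Module R M] :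
    LinearMap.range (toMod J (ModuleCat.of R M)) = powTorsion J M := by
  ext x
  rw [mem_range_toMod_iff]
  rfl

/-- base case: dimension zero -/
theorem nontrivial_zero (hd : ringKrullDim R = ((0 : ℕ) : WithBot ℕ∞)) :
    Nontrivial ((localCohomology (maximalIdeal R) 0).obj (ModuleCat.of R R)) := by
  have h0 : Ring.KrullDimLE 0 R := by
    rw [Ring.krullDimLE_iff, hd]
  have hart : IsArtinianRing R := IsNoetherianRing.isArtinianRing_of_krullDimLE_zero
  obtain ⟨n, hn⟩ := IsArtinianRing.isNilpotent_jacobson_bot (R := R)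
  rw [IsLocalRing.jacobson_eq_maximalIdeal ⊥ bot_ne_top, Ideal.zero_eq_bot] at hn
  have h1 : (1 : R) ∈ LinearMap.range (toMod (maximalIdeal R) (ModuleCat.of R R)) := by
    rw [mem_range_toMod_iff]
    refine ⟨n, fun a ha => ?_⟩
    rw [hn, Ideal.mem_bot] at ha
    rw [ha, zero_smul]
  obtain ⟨t, ht⟩ := h1
  refine ⟨⟨t, 0, fun h => ?_⟩⟩
  rw [h, map_zero] at ht
  exact zero_ne_one ht

/-- dimension one -/
theorem false_of_tensorHyp_zero (hd : ringKrullDim R = ((0 + 1 : ℕ) : WithBot ℕ∞))
    (hT : TensorHyp (maximalIdeal R) 0) : False := by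
  set m := maximalIdeal R with hm
  let Γ : Submodule R R := powTorsion m R
  let θ := toMod m (ModuleCat.of R R)
  have hθ : Function.Injective θ := toMod_injective m (ModuleCat.of R R)
  have hrange : LinearMap.range θ = Γ := range_toMod_eq_powTorsion m R
  -- Step 1
  have hΓ : (Γ : Ideal R) ≠ ⊤ := by
    intro htop
    have h1 : (1 : R) ∈ Γ := by rw [htop]; exact Submodule.mem_top
    obtain ⟨n, hn⟩ := h1
    have hbot : m ^ n = ⊥ := by
      rw [eq_bot_iff]
      intro a ha
      have := hn a ha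
      rw [smul_eq_mul, mul_one] at this
      rw [this]; exact Submodule.zero_mem _
    have := ringKrullDim_le_zero_of_pow_eq_bot n hbot
    rw [hd] at this
    have h2 : ((0 + 1 : ℕ) : WithBot ℕ∞) ≤ ((0 : ℕ) : WithBot ℕ∞) := by exact_mod_cast this
    have h3 : 0 + 1 ≤ 0 := by exact_mod_cast h2
    omega
  -- Step 2
  have hsub : Subsingleton ((localCohomology m 0).obj (ModuleCat.of R (R ⧸ (Γ : Ideal R)))) := by
    refine ⟨fun a b => ?_⟩
    apply toMod_injective m (ModuleCat.of R (R ⧸ (Γ : Ideal R)))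
    have hbot : powTorsion m (R ⧸ (Γ : Ideal R)) = ⊥ := powTorsion_quotient_eq_bot m R
    have key : ∀ z, toMod m (ModuleCat.of R (R ⧸ (Γ : Ideal R))) z = 0 := by
      intro z
      have : toMod m (ModuleCat.of R (R ⧸ (Γ : Ideal R))) z ∈
          LinearMap.range (toMod m (ModuleCat.of R (R ⧸ (Γ : Ideal R)))) := ⟨z, rfl⟩
      rw [range_toMod_eq_powTorsion, hbot, Submodule.mem_bot] at this
      exact this
    rw [key a, key b]
  have htop := (subsingleton_quotient_iff m 0 hT (Γ : Ideal R)).1 hsub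
  -- Step 3
  have hΓΓ : Γ ≤ (Γ : Ideal R) • Γ := by
    have h1 := congrArg (Submodule.map θ) htop
    rw [Submodule.map_smul'', Submodule.map_top, hrange] at h1
    exact h1.symm.le
  -- Step 4
  have hΓbot : Γ = ⊥ := by
    apply Submodule.eq_bot_of_le_smul_of_le_jacobson_bot (Γ : Ideal R) Γ
      (IsNoetherian.noetherian Γ) hΓΓ
    rw [IsLocalRing.jacobson_eq_maximalIdeal ⊥ bot_ne_top]
    exact le_maximalIdeal hΓ
  -- Step 5
  have hH : Subsingleton ((localCohomology m 0).obj (ModuleCat.of R R)) := by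
    refine ⟨fun a b => ?_⟩
    apply hθ
    have key : ∀ z, θ z = 0 := by
      intro z
      have : θ z ∈ LinearMap.range θ := ⟨z, rfl⟩
      rw [hrange, hΓbot, Submodule.mem_bot] at this
      exact this
    rw [key a, key b]
  -- Step 6
  have hk : Subsingleton ((localCohomology m 0).obj (ModuleCat.of R (R ⧸ m))) :=
    (subsingleton_quotient_iff m 0 hT m).2 (Subsingleton.elim _ _)
  have h1 : (1 : R ⧸ m) ∈ LinearMap.range (toMod m (ModuleCat.of R (R ⧸ m))) := by
    rw [mem_range_toMod_iff]
    refine ⟨1, fun a ha => ?_⟩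
    rw [pow_one] at ha
    change a • (Ideal.Quotient.mk m 1) = 0
    rw [← Ideal.Quotient.mk_eq_mk, ← Submodule.Quotient.mk_smul, smul_eq_mul, mul_one,
      Ideal.Quotient.mk_eq_mk, Ideal.Quotient.eq_zero_iff_mem]
    exact ha
  obtain ⟨t, ht⟩ := h1
  rw [Subsingleton.elim t 0, map_zero] at ht
  have h2 : (Ideal.Quotient.mk m) 1 = 0 := ht.symm
  rw [Ideal.Quotient.eq_zero_iff_mem] at h2
  exact (Ideal.ne_top_iff_one m).1 (maximalIdeal.isMaximal R).ne_top h2

end Groth.Agent.Lib.Helper58.NV
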