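import Mathlib.RingTheory.Ideal.AssociatedPrime.Finiteness
import Mathlib.RingTheory.Finiteness.Nakayama
import Mathlib.Algebra.Homology.ShortComplex.ModuleCat
import Mathlib.CategoryTheory.Linear.LinearFunctor
import Mathlib.RingTheory.Ideal.Maximal
import Mathlib.RingTheory.Ideal.Maps

/-!
# Semi-exact linear functors vanishing on residue fields vanish on f.g. modules
-/

set_option autoImplicit false
universe u
open CategoryTheory

namespace Groth.Agent.Lib.Helper58.SemiExact

section aux
variable {B : Type u} [CommRing B] [IsNoetherianRing B] (F : ModuleCat.{u} B ⥤ ModuleCat.{u} B)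
  [F.Additive] [F.Linear B]

/-- Lemma B: if `F` kills `B/q` for every prime `q ⊇ 𝔞`, then it kills every f.g. module killed
by `𝔞`. -/
theorem lemmaB
    (hex : ∀ S : ShortComplex (ModuleCat.{u} B), S.ShortExact → Module.Finite B S.X₂ → (S.map F).Exact)
    (𝔞 : Ideal B)
    (h𝔞 : ∀ q : Ideal B, q.IsPrime → 𝔞 ≤ q → Limits.IsZero (F.obj (ModuleCat.of B (B ⧸ q))))
    (N : Type u) [AddCommGroup N] [Module B N] (hN : Module.Finite B N) :
    (∀ a ∈ 𝔞, ∀ n : N, a • n = 0) → Limits.IsZero (F.obj (ModuleCat.of B N)) := by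
  induction hN using IsNoetherianRing.induction_on_isQuotientEquivQuotientPrime B with
  | subsingleton N =>
    intro _
    exact F.map_isZero (ModuleCat.isZero_of_subsingleton _)
  | quotient N p e =>
    intro hkill
    have hle : 𝔞 ≤ p.asIdeal := by
      intro a ha
      have h1 := hkill a ha (e.symm (Submodule.Quotient.mk 1))
      rw [← map_smul, ← Submodule.Quotient.mk_smul, smul_eq_mul, mul_one] at h1
      have h2 := e.symm.injective (h1.trans (map_zero e.symm).symm)
      exact (Submodule.Quotient.mk_eq_zero _).1 h2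
    exact (h𝔞 p.asIdeal p.2 hle).of_iso (F.mapIso e.toModuleIso)
  | exact N₁ N₂ N₃ f g hf hg hfg h₁ h₃ =>
    intro hkill
    have hk₁ : ∀ a ∈ 𝔞, ∀ n : N₁, a • n = 0 := fun a ha n =>
      hf (by rw [map_smul, hkill a ha, map_zero])
    have hk₃ : ∀ a ∈ 𝔞, ∀ n : N₃, a • n = 0 := fun a ha n => by
      obtain ⟨n, rfl⟩ := hg n
      rw [← map_smul, hkill a ha, map_zero]
    let S : ShortComplex (ModuleCat.{u} B) :=
      ShortComplex.mk (ModuleCat.ofHom f) (ModuleCat.ofHom g) (by
        apply ModuleCat.hom_ext
        apply LinearMap.ext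
        intro y
        exact hfg.apply_apply_eq_zero y)
    have hS : S.ShortExact := by
      apply ModuleCat.shortComplex_shortExact
      · intro y
        exact hfg y
      · exact hf
      · exact hg
    have hex' := hex S hS (inferInstanceAs (Module.Finite B N₂))
    exact hex'.isZero_of_both_zeros ((h₁ hk₁).eq_of_src _ _) ((h₃ hk₃).eq_of_tgt _ _)

/-- `F` kills `B/p` for every prime `p`. -/
theorem claimA
    (hfg : ∀ M : ModuleCat.{u} B, Module.Finite B M → Module.Finite B (F.obj M))
    (hex : ∀ S : ShortComplex (ModuleCat.{u} B), S.ShortExact → Module.Finite B S.X₂ → (S.map F).Exact)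
    (h0 : ∀ m : Ideal B, m.IsMaximal → Limits.IsZero (F.obj (ModuleCat.of B (B ⧸ m))))
    (p : Ideal B) : p.IsPrime → Limits.IsZero (F.obj (ModuleCat.of B (B ⧸ p))) := by
  induction p using IsWellFounded.induction (· > · : Ideal B → Ideal B → Prop) with
  | ind p ih =>
    intro hp
    by_contra hT
    set T := F.obj (ModuleCat.of B (B ⧸ p)) with hTdef
    have hTfin : Module.Finite B T := hfg _ (inferInstanceAs (Module.Finite B (B ⧸ p)))
    have hnt : ¬ Subsingleton T := fun h => hT (ModuleCat.isZero_iff_subsingleton.2 h)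
    -- `p` kills `T`
    have hpT : ∀ a ∈ p, ∀ t : T, a • t = 0 := by
      intro a ha t
      have h1 : a • 𝟙 (ModuleCat.of B (B ⧸ p)) = 0 := by
        apply ModuleCat.hom_ext
        apply LinearMap.ext
        intro y
        obtain ⟨y, rfl⟩ := Submodule.Quotient.mk_surjective _ y
        change a • (Submodule.Quotient.mk y : B ⧸ p) = 0
        rw [← Submodule.Quotient.mk_smul, Submodule.Quotient.mk_eq_zero]
        exact p.mul_mem_right _ ha
      have h2 : F.map (a • 𝟙 (ModuleCat.of B (B ⧸ p))) = a • 𝟙 T := by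
        rw [Functor.map_smul, F.map_id]
      rw [h1, F.map_zero] at h2
      have := congrArg (fun φ => φ.hom t) h2
      exact this.symm
    have hann : Module.annihilator B T ≠ ⊤ := by
      rw [Ne, Module.annihilator_eq_top_iff]
      exact hnt
    obtain ⟨m, hm, hle⟩ := Ideal.exists_le_maximal _ hann
    have hpm : p ≤ m := fun a ha => hle (Module.mem_annihilator.2 (hpT a ha))
    have hne : p ≠ m := by
      rintro rfl
      exact hT (h0 p hm)
    obtain ⟨x, hxm, hxp⟩ := SetLike.exists_of_lt (lt_of_le_of_ne hpm hne)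
    -- the sequence `0 → B/p → B/p → B/(p + xB) → 0`
    let 𝔞 : Ideal B := p ⊔ Ideal.span {x}
    have hlt : p < 𝔞 := by
      refine lt_of_le_of_ne le_sup_left (fun h => hxp ?_)
      rw [h]
      exact le_sup_right (a := p) (Ideal.mem_span_singleton_self x)
    have hzero3 : Limits.IsZero (F.obj (ModuleCat.of B (B ⧸ 𝔞))) := by
      refine lemmaB F hex 𝔞 (fun q hq hle' => ih q (lt_of_lt_of_le hlt hle') hq) (B ⧸ 𝔞)
        inferInstance ?_
      intro a ha n
      obtain ⟨n, rfl⟩ := Submodule.Quotient.mk_surjective _ n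
      rw [← Submodule.Quotient.mk_smul, Submodule.Quotient.mk_eq_zero]
      exact 𝔞.mul_mem_right _ ha
    let f : (B ⧸ p) →ₗ[B] (B ⧸ p) := x • LinearMap.id
    let g : (B ⧸ p) →ₗ[B] (B ⧸ 𝔞) := Submodule.mapQ p 𝔞 LinearMap.id (by simpa using hlt.le)
    have hf : Function.Injective f := by
      rw [injective_iff_map_eq_zero]
      intro y hy
      obtain ⟨y, rfl⟩ := Submodule.Quotient.mk_surjective _ y
      change x • (Submodule.Quotient.mk y : B ⧸ p) = 0 at hy
      rw [← Submodule.Quotient.mk_smul, Submodule.Quotient.mk_eq_zero, smul_eq_mul] at hy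
      rw [Submodule.Quotient.mk_eq_zero]
      exact (hp.mem_or_mem hy).resolve_left hxp
    have hg : Function.Surjective g := by
      intro y
      obtain ⟨y, rfl⟩ := Submodule.Quotient.mk_surjective _ y
      exact ⟨Submodule.Quotient.mk y, rfl⟩
    have hfg' : Function.Exact f g := by
      intro y
      obtain ⟨y, rfl⟩ := Submodule.Quotient.mk_surjective _ y
      change (Submodule.Quotient.mk y : B ⧸ 𝔞) = 0 ↔ _
      rw [Submodule.Quotient.mk_eq_zero]
      constructor
      · intro hy
        obtain ⟨c, hc, d, hd, rfl⟩ := Submodule.mem_sup.1 hy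
        obtain ⟨d, rfl⟩ := Ideal.mem_span_singleton'.1 hd
        refine ⟨Submodule.Quotient.mk d, ?_⟩
        change x • (Submodule.Quotient.mk d : B ⧸ p) = _
        rw [← Submodule.Quotient.mk_smul, Submodule.Quotient.eq, smul_eq_mul]
        have : x * d - (c + d * x) = -c := by ring
        rw [this]
        exact p.neg_mem hc
      · rintro ⟨z, hz⟩
        obtain ⟨z, rfl⟩ := Submodule.Quotient.mk_surjective _ z
        change x • (Submodule.Quotient.mk z : B ⧸ p) = _ at hz
        rw [← Submodule.Quotient.mk_smul, Submodule.Quotient.eq, smul_eq_mul] at hz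
        have : y = x * z - (x * z - y) := by ring
        rw [this]
        exact 𝔞.sub_mem (le_sup_right (a := p) (Ideal.mul_mem_right _ _ (Ideal.mem_span_singleton_self x)))
          (le_sup_left (a := p) hz)
    let S : ShortComplex (ModuleCat.{u} B) :=
      ShortComplex.mk (ModuleCat.ofHom f) (ModuleCat.ofHom g) (by
        apply ModuleCat.hom_ext
        apply LinearMap.ext
        intro y
        exact hfg'.apply_apply_eq_zero y)
    have hS : S.ShortExact := by
      apply ModuleCat.shortComplex_shortExact
      · intro y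
        exact hfg' y
      · exact hf
      · exact hg
    have hex' := hex S hS (inferInstanceAs (Module.Finite B (B ⧸ p)))
    have hepi : Epi (S.map F).f := hex'.epi_f (hzero3.eq_of_tgt _ _)
    have hmapf : (S.map F).f = x • 𝟙 T := by
      change F.map (ModuleCat.ofHom f) = _
      have : ModuleCat.ofHom f = x • 𝟙 (ModuleCat.of B (B ⧸ p)) := rfl
      rw [this, Functor.map_smul, F.map_id]
    rw [hmapf] at hepi
    have hsurj : Function.Surjective (fun t : T => x • t) :=
      (ModuleCat.epi_iff_surjective (x • 𝟙 T)).1 hepi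
    -- Nakayama
    have hle' : (⊤ : Submodule B T) ≤ Ideal.span {x} • (⊤ : Submodule B T) := by
      intro t _
      obtain ⟨t', rfl⟩ := hsurj t
      exact Submodule.smul_mem_smul (Ideal.mem_span_singleton_self x) Submodule.mem_top
    obtain ⟨r, hr1, hr2⟩ := Submodule.exists_sub_one_mem_and_smul_eq_zero_of_fg_of_le_smul
      (Ideal.span {x}) (⊤ : Submodule B T) (Module.finite_def.1 hTfin) hle'
    have hrm : r ∈ m := hle (Module.mem_annihilator.2 (fun t => hr2 t Submodule.mem_top))
    have hr1m : r - 1 ∈ m := by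
      obtain ⟨d, hd⟩ := Ideal.mem_span_singleton'.1 hr1
      rw [← hd]
      exact m.mul_mem_left _ hxm
    have h1m : (1 : B) ∈ m := by
      have := m.sub_mem hrm hr1m
      simpa using this
    exact hm.ne_top ((Ideal.eq_top_iff_one m).2 h1m)

end aux
end Groth.Agent.Lib.Helper58.SemiExact
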