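import Mathlib.Topology.Spectral.Basic
import Mathlib.Topology.QuasiSeparated
import Mathlib.Topology.Sober
import Mathlib.Topology.Irreducible

/-!
Powers of the Sierpiński space are spectral (helper58).
-/

set_option autoImplicit false
universe u

open Topology TopologicalSpace Set

namespace Groth.Agent.Lib.Helper58

theorem t0Space_Prop : T0Space Prop := ⟨fun p q h => by
  have := h.mem_open_iff isOpen_singleton_true
  simp only [mem_singleton_iff, eq_iff_iff, iff_true] at this
  exact propext this⟩

/-- Every open set of the Sierpiński space containing `False` contains `True`. -/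
theorem true_mem_of_false_mem_of_isOpen {u : Set Prop} (hu : IsOpen u) (h : False ∈ u) :
    True ∈ u := by
  have key : ∀ v : Set Prop, GenerateOpen {({True} : Set Prop)} v → False ∈ v → True ∈ v := by
    intro v hv
    induction hv with
    | basic s hs =>
      intro h
      rw [mem_singleton_iff] at hs
      subst hs
      exact rfl
    | univ => intro _; trivial
    | inter s t _ _ ihs iht => intro h; exact ⟨ihs h.1 , iht h.2⟩
    | sUnion S _ ih =>
      rintro ⟨s, hsS, hs⟩
      exact ⟨s, hsS, ih s hsS hs⟩
  exact key u hu h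

variable (I : Type u)

/-- The basic open subsets of a power of the Sierpiński space. -/
def sierpBasic (S : Finset I) : Set (I → Prop) := {A | ∀ i ∈ S, A i}

theorem isOpen_sierpBasic (S : Finset I) : IsOpen (sierpBasic I S) := by
  have : sierpBasic I S = ⋂ i ∈ S, {A : I → Prop | A i} := by
    ext A
    simp [sierpBasic]
  rw [this]
  exact isOpen_biInter_finset fun i _ => continuous_Prop.mp (continuous_apply i)

theorem isTopologicalBasis_sierpBasic :
    IsTopologicalBasis (range (sierpBasic I)) := by
  classical
  refine isTopologicalBasis_of_isOpen_of_nhds ?_ ?_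
  · rintro _ ⟨S, rfl⟩
    exact isOpen_sierpBasic I S
  · intro a u hau hu
    obtain ⟨I₀, v, hv, hsub⟩ := isOpen_pi_iff.mp hu a hau
    refine ⟨sierpBasic I (I₀.filter fun i => a i), ⟨_, rfl⟩, ?_, ?_⟩
    · intro i hi
      exact (Finset.mem_filter.mp hi).2
    · intro A hA
      apply hsub
      intro i hi
      by_cases hai : a i
      · have hAi : A i := hA i (Finset.mem_filter.mpr ⟨hi, hai⟩)
        have : A i = a i := propext ⟨fun _ => hai, fun _ => hAi⟩
        rw [this]
        exact (hv i hi).2
      · have hfalse : a i = False := propext ⟨fun h => hai h, False.elim⟩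
        have h1 : False ∈ v i := by rw [← hfalse]; exact (hv i hi).2
        have h2 : True ∈ v i := true_mem_of_false_mem_of_isOpen (hv i hi).1 h1
        by_cases hAi : A i
        · have : A i = True := propext ⟨fun _ => trivial, fun _ => hAi⟩
          rw [this]; exact h2
        · have : A i = False := propext ⟨fun h => hAi h, False.elim⟩
          rw [this]; exact h1

theorem isCompact_sierpBasic (S : Finset I) : IsCompact (sierpBasic I S) := by
  rw [isCompact_iff_finite_subcover]
  intro ι U hU hcov
  have hmem : (fun i => i ∈ S) ∈ sierpBasic I S := fun i hi => hi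
  obtain ⟨α, hα⟩ := mem_iUnion.mp (hcov hmem)
  obtain ⟨_, ⟨S', rfl⟩, hS', hS'U⟩ :=
    (isTopologicalBasis_sierpBasic I).exists_subset_of_mem_open hα (hU α)
  refine ⟨{α}, fun A hA => ?_⟩
  simp only [Finset.mem_singleton, iUnion_iUnion_eq_left]
  apply hS'U
  intro i hi
  exact hA i (hS' i hi)

theorem sierpBasic_inter [DecidableEq I] (S T : Finset I) :
    sierpBasic I S ∩ sierpBasic I T = sierpBasic I (S ∪ T) := by
  ext A
  simp only [sierpBasic, mem_inter_iff, mem_ofPred_eq, Finset.mem_union]
  constructor
  · rintro ⟨h1, h2⟩ i (hi | hi)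
    · exact h1 i hi
    · exact h2 i hi
  · intro h
    exact ⟨fun i hi => h i (Or.inl hi), fun i hi => h i (Or.inr hi)⟩

/-- Powers of the Sierpiński space are spectral. -/
theorem spectralSpace_sierpinski_pi : SpectralSpace (I → Prop) := by
  classical
  have := t0Space_Prop
  have hbasis := isTopologicalBasis_sierpBasic I
  have hpre : PrespectralSpace (I → Prop) :=
    PrespectralSpace.of_isTopologicalBasis' hbasis (isCompact_sierpBasic I)
  have hqs : QuasiSeparatedSpace (I → Prop) :=
    QuasiSeparatedSpace.of_isTopologicalBasis hbasis fun S T => by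
      rw [sierpBasic_inter]
      exact isCompact_sierpBasic I _
  have hsober : QuasiSober (I → Prop) := by
    refine ⟨fun {Z} hZirr hZcl => ?_⟩
    have haZ : (fun i => ∃ A ∈ Z, A i) ∈ Z := by
      by_contra hcon
      obtain ⟨_, ⟨S, rfl⟩, haS, hSZ⟩ :=
        hbasis.exists_subset_of_mem_open (show _ ∈ Zᶜ from hcon) hZcl.isOpen_compl
      have := isIrreducible_iff_sInter.mp hZirr
        (S.image fun i => {A : I → Prop | A i})
        (by
          intro u hu
          obtain ⟨i, -, rfl⟩ := Finset.mem_image.mp hu
          exact continuous_Prop.mp (continuous_apply i))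
        (by
          intro u hu
          obtain ⟨i, hi, rfl⟩ := Finset.mem_image.mp hu
          obtain ⟨A, hAZ, hAi⟩ := haS i hi
          exact ⟨A, hAZ, hAi⟩)
      obtain ⟨A, hAZ, hA⟩ := this
      refine hSZ (a := A) ?_ hAZ
      intro i hi
      rw [mem_sInter] at hA
      exact hA _ (Finset.mem_coe.mpr (Finset.mem_image.mpr ⟨i, hi, rfl⟩))
    refine ⟨fun i => ∃ A ∈ Z, A i, ?_⟩
    apply Subset.antisymm
    · exact closure_minimal (singleton_subset_iff.mpr haZ) hZcl
    · intro A hAZ
      rw [hbasis.mem_closure_iff]
      rintro _ ⟨S, rfl⟩ hAS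
      exact ⟨_, fun i hi => ⟨A, hAZ, hAS i hi⟩, rfl⟩
  exact { (inferInstance : T0Space (I → Prop)), (inferInstance : CompactSpace (I → Prop)),
    hsober, hqs, hpre with }

end Groth.Agent.Lib.Helper58
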