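import Mathlib.Topology.Spectral.ConstructibleTopology
import Mathlib.Topology.Category.TopCat.Limits.Cofiltered
import Mathlib.Topology.Category.TopCat.Limits.Konig
import Mathlib.Topology.Sober
import Mathlib.Topology.Constructible
import Mathlib.CategoryTheory.Limits.ConcreteCategory.Basic

/-!
Limits of spectral spaces along spectral maps (helper58).
-/

set_option autoImplicit false
universe u

open CategoryTheory CategoryTheory.Limits Topology TopologicalSpace Set

namespace Groth.Agent.Lib.Helper58

section General

variable {X Y : Type*} [TopologicalSpace X] [TopologicalSpace Y]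

/-- In a prespectral space every open set is open for the constructible topology. -/
theorem isOpen_constructibleTopology_of_isOpen [PrespectralSpace X]
    {V : Set X} (hV : IsOpen V) : IsOpen[constructibleTopology X] V := by
  obtain ⟨S, hS, rfl⟩ := PrespectralSpace.isTopologicalBasis.open_eq_sUnion hV
  exact @isOpen_sUnion X (constructibleTopology X) S fun t ht =>
    (hS ht).2.isOpen_constructibleTopology_of_isOpen (hS ht).1

theorem isClosed_constructibleTopology_of_isClosed [PrespectralSpace X]
    {V : Set X} (hV : IsClosed V) : IsClosed[constructibleTopology X] V := by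
  rw [← @isOpen_compl_iff X _ (constructibleTopology X)]
  exact isOpen_constructibleTopology_of_isOpen hV.isOpen_compl

theorem isClosed_constructibleTopology_of_isCompact_isOpen
    {V : Set X} (hVo : IsOpen V) (hVc : IsCompact V) : IsClosed[constructibleTopology X] V := by
  rw [← @isOpen_compl_iff X _ (constructibleTopology X)]
  exact IsCompact.isOpen_constructibleTopology_of_isClosed (by simpa using hVc)
    hVo.isClosed_compl

/-- The constructible topology is finer than the original one on a prespectral space. -/
theorem constructibleTopology_le [PrespectralSpace X] :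
    constructibleTopology X ≤ (inferInstance : TopologicalSpace X) :=
  fun _ hU => isOpen_constructibleTopology_of_isOpen hU

theorem compactSpace_constructibleTopology [CompactSpace X] [QuasiSober X]
    [PrespectralSpace X] [QuasiSeparatedSpace X] : @CompactSpace X (constructibleTopology X) := by
  have h := compactSpace_withConstructibleTopology (X := X)
  exact @Function.Surjective.compactSpace _ _ _ (constructibleTopology X) _
    (WithTopology.continuous_ofTopology _) h (WithTopology.ofTopology_surjective _)

theorem t2Space_constructibleTopology [T0Space X] [PrespectralSpace X] :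
    @T2Space X (constructibleTopology X) := by
  refine @T2Space.mk X (constructibleTopology X) ?_
  intro x y hxy
  obtain ⟨U, hU, h⟩ := exists_isOpen_xor_mem hxy
  rcases h with ⟨hx, hy⟩ | ⟨hy, hx⟩
  · obtain ⟨B, ⟨hBo, hBc⟩, hxB, hBU⟩ :=
      PrespectralSpace.isTopologicalBasis.exists_subset_of_mem_open hx hU
    exact ⟨B, Bᶜ, hBc.isOpen_constructibleTopology_of_isOpen hBo,
      (isClosed_constructibleTopology_of_isCompact_isOpen hBo hBc).isOpen_compl, hxB,
      fun h => hy (hBU h), disjoint_compl_right⟩
  · obtain ⟨B, ⟨hBo, hBc⟩, hyB, hBU⟩ :=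
      PrespectralSpace.isTopologicalBasis.exists_subset_of_mem_open hy hU
    exact ⟨Bᶜ, B, (isClosed_constructibleTopology_of_isCompact_isOpen hBo hBc).isOpen_compl,
      hBc.isOpen_constructibleTopology_of_isOpen hBo, fun h => hx (hBU h), hyB,
      disjoint_compl_left⟩

/-- Spectral maps are continuous for the constructible topologies. -/
theorem continuous_constructibleTopology_of_isSpectralMap {f : X → Y} (hf : IsSpectralMap f) :
    Continuous[constructibleTopology X, constructibleTopology Y] f := by
  refine continuous_generateFrom_iff.mpr ?_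
  rintro s (⟨hso, hsc⟩ | ⟨hscl, hsc⟩)
  · exact (hf.isCompact_preimage_of_isOpen hso hsc).isOpen_constructibleTopology_of_isOpen
      (hso.preimage hf.continuous)
  · refine IsCompact.isOpen_constructibleTopology_of_isClosed ?_ (hscl.preimage hf.continuous)
    rw [← Set.preimage_compl]
    exact hf.isCompact_preimage_of_isOpen hscl.isOpen_compl hsc

omit [TopologicalSpace X] in
/-- Compactness passes to coarser topologies. -/
theorem isCompact_of_le {t₁ t₂ : TopologicalSpace X} (h : t₁ ≤ t₂) {s : Set X}
    (hs : @IsCompact X t₁ s) : @IsCompact X t₂ s := by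
  have := @IsCompact.image X X t₁ t₂ s id hs (continuous_id_of_le h)
  simpa using this

end General

section Limit

variable {J : Type u} [SmallCategory J] (F : J ⥤ TopCat.{u}) (c : Cone F)

/-- The "constructible" topology on the point of a cone: the coarsest topology making all
projections continuous for the constructible topologies. -/
@[instance_reducible]
def consTop : TopologicalSpace c.pt :=
  ⨅ j, (constructibleTopology (F.obj j)).induced (c.π.app j)

theorem continuous_consTop_proj (j : J) :
    Continuous[consTop F c, constructibleTopology (F.obj j)] (c.π.app j) :=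
  continuous_iff_le_induced.mpr (iInf_le _ j)

variable {F c}

theorem exists_point_of_compatible (hc : IsLimit c) (u : ∀ j, F.obj j)
    (hu : ∀ {i j : J} (f : i ⟶ j), F.map f (u i) = u j) :
    ∃ x : c.pt, ∀ j, c.π.app j x = u j := by
  let e := hc.conePointUniqueUpToIso (TopCat.limitConeIsLimit.{u, u} F)
  refine ⟨e.inv ⟨u, hu⟩, fun j => ?_⟩
  have := IsLimit.conePointUniqueUpToIso_inv_comp hc (TopCat.limitConeIsLimit.{u, u} F) j
  exact ConcreteCategory.congr_hom this ⟨u, hu⟩

theorem proj_compatible {i j : J} (f : i ⟶ j) (x : c.pt) :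
    F.map f (c.π.app i x) = c.π.app j x :=
  ConcreteCategory.congr_hom (c.w f) x

theorem consTop_le (hc : IsLimit c) (hF : ∀ j, PrespectralSpace (F.obj j)) :
    consTop F c ≤ c.pt.str := by
  rw [TopCat.induced_of_isLimit c hc]
  exact iInf_mono fun j => induced_mono (@constructibleTopology_le _ _ (hF j))

/-- The point of a limit cone of spectral spaces along spectral maps is compact for the
constructible-type topology `consTop`. -/
theorem compactSpace_consTop (hc : IsLimit c) (hF : ∀ j, SpectralSpace (F.obj j))
    (hFm : ∀ {i j : J} (a : i ⟶ j), IsSpectralMap (F.map a : F.obj i → F.obj j)) :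
    @CompactSpace c.pt (consTop F c) := by
  let τP : TopologicalSpace (∀ j, F.obj j) :=
    @Pi.topologicalSpace J (fun j => F.obj j) (fun j => constructibleTopology (F.obj j))
  have hcompP : @CompactSpace (∀ j, F.obj j) τP :=
    @Pi.compactSpace J (fun j => F.obj j) (fun j => constructibleTopology (F.obj j))
      (fun j => compactSpace_constructibleTopology)
  let Ψ : c.pt → (∀ j, F.obj j) := fun x j => c.π.app j x
  have hind : @IsInducing _ _ (consTop F c) τP Ψ := by
    refine @IsInducing.mk _ _ (consTop F c) τP Ψ ?_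
    simp only [consTop, τP, Pi.topologicalSpace, induced_iInf, induced_compose]
    rfl
  have hrange : range Ψ = ⋂ (i : J) (j : J) (f : i ⟶ j), {u | F.map f (u i) = u j} := by
    ext u
    simp only [mem_range, mem_iInter, mem_ofPred_eq]
    constructor
    · rintro ⟨x, rfl⟩ i j f
      exact proj_compatible f x
    · intro hu
      obtain ⟨x, hx⟩ := exists_point_of_compatible hc u (fun f => hu _ _ f)
      exact ⟨x, funext hx⟩
  have hclosed : @IsClosed _ τP (range Ψ) := by
    rw [hrange]
    refine @isClosed_iInter _ _ τP _ fun i => @isClosed_iInter _ _ τP _ fun j =>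
      @isClosed_iInter _ _ τP _ fun f => ?_
    refine @isClosed_eq (F.obj j) (∀ j, F.obj j) (constructibleTopology (F.obj j)) τP
      t2Space_constructibleTopology (fun u => F.map f (u i)) (fun u => u j) ?_ ?_
    · exact @Continuous.comp _ _ _ τP (constructibleTopology (F.obj i))
        (constructibleTopology (F.obj j)) _ _
        (continuous_constructibleTopology_of_isSpectralMap (hFm f))
        (@continuous_apply J (fun j => F.obj j) (fun j => constructibleTopology (F.obj j)) i)
    · exact @continuous_apply J (fun j => F.obj j) (fun j => constructibleTopology (F.obj j)) j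
  have hcomp : @IsCompact _ τP (range Ψ) := @IsClosed.isCompact _ τP _ hcompP hclosed
  refine @CompactSpace.mk _ (consTop F c) ?_
  rw [@IsInducing.isCompact_iff _ _ (consTop F c) τP _ Ψ hind, image_univ]
  exact hcomp

/-- Closed subsets for `consTop` are compact for the original topology. -/
theorem isCompact_of_isClosed_consTop (hc : IsLimit c) (hF : ∀ j, SpectralSpace (F.obj j))
    (hFm : ∀ {i j : J} (a : i ⟶ j), IsSpectralMap (F.map a : F.obj i → F.obj j))
    {s : Set c.pt} (hs : @IsClosed _ (consTop F c) s) : IsCompact s :=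
  isCompact_of_le (consTop_le hc fun _ => inferInstance)
    (@IsClosed.isCompact _ (consTop F c) _ (compactSpace_consTop hc hF hFm) hs)

theorem isClosed_consTop_preimage (j : J) {E : Set (F.obj j)}
    (hE : IsClosed[constructibleTopology (F.obj j)] E) :
    @IsClosed _ (consTop F c) (c.π.app j ⁻¹' E) :=
  @IsClosed.preimage _ _ (consTop F c) (constructibleTopology (F.obj j)) _
    (continuous_consTop_proj F c j) _ hE

variable (F) in
/-- The diagram of the subspaces `Z j` with (the subspace topologies of) their constructible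
topologies. -/
noncomputable def subDiagram (Z : ∀ j, Set (F.obj j))
    (hFm : ∀ {i j : J} (a : i ⟶ j), IsSpectralMap (F.map a : F.obj i → F.obj j))
    (hZ : ∀ {i j : J} (a : i ⟶ j), MapsTo (F.map a) (Z i) (Z j)) : J ⥤ TopCat.{u} where
  obj j := @TopCat.of (Z j) (@instTopologicalSpaceSubtype _ _ (constructibleTopology (F.obj j)))
  map {i j} a := @TopCat.ofHom (Z i) (Z j)
    (@instTopologicalSpaceSubtype _ _ (constructibleTopology (F.obj i)))
    (@instTopologicalSpaceSubtype _ _ (constructibleTopology (F.obj j)))
    (@ContinuousMap.mk _ _ (@instTopologicalSpaceSubtype _ _ (constructibleTopology (F.obj i)))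
      (@instTopologicalSpaceSubtype _ _ (constructibleTopology (F.obj j)))
      ((hZ a).restrict _ _ _)
      (@Continuous.restrict _ _ (constructibleTopology (F.obj i))
        (constructibleTopology (F.obj j)) _ _ _ (hZ a)
        (continuous_constructibleTopology_of_isSpectralMap (hFm a))))
  map_id j := by
    refine ConcreteCategory.hom_ext _ _ ?_
    rintro ⟨x, hx⟩
    apply Subtype.ext
    simp
  map_comp {i j k} a b := by
    refine ConcreteCategory.hom_ext _ _ ?_
    rintro ⟨x, hx⟩
    apply Subtype.ext
    simp

/-- Stacks 0A2W: a compatible system of nonempty constructibly closed subsets in a cofiltered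
system of spectral spaces has a point in the limit. -/
theorem exists_point_forall_mem [IsCofiltered J] (hc : IsLimit c)
    (hF : ∀ j, SpectralSpace (F.obj j))
    (hFm : ∀ {i j : J} (a : i ⟶ j), IsSpectralMap (F.map a : F.obj i → F.obj j))
    (Z : ∀ j, Set (F.obj j)) (hne : ∀ j, (Z j).Nonempty)
    (hcl : ∀ j, IsClosed[constructibleTopology (F.obj j)] (Z j))
    (hZ : ∀ {i j : J} (a : i ⟶ j), MapsTo (F.map a) (Z i) (Z j)) :
    ∃ x : c.pt, ∀ j, c.π.app j x ∈ Z j := by
  let G := subDiagram F Z hFm hZ
  have h1 : ∀ j, Nonempty (G.obj j) := fun j => (hne j).to_subtype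
  have h2 : ∀ j, CompactSpace (G.obj j) := fun j =>
    (@isCompact_iff_compactSpace _ (constructibleTopology (F.obj j)) (Z j)).mp
      (@IsClosed.isCompact _ (constructibleTopology (F.obj j)) _
        compactSpace_constructibleTopology (hcl j))
  have h3 : ∀ j, T2Space (G.obj j) := fun j =>
    @instT2SpaceSubtype _ (constructibleTopology (F.obj j)) _ t2Space_constructibleTopology
  obtain ⟨v⟩ := TopCat.nonempty_limitCone_of_compact_t2_cofiltered_system.{u, u} G
  obtain ⟨x, hx⟩ := exists_point_of_compatible hc (fun j => (v.1 j).1)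
    (fun f => congrArg Subtype.val (v.2 f))
  exact ⟨x, fun j => by rw [hx j]; exact (v.1 j).2⟩

omit c in
variable (J) in
/-- In a cofiltered category, finitely many parallel morphisms can be equalized. -/
theorem exists_equalizing [IsCofiltered J] {j i : J} (s : Finset (j ⟶ i)) :
    ∃ (k : J) (b : k ⟶ j) (a₀ : k ⟶ i), ∀ a ∈ s, b ≫ a = a₀ := by
  classical
  induction s using Finset.induction_on with
  | empty =>
    exact ⟨IsCofiltered.min j i, IsCofiltered.minToLeft j i, IsCofiltered.minToRight j i,
      by simp⟩
  | insert a s _ ih =>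
    obtain ⟨k, b, a₀, h⟩ := ih
    refine ⟨IsCofiltered.eq (b ≫ a) a₀, IsCofiltered.eqHom (b ≫ a) a₀ ≫ b,
      IsCofiltered.eqHom (b ≫ a) a₀ ≫ a₀, ?_⟩
    intro a' ha'
    rcases Finset.mem_insert.mp ha' with rfl | ha'
    · rw [Category.assoc, IsCofiltered.eq_condition]
    · rw [Category.assoc, h a' ha']

/-- Stacks 0A2X: in a cofiltered limit of spectral spaces, an inclusion between the preimages
of a constructibly closed and a constructibly open subset holds already at a finite stage. -/
theorem preimage_subset_preimage_iff_exists [IsCofiltered J] (hc : IsLimit c)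
    (hF : ∀ j, SpectralSpace (F.obj j))
    (hFm : ∀ {i j : J} (a : i ⟶ j), IsSpectralMap (F.map a : F.obj i → F.obj j))
    (i : J) (E F' : Set (F.obj i)) (hE : IsClosed[constructibleTopology (F.obj i)] E)
    (hF' : IsOpen[constructibleTopology (F.obj i)] F') :
    (c.π.app i ⁻¹' E ⊆ c.π.app i ⁻¹' F') ↔
      ∃ (j : J) (a : j ⟶ i), F.map a ⁻¹' E ⊆ F.map a ⁻¹' F' := by
  constructor
  · intro hsub
    by_contra hcon
    push Not at hcon
    -- the set `D = E \ F'` is constructibly closed
    have hD : IsClosed[constructibleTopology (F.obj i)] (E ∩ F'ᶜ) :=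
      @IsClosed.inter _ _ _ (constructibleTopology (F.obj i)) hE
        (@isClosed_compl_iff _ (constructibleTopology (F.obj i)) _ |>.mpr hF')
    have hDne : ∀ (j : J) (a : j ⟶ i), (F.map a ⁻¹' (E ∩ F'ᶜ)).Nonempty := by
      intro j a
      obtain ⟨x, hxE, hxF⟩ := Set.not_subset.mp (hcon j a)
      exact ⟨x, hxE, hxF⟩
    let Z : ∀ j, Set (F.obj j) := fun j => ⋂ a : j ⟶ i, F.map a ⁻¹' (E ∩ F'ᶜ)
    have hZcl : ∀ j, IsClosed[constructibleTopology (F.obj j)] (Z j) := fun j =>
      @isClosed_iInter _ _ (constructibleTopology (F.obj j)) _ fun a =>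
        @IsClosed.preimage _ _ (constructibleTopology (F.obj j))
          (constructibleTopology (F.obj i)) _
          (continuous_constructibleTopology_of_isSpectralMap (hFm a)) _ hD
    have hZcompat : ∀ {j j' : J} (b : j ⟶ j'), MapsTo (F.map b) (Z j) (Z j') := by
      intro j j' b z hz
      simp only [Z, mem_iInter, mem_preimage] at hz ⊢
      intro a
      have := hz (b ≫ a)
      rwa [F.map_comp, TopCat.comp_app] at this
    have hZne : ∀ j, (Z j).Nonempty := by
      intro j
      have hcomp : @CompactSpace (F.obj j) (constructibleTopology (F.obj j)) :=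
        compactSpace_constructibleTopology
      have := @IsCompact.inter_iInter_nonempty (F.obj j) (constructibleTopology (F.obj j))
        univ (j ⟶ i) (@isCompact_univ _ (constructibleTopology (F.obj j)) hcomp)
        (fun a => F.map a ⁻¹' (E ∩ F'ᶜ))
        (fun a => @IsClosed.preimage _ _ (constructibleTopology (F.obj j))
          (constructibleTopology (F.obj i)) _
          (continuous_constructibleTopology_of_isSpectralMap (hFm a)) _ hD)
        (by
          intro s
          obtain ⟨k, b, a₀, hk⟩ := exists_equalizing J s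
          obtain ⟨z, hz⟩ := hDne k a₀
          refine ⟨F.map b z, trivial, ?_⟩
          simp only [mem_iInter, mem_preimage]
          intro a ha
          rw [← hk a ha, F.map_comp] at hz
          exact hz)
      obtain ⟨z, -, hz⟩ := this
      exact ⟨z, hz⟩
    obtain ⟨x, hx⟩ := exists_point_forall_mem hc hF hFm Z hZne hZcl hZcompat
    have hxi := hx i
    simp only [Z, mem_iInter, mem_preimage] at hxi
    have := hxi (𝟙 i)
    rw [F.map_id, TopCat.id_app] at this
    exact this.2 (hsub this.1)
  · rintro ⟨j, a, hsub⟩ x hx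
    have h1 : F.map a (c.π.app j x) = c.π.app i x := proj_compatible a x
    have : c.π.app j x ∈ F.map a ⁻¹' E := by
      show F.map a (c.π.app j x) ∈ E
      rw [h1]
      exact hx
    have := hsub this
    show c.π.app i x ∈ F'
    rw [← h1]
    exact this

theorem continuous_proj (j : J) : Continuous (c.π.app j) :=
  (ConcreteCategory.hom (c.π.app j)).continuous

/-- The preimages of compact opens form a basis of a cofiltered limit of spectral spaces. -/
theorem isTopologicalBasis_preimage_compact_open [IsCofiltered J] (hc : IsLimit c)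
    (hF : ∀ j, SpectralSpace (F.obj j))
    (hFm : ∀ {i j : J} (a : i ⟶ j), IsSpectralMap (F.map a : F.obj i → F.obj j)) :
    IsTopologicalBasis {U : Set c.pt | ∃ (j : J) (V : Set (F.obj j)),
      V ∈ {V : Set (F.obj j) | IsOpen V ∧ IsCompact V} ∧ U = c.π.app j ⁻¹' V} :=
  TopCat.isTopologicalBasis_cofiltered_limit.{u, u} F c hc
    (fun j => {V | IsOpen V ∧ IsCompact V})
    (fun _ => PrespectralSpace.isTopologicalBasis)
    (fun _ => ⟨isOpen_univ, isCompact_univ⟩)
    (fun _ U1 U2 h1 h2 => ⟨h1.1.inter h2.1,
      QuasiSeparatedSpace.inter_isCompact U1 U2 h1.1 h1.2 h2.1 h2.2⟩)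
    (fun _ _ f _ hV => ⟨hV.1.preimage (hFm f).continuous,
      (hFm f).isCompact_preimage_of_isOpen hV.1 hV.2⟩)

/-- Compact opens of the limit are closed for `consTop`. -/
theorem isClosed_consTop_of_isCompact_isOpen [IsCofiltered J] (hc : IsLimit c)
    (hF : ∀ j, SpectralSpace (F.obj j))
    (hFm : ∀ {i j : J} (a : i ⟶ j), IsSpectralMap (F.map a : F.obj i → F.obj j))
    {U : Set c.pt} (hUo : IsOpen U) (hUc : IsCompact U) : @IsClosed _ (consTop F c) U := by
  obtain ⟨S, hS, rfl⟩ := (isTopologicalBasis_preimage_compact_open hc hF hFm).open_eq_sUnion hUo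
  have hSo : ∀ s : S, IsOpen (s : Set c.pt) := fun s =>
    (isTopologicalBasis_preimage_compact_open hc hF hFm).isOpen (hS s.2)
  obtain ⟨t, ht⟩ := hUc.elim_finite_subcover (fun s : S => (s : Set c.pt)) hSo
    (by rw [sUnion_eq_iUnion])
  have heq : ⋃₀ S = ⋃ s ∈ t, (s : Set c.pt) := by
    apply Subset.antisymm ht
    intro x hx
    simp only [mem_iUnion, exists_prop] at hx
    obtain ⟨s, -, hxs⟩ := hx
    exact ⟨s, s.2, hxs⟩
  rw [heq]
  refine @Set.Finite.isClosed_biUnion _ _ (consTop F c) _ _ t.finite_toSet ?_
  intro s _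
  obtain ⟨j, V, ⟨hVo, hVc⟩, hsV⟩ := hS s.2
  rw [hsV]
  exact isClosed_consTop_preimage j (isClosed_constructibleTopology_of_isCompact_isOpen hVo hVc)

/-- Stacks 0A2Z: a cofiltered limit of spectral spaces along spectral maps is spectral. -/
theorem spectralSpace_of_isLimit [IsCofiltered J] (hc : IsLimit c)
    (hF : ∀ j, SpectralSpace (F.obj j))
    (hFm : ∀ {i j : J} (a : i ⟶ j), IsSpectralMap (F.map a : F.obj i → F.obj j)) :
    SpectralSpace c.pt := by
  have hbasis := isTopologicalBasis_preimage_compact_open hc hF hFm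
  have hT0 : T0Space c.pt := ⟨fun x y h => Concrete.isLimit_ext F hc x y fun j =>
    (h.map (continuous_proj j)).eq⟩
  have hcompact : CompactSpace c.pt :=
    ⟨isCompact_of_isClosed_consTop hc hF hFm (@isClosed_univ _ (consTop F c))⟩
  have hqs : QuasiSeparatedSpace c.pt := ⟨fun U V hUo hUc hVo hVc =>
    isCompact_of_isClosed_consTop hc hF hFm
      (@IsClosed.inter _ _ _ (consTop F c)
        (isClosed_consTop_of_isCompact_isOpen hc hF hFm hUo hUc)
        (isClosed_consTop_of_isCompact_isOpen hc hF hFm hVo hVc))⟩
  have hpre : PrespectralSpace c.pt := by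
    refine PrespectralSpace.of_isTopologicalBasis hbasis ?_
    rintro U ⟨j, V, ⟨hVo, hVc⟩, rfl⟩
    exact isCompact_of_isClosed_consTop hc hF hFm
      (isClosed_consTop_preimage j (isClosed_constructibleTopology_of_isCompact_isOpen hVo hVc))
  have hsober : QuasiSober c.pt := by
    refine ⟨fun {T} hTirr hTcl => ?_⟩
    -- the closures of the images of `T` are irreducible closed, take their generic points
    have hirr : ∀ j, IsIrreducible (closure (c.π.app j '' T)) := fun j =>
      (hTirr.image _ (continuous_proj j).continuousOn).closure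
    let ξ : ∀ j, F.obj j := fun j => (hirr j).genericPoint
    have hξ : ∀ j, IsGenericPoint (ξ j) (closure (c.π.app j '' T)) := fun j =>
      (hirr j).isGenericPoint_genericPoint isClosed_closure
    have hcompat : ∀ {i j : J} (f : i ⟶ j), F.map f (ξ i) = ξ j := by
      intro i j f
      refine IsGenericPoint.eq ?_ (hξ j)
      have h1 := (hξ i).image (hFm f).continuous
      have h2 : closure (F.map f '' closure (c.π.app i '' T)) = closure (c.π.app j '' T) := by
        rw [closure_image_closure (hFm f).continuous, ← image_comp]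
        congr 2
        ext x
        exact proj_compatible f x
      rwa [h2] at h1
    obtain ⟨x, hx⟩ := exists_point_of_compatible hc ξ hcompat
    refine ⟨x, ?_⟩
    have hxT : x ∈ T := by
      by_contra hxT
      obtain ⟨U, ⟨j, V, ⟨hVo, -⟩, rfl⟩, hxU, hUT⟩ :=
        hbasis.exists_subset_of_mem_open (show x ∈ Tᶜ from hxT) hTcl.isOpen_compl
      have hξV : ξ j ∈ V := by rw [← hx j]; exact hxU
      obtain ⟨y, hy, hyV⟩ := ((hξ j).mem_open_set_iff hVo).mp hξV
      obtain ⟨z, hzV, ⟨t, ht, rfl⟩⟩ := mem_closure_iff.mp hy V hVo hyV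
      exact hUT hzV ht
    apply Subset.antisymm
    · exact closure_minimal (singleton_subset_iff.mpr hxT) hTcl
    · intro t ht
      rw [hbasis.mem_closure_iff]
      rintro U ⟨j, V, ⟨hVo, -⟩, rfl⟩ htU
      refine ⟨x, ?_, rfl⟩
      show c.π.app j x ∈ V
      rw [hx j, (hξ j).mem_open_set_iff hVo]
      exact ⟨c.π.app j t, subset_closure ⟨t, ht, rfl⟩, htU⟩
  exact { hT0, hcompact, hsober, hqs, hpre with }

/-- The projections of a cofiltered limit of spectral spaces are spectral. -/
theorem isSpectralMap_proj (hc : IsLimit c)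
    (hF : ∀ j, SpectralSpace (F.obj j))
    (hFm : ∀ {i j : J} (a : i ⟶ j), IsSpectralMap (F.map a : F.obj i → F.obj j)) (j : J) :
    IsSpectralMap (c.π.app j : c.pt → F.obj j) :=
  ⟨continuous_proj j, fun _ hVo hVc => isCompact_of_isClosed_consTop hc hF hFm
    (isClosed_consTop_preimage j (isClosed_constructibleTopology_of_isCompact_isOpen hVo hVc))⟩

/-- Stacks 0A30 (1): every compact open of a cofiltered limit of spectral spaces comes from a
compact open at a finite stage. -/
theorem exists_preimage_eq_of_isCompact_isOpen [IsCofiltered J] (hc : IsLimit c)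
    (hF : ∀ j, SpectralSpace (F.obj j))
    (hFm : ∀ {i j : J} (a : i ⟶ j), IsSpectralMap (F.map a : F.obj i → F.obj j))
    {U : Set c.pt} (hUo : IsOpen U) (hUc : IsCompact U) :
    ∃ (i : J) (V : Set (F.obj i)), IsOpen V ∧ IsCompact V ∧ c.π.app i ⁻¹' V = U := by
  classical
  obtain ⟨S, hS, rfl⟩ := (isTopologicalBasis_preimage_compact_open hc hF hFm).open_eq_sUnion hUo
  have hSo : ∀ s : S, IsOpen (s : Set c.pt) := fun s =>
    (isTopologicalBasis_preimage_compact_open hc hF hFm).isOpen (hS s.2)
  obtain ⟨t, ht⟩ := hUc.elim_finite_subcover (fun s : S => (s : Set c.pt)) hSo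
    (by rw [sUnion_eq_iUnion])
  have heq : ⋃₀ S = ⋃ s ∈ t, (s : Set c.pt) := by
    apply Subset.antisymm ht
    intro x hx
    simp only [mem_iUnion, exists_prop] at hx
    obtain ⟨s, -, hxs⟩ := hx
    exact ⟨s, s.2, hxs⟩
  rw [heq]
  clear heq ht hUc hUo
  induction t using Finset.induction_on with
  | empty =>
    obtain ⟨i⟩ := IsCofiltered.nonempty (C := J)
    exact ⟨i, ∅, isOpen_empty, isCompact_empty, by simp⟩
  | insert s t _ ih =>
    obtain ⟨i₂, V₂, hV₂o, hV₂c, hV₂⟩ := ih
    obtain ⟨i₁, V₁, ⟨hV₁o, hV₁c⟩, hV₁⟩ := hS s.2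
    refine ⟨IsCofiltered.min i₁ i₂,
      F.map (IsCofiltered.minToLeft i₁ i₂) ⁻¹' V₁ ∪ F.map (IsCofiltered.minToRight i₁ i₂) ⁻¹' V₂,
      (hV₁o.preimage (hFm _).continuous).union (hV₂o.preimage (hFm _).continuous),
      ((hFm _).isCompact_preimage_of_isOpen hV₁o hV₁c).union
        ((hFm _).isCompact_preimage_of_isOpen hV₂o hV₂c), ?_⟩
    rw [Finset.set_biUnion_insert, ← hV₂, hV₁]
    ext x
    simp only [mem_preimage, mem_union, proj_compatible]

/-- Preimages of constructible sets under spectral maps of spectral spaces are constructible. -/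
theorem isConstructible_preimage_of_isSpectralMap {X Y : Type*} [TopologicalSpace X]
    [TopologicalSpace Y] [QuasiSeparatedSpace X] [CompactSpace Y] {f : X → Y}
    (hf : IsSpectralMap f) {E : Set Y} (hE : IsConstructible E) : IsConstructible (f ⁻¹' E) :=
  hE.preimage hf.continuous fun _ hso hsr =>
    (hf.isCompact_preimage_of_isOpen hso hsr.isCompact).isRetrocompact
      (hso.preimage hf.continuous)

/-- Stacks 0A2Y: every constructible subset of a cofiltered limit of spectral spaces comes from
a constructible subset at a finite stage. -/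
theorem exists_preimage_eq_of_isConstructible [IsCofiltered J] (hc : IsLimit c)
    (hF : ∀ j, SpectralSpace (F.obj j))
    (hFm : ∀ {i j : J} (a : i ⟶ j), IsSpectralMap (F.map a : F.obj i → F.obj j))
    {E : Set c.pt} (hE : IsConstructible E) :
    ∃ (i : J) (Ei : Set (F.obj i)), IsConstructible Ei ∧ c.π.app i ⁻¹' Ei = E := by
  have hsp := spectralSpace_of_isLimit hc hF hFm
  induction hE using IsConstructible.empty_union_induction with
  | open_retrocompact U hUo hUr =>
    obtain ⟨i, V, hVo, hVc, hV⟩ :=
      exists_preimage_eq_of_isCompact_isOpen hc hF hFm hUo hUr.isCompact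
    exact ⟨i, V, hVc.isConstructible hVo, hV⟩
  | union s hs t ht hs' ht' =>
    obtain ⟨i₁, E₁, hE₁, rfl⟩ := hs'
    obtain ⟨i₂, E₂, hE₂, rfl⟩ := ht'
    refine ⟨IsCofiltered.min i₁ i₂,
      F.map (IsCofiltered.minToLeft i₁ i₂) ⁻¹' E₁ ∪ F.map (IsCofiltered.minToRight i₁ i₂) ⁻¹' E₂,
      (isConstructible_preimage_of_isSpectralMap (hFm _) hE₁).union
        (isConstructible_preimage_of_isSpectralMap (hFm _) hE₂), ?_⟩
    ext x
    simp only [mem_preimage, mem_union, proj_compatible]
  | compl s hs hs' =>
    obtain ⟨i, Ei, hEi, rfl⟩ := hs'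
    exact ⟨i, Eiᶜ, hEi.compl, rfl⟩

/-- Equalities between preimages of constructibly clopen sets hold at a finite stage. -/
theorem exists_preimage_eq_preimage [IsCofiltered J] (hc : IsLimit c)
    (hF : ∀ j, SpectralSpace (F.obj j))
    (hFm : ∀ {i j : J} (a : i ⟶ j), IsSpectralMap (F.map a : F.obj i → F.obj j))
    (i : J) (E E' : Set (F.obj i))
    (hEc : IsClosed[constructibleTopology (F.obj i)] E)
    (hEo : IsOpen[constructibleTopology (F.obj i)] E)
    (hE'c : IsClosed[constructibleTopology (F.obj i)] E')
    (hE'o : IsOpen[constructibleTopology (F.obj i)] E')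
    (h : c.π.app i ⁻¹' E = c.π.app i ⁻¹' E') :
    ∃ (j : J) (a : j ⟶ i), F.map a ⁻¹' E = F.map a ⁻¹' E' := by
  obtain ⟨j₁, a₁, h₁⟩ := (preimage_subset_preimage_iff_exists hc hF hFm i E E' hEc hE'o).mp h.le
  obtain ⟨j₂, a₂, h₂⟩ := (preimage_subset_preimage_iff_exists hc hF hFm i E' E hE'c hEo).mp h.ge
  obtain ⟨k, g₁, g₂, hg⟩ := IsCofiltered.cospan a₁ a₂
  refine ⟨k, g₁ ≫ a₁, Subset.antisymm ?_ ?_⟩
  · intro x hx
    have : F.map g₁ x ∈ F.map a₁ ⁻¹' E := by
      simpa only [F.map_comp, mem_preimage, TopCat.comp_app] using hx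
    simpa only [F.map_comp, mem_preimage, TopCat.comp_app] using h₁ this
  · intro x hx
    rw [hg] at hx ⊢
    have : F.map g₂ x ∈ F.map a₂ ⁻¹' E' := by
      simpa only [F.map_comp, mem_preimage, TopCat.comp_app] using hx
    simpa only [F.map_comp, mem_preimage, TopCat.comp_app] using h₂ this

end Limit

end Groth.Agent.Lib.Helper58
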