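import Groth.Agent.Lib.Helper2.InjHull4
import Groth.Agent.Lib.Helper12.PolyInjective

/-!
# Power-torsion modules with `Ext¹(k, M) = 0` are direct sums of `E(k)` (helper58)

Over a Noetherian local ring `(R, m, k)` with `E` an injective hull of `k`: an `m`-power torsion
module `M` such that every `R`-linear map `m → M` is multiplication by an element of `M`
is isomorphic to `J →₀ E` for some `J`.

Also: Koszul-type `H¹`-vanishing for modules with commuting "partial derivatives".
-/

set_option autoImplicit false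

namespace Groth.Agent.Lib.Helper58.TorsE

open Function IsLocalRing Groth.Agent.Lib.Helper2

universe u

section Abstract

variable {R : Type u} [CommRing R] [IsLocalRing R]

/-- the socle of `E(k)` is the image of `k` -/
theorem socle_le_range {E : Type u} [AddCommGroup E] [Module R E]
    (f : ResidueField R →ₗ[R] E) (hf : InjHull.IsInjectiveHull f) (y : E)
    (hy : ∀ a ∈ maximalIdeal R, a • y = 0) : y ∈ LinearMap.range f := by
  by_cases hy0 : y = 0
  · rw [hy0]; exact zero_mem _
  obtain ⟨r, hr0, hr⟩ := hf.toIsEssentialInj.essElt y hy0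
  have hru : IsUnit r := by
    by_contra hnu
    exact hr0 (hy r ((mem_maximalIdeal r).2 hnu))
  obtain ⟨u, rfl⟩ := hru
  have : y = (↑u⁻¹ : R) • ((u : R) • y) := by rw [smul_smul, Units.inv_mul, one_smul]
  rw [this]
  exact Submodule.smul_mem _ _ hr

set_option maxHeartbeats 400000 in
theorem exists_equiv_finsupp [IsNoetherianRing R] {E : Type u} [AddCommGroup E] [Module R E]
    (f : ResidueField R →ₗ[R] E) (hf : InjHull.IsInjectiveHull f)
    (M : Type u) [AddCommGroup M] [Module R M]
    (hM : LocCoh.IsPowerTorsion (maximalIdeal R) M)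
    (hext : ∀ φ : ↥(maximalIdeal R) →ₗ[R] M, ∃ z : M, ∀ a : ↥(maximalIdeal R),
      φ a = (a : R) • z) :
    ∃ J : Type u, Nonempty (M ≃ₗ[R] (J →₀ E)) := by
  classical
  letI : Field (R ⧸ maximalIdeal R) := Ideal.Quotient.field _
  let V := LocCoh.torsionBy (maximalIdeal R) M
  let b := Module.Basis.ofVectorSpace (R ⧸ maximalIdeal R) ↥V
  let J : Type u := ↥(Module.Basis.ofVectorSpaceIndex (R ⧸ maximalIdeal R) ↥V)
  let f' : (R ⧸ maximalIdeal R) →ₗ[R] E := f
  have hf' : Injective f' := hf.injective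
  let e₀ : ↥V →ₗ[R] (J →₀ R ⧸ maximalIdeal R) := b.repr.toLinearMap.restrictScalars R
  let h₀ : ↥V →ₗ[R] (J →₀ E) := (Finsupp.mapRange.linearMap f') ∘ₗ e₀
  have h₀inj : Injective h₀ := by
    intro x y hxy
    apply b.repr.injective
    ext j
    apply hf'
    exact DFunLike.congr_fun hxy j
  have hbaer : Module.Baer R (J →₀ E) :=
    Groth.Agent.Lib.Helper12.PolySeq.baer_finsupp J E (Module.Baer.of_injective hf.isInjective)
  obtain ⟨g, hg⟩ := hbaer.extension_property V.subtype (Submodule.subtype_injective _) h₀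
  have hginj : Injective g :=
    injective_of_essElt_comp
      ((essElt_subtype_iff _).mpr (essIn_socle_of_isPowerTorsion (maximalIdeal R) hM)) g
      (by rw [hg]; exact h₀inj)
  have hE := isPowerTorsion_of_isInjectiveHull f hf
  have hsoc : ∀ y : J →₀ E, (∀ a ∈ maximalIdeal R, a • y = 0) → y ∈ LinearMap.range g := by
    intro y hy
    have hc : ∀ j, ∃ c : R ⧸ maximalIdeal R, f' c = y j := fun j =>
      socle_le_range f hf (y j) (fun a ha => by
        have := DFunLike.congr_fun (hy a ha) j
        simpa using this)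
    choose c hc using hc
    let c' : J →₀ R ⧸ maximalIdeal R := Finsupp.onFinset y.support c (fun j hj => by
      rw [Finsupp.mem_support_iff]
      intro h0
      apply hj
      apply hf'
      rw [hc, h0, map_zero])
    refine ⟨((b.repr.symm c' : ↥V) : M), ?_⟩
    have h1 : g ((b.repr.symm c' : ↥V) : M) = h₀ (b.repr.symm c') := by
      rw [← hg]; rfl
    rw [h1]
    ext j
    have h2 : e₀ (b.repr.symm c') = c' := b.repr.apply_symm_apply c'
    change f' ((e₀ (b.repr.symm c')) j) = y j
    rw [h2]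
    exact hc j
  have key : ∀ (n : ℕ) (y : J →₀ E), (∀ a ∈ maximalIdeal R ^ n, a • y = 0) →
      y ∈ LinearMap.range g := by
    intro n
    induction n with
    | zero =>
      intro y hy
      have : y = 0 := by simpa using hy 1 (by simp)
      rw [this]; exact zero_mem _
    | succ n ih =>
      intro y hy
      have h1 : ∀ a ∈ maximalIdeal R, a • y ∈ LinearMap.range g := fun a ha =>
        ih (a • y) (fun b hb => by
          rw [smul_smul]
          exact hy _ (by rw [pow_succ]; exact Ideal.mul_mem_mul hb ha))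
      let ge := LinearEquiv.ofInjective g hginj
      let ψ : ↥(maximalIdeal R) →ₗ[R] ↥(LinearMap.range g) :=
        LinearMap.codRestrict (LinearMap.range g)
          ((LinearMap.toSpanSingleton R (J →₀ E) y).comp (Submodule.subtype (maximalIdeal R)))
          (fun a => h1 a a.2)
      obtain ⟨z, hz⟩ := hext (ge.symm.toLinearMap ∘ₗ ψ)
      have h2 : ∀ a ∈ maximalIdeal R, a • (y - g z) = 0 := by
        intro a ha
        have h3 := hz ⟨a, ha⟩
        have h4 : ψ ⟨a, ha⟩ = ge (a • z) := by
          rw [← h3]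
          exact (ge.apply_symm_apply _).symm
        have h5 : ((ψ ⟨a, ha⟩ : ↥(LinearMap.range g)) : J →₀ E) = a • y := rfl
        have h6 : ((ge (a • z) : ↥(LinearMap.range g)) : J →₀ E) = g (a • z) := rfl
        rw [smul_sub, ← h5, h4, h6, map_smul, sub_self]
      have h7 := hsoc _ h2
      have h8 : y = (y - g z) + g z := by abel
      rw [h8]
      exact add_mem h7 ⟨z, rfl⟩
  have hsurj : Surjective g := by
    intro y
    change y ∈ LinearMap.range g
    induction y using Finsupp.induction_linear with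
    | zero => exact zero_mem _
    | add x y hx hy => exact add_mem hx hy
    | single j x =>
      obtain ⟨n, hn⟩ := hE x
      exact key n _ (fun a ha => by rw [Finsupp.smul_single, hn a ha, Finsupp.single_zero])
  exact ⟨J, ⟨LinearEquiv.ofBijective g ⟨hginj, hsurj⟩⟩⟩

end Abstract

section Koszul

variable {A : Type*} [CommRing A] {M : Type*} [AddCommGroup M] [Module A M]

/-- `x` acts surjectively on a `D`-stable submodule of an `x`-power torsion module when
`[D, x] = 1` and positive integers are invertible. -/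
theorem smul_surj_of_D (x : A) (Dx : M →+ M) (N : Submodule A M)
    (hcomm : ∀ (n : ℕ) (z : M),
      Dx (x ^ (n + 1) • z) = ((n + 1 : ℕ) : A) • x ^ n • z + x ^ (n + 1) • Dx z)
    (hinv : ∀ n : ℕ, ∃ c : A, c * ((n + 1 : ℕ) : A) = 1)
    (hN : ∀ z ∈ N, Dx z ∈ N)
    (htors : ∀ z : M, ∃ n : ℕ, x ^ n • z = 0) :
    ∀ z ∈ N, ∃ w ∈ N, x • w = z := by
  have key : ∀ (n : ℕ), ∀ z ∈ N, x ^ n • z = 0 → ∃ w ∈ N, x • w = z := by
    intro n
    induction n with
    | zero =>
      intro z _ hz
      rw [pow_zero, one_smul] at hz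
      exact ⟨0, N.zero_mem, by rw [hz, smul_zero]⟩
    | succ n ih =>
      intro z hzN hz
      have h1 := hcomm n z
      rw [hz, map_zero] at h1
      have hz'N : ((n + 1 : ℕ) : A) • z + x • Dx z ∈ N :=
        N.add_mem (N.smul_mem _ hzN) (N.smul_mem _ (hN z hzN))
      have h2 : x ^ n • (((n + 1 : ℕ) : A) • z + x • Dx z) = 0 := by
        rw [smul_add, smul_comm (x ^ n) (((n + 1 : ℕ) : A)) z, smul_smul (x ^ n) x, ← pow_succ]
        exact h1.symm
      obtain ⟨w', hw'N, hw'⟩ := ih _ hz'N h2
      obtain ⟨c, hc⟩ := hinv n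
      refine ⟨c • (w' - Dx z), N.smul_mem _ (N.sub_mem hw'N (hN z hzN)), ?_⟩
      rw [smul_comm, smul_sub, hw', add_sub_cancel_right, smul_smul, hc, one_smul]
  intro z hz
  obtain ⟨n, hn⟩ := htors z
  exact key n z hz hn

theorem koszul_H1 {ι : Type*} [DecidableEq ι] (x : ι → A) (D : ι → M →+ M)
    (hcommD : ∀ i j, i ≠ j → ∀ z, D i (x j • z) = x j • D i z)
    (hcomm : ∀ i (n : ℕ) (z : M),
      D i (x i ^ (n + 1) • z) = ((n + 1 : ℕ) : A) • x i ^ n • z + x i ^ (n + 1) • D i z)
    (hinv : ∀ n : ℕ, ∃ c : A, c * ((n + 1 : ℕ) : A) = 1)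
    (htors : ∀ i (z : M), ∃ n : ℕ, x i ^ n • z = 0)
    (S : Finset ι) : ∀ (N : Submodule A M), (∀ i ∈ S, ∀ z ∈ N, D i z ∈ N) →
      ∀ (zz : ι → M), (∀ i ∈ S, zz i ∈ N) → (∀ i ∈ S, ∀ j ∈ S, x i • zz j = x j • zz i) →
      ∃ z ∈ N, ∀ i ∈ S, x i • z = zz i := by
  induction S using Finset.induction_on with
  | empty =>
    intro N _ zz _ _
    exact ⟨0, N.zero_mem, by simp⟩
  | insert a S ha ih =>
    intro N hN zz hzz hrel
    have haS : a ∈ insert a S := Finset.mem_insert_self _ _
    obtain ⟨w, hwN, hw⟩ := smul_surj_of_D (x a) (D a) N (hcomm a) hinv (hN a haS) (htors a)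
      (zz a) (hzz a haS)
    let N' : Submodule A M := N ⊓ LinearMap.ker (LinearMap.lsmul A M (x a))
    have hmemN' : ∀ z, z ∈ N' ↔ z ∈ N ∧ x a • z = 0 := by
      intro z
      simp [N', Submodule.mem_inf, LinearMap.mem_ker]
    have hstab : ∀ i ∈ S, ∀ z ∈ N', D i z ∈ N' := by
      intro i hi z hz
      have hia : i ≠ a := fun h => ha (h ▸ hi)
      rw [hmemN'] at hz ⊢
      refine ⟨hN i (Finset.mem_insert_of_mem hi) z hz.1, ?_⟩
      rw [← hcommD i a hia, hz.2, map_zero]
    have hmem : ∀ j ∈ S, zz j - x j • w ∈ N' := by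
      intro j hj
      rw [hmemN']
      refine ⟨N.sub_mem (hzz j (Finset.mem_insert_of_mem hj)) (N.smul_mem _ hwN), ?_⟩
      rw [smul_sub, smul_comm (x a) (x j) w, hw, hrel a haS j (Finset.mem_insert_of_mem hj),
        sub_self]
    have hrel' : ∀ i ∈ S, ∀ j ∈ S,
        x i • (zz j - x j • w) = x j • (zz i - x i • w) := by
      intro i hi j hj
      rw [smul_sub, smul_sub, hrel i (Finset.mem_insert_of_mem hi) j (Finset.mem_insert_of_mem hj),
        smul_comm (x i) (x j) w]
    obtain ⟨z', hz'N, hz'⟩ := ih N' hstab (fun j => zz j - x j • w) hmem hrel'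
    refine ⟨w + z', N.add_mem hwN ((hmemN' z').1 hz'N).1, ?_⟩
    intro i hi
    rcases Finset.mem_insert.1 hi with rfl | hi
    · rw [smul_add, hw, ((hmemN' z').1 hz'N).2, add_zero]
    · rw [smul_add, hz' i hi]
      abel

end Koszul

end Groth.Agent.Lib.Helper58.TorsE
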